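import Cfsg.Agent.SmallSimple.M11Nse
import Mathlib.GroupTheory.Perm.Cycle.Type
import Mathlib.GroupTheory.Perm.Sign

/-!
# Counting tools for a group recognised by the numbers of elements of each order
-/

set_option autoImplicit false
set_option linter.style.haveILetI false
set_option linter.unusedSectionVars false

namespace CfsgLib.M12Nse

open Subgroup CfsgLib.M11Nse

variable {G : Type*} [Group G]

/-- The centralizer of an element. -/
abbrev cz (g : G) : Subgroup G := centralizer ({g} : Set G)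

theorem mem_cz {g x : G} : x ∈ cz g ↔ x * g = g * x := mem_centralizer_singleton_iff

theorem self_mem_cz (g : G) : g ∈ cz g := mem_cz.2 rfl

theorem orderOf_eq_of_isConj {g h : G} (hgh : IsConj g h) : orderOf h = orderOf g := by
  obtain ⟨c, rfl⟩ := isConj_iff.1 hgh
  exact MulEquiv.orderOf_eq (MulAut.conj c) g

/-- Conjugation of subtypes. -/
def conjEquiv (c : G) (P Q : G → Prop) (h : ∀ x, P x ↔ Q (c * x * c⁻¹)) : {x // P x} ≃ {x // Q x} :=
  Equiv.subtypeEquiv (MulAut.conj c).toEquiv h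

theorem cz_conj (c g : G) : Nat.card (cz (c * g * c⁻¹)) = Nat.card (cz g) := by
  refine (Nat.card_congr (conjEquiv c (· ∈ cz g) (· ∈ cz (c * g * c⁻¹)) fun x => ?_)).symm
  rw [mem_cz, mem_cz]
  constructor
  · intro h
    calc c * x * c⁻¹ * (c * g * c⁻¹) = c * (x * g) * c⁻¹ := by group
      _ = _ := by rw [h]; group
  · intro h
    have := congrArg (fun t => c⁻¹ * t * c) h
    simpa [mul_assoc] using this

theorem card_cz_conj {g h : G} (hgh : IsConj g h) : Nat.card (cz h) = Nat.card (cz g) := by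
  obtain ⟨c, rfl⟩ := isConj_iff.1 hgh
  exact cz_conj c g

section Finite

variable [Finite G]

theorem card_conj (g : G) : Nat.card {x : G // IsConj g x} = (cz g).index := by
  have h : (cz g).index = (MulAction.orbit (ConjAct G) g).ncard := by
    rw [← MulAction.index_stabilizer, ConjAct.stabilizer_eq_centralizer]
    rfl
  rw [h, ← Nat.card_coe_set_eq]
  exact Nat.card_congr (Equiv.subtypeEquivRight fun x => (ConjAct.mem_orbit_conjAct.trans isConj_comm).symm)

theorem index_eq_div {g : G} {c : ℕ} (h : Nat.card (cz g) = c) : (cz g).index * c = Nat.card G := by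
  rw [← h, mul_comm, card_mul_index]

/-- A conjugation invariant set is divisible by a common divisor of the class sizes. -/
theorem dvd_card_of_index {p : G → Prop} (hp : ∀ g h, IsConj g h → p g → p h) {d : ℕ}
    (h : ∀ g, p g → d ∣ (cz g).index) : d ∣ Nat.card {g : G // p g} := by
  classical
  haveI := Fintype.ofFinite G
  rw [Nat.card_eq_fintype_card, Fintype.card_subtype,
    Finset.card_eq_sum_card_fiberwise (f := ConjClasses.mk) (t := Finset.univ) fun _ _ => Finset.mem_univ _]
  refine Finset.dvd_sum fun c _ => ?_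
  by_cases hc : ∃ g, p g ∧ ConjClasses.mk g = c
  · obtain ⟨g, hg, rfl⟩ := hc
    refine (h g hg).trans (dvd_of_eq ?_)
    rw [← card_conj, Nat.card_eq_fintype_card, Fintype.card_subtype, Finset.filter_filter]
    congr 1
    ext x
    simp only [Finset.mem_filter, Finset.mem_univ, true_and, ConjClasses.mk_eq_mk_iff_isConj]
    exact ⟨fun hx => ⟨hp g x hx hg, hx.symm⟩, fun hx => hx.2.symm⟩
  · push Not at hc
    rw [Finset.card_eq_zero.2]
    · exact dvd_zero d
    · rw [Finset.filter_eq_empty_iff]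
      intro x hx
      exact hc x (Finset.mem_filter.1 hx).2

/-- The number of members of the class of `a` commuting with `b`. -/
noncomputable def nIn (a b : G) : ℕ := Nat.card {x : G // IsConj a x ∧ x * b = b * x}

theorem nIn_conj (a : G) {b b' : G} (h : IsConj b b') : nIn a b' = nIn a b := by
  obtain ⟨c, rfl⟩ := isConj_iff.1 h
  refine (Nat.card_congr (conjEquiv c (fun x => IsConj a x ∧ x * b = b * x)
    (fun x => IsConj a x ∧ x * (c * b * c⁻¹) = c * b * c⁻¹ * x) fun x => ?_)).symm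
  have hc : IsConj x (c * x * c⁻¹) := isConj_iff.2 ⟨c, rfl⟩
  refine and_congr ⟨fun h => h.trans hc, fun h => h.trans hc.symm⟩ ?_
  constructor
  · intro h
    calc c * x * c⁻¹ * (c * b * c⁻¹) = c * (x * b) * c⁻¹ := by group
      _ = _ := by rw [h]; group
  · intro h
    have := congrArg (fun t => c⁻¹ * t * c) h
    simpa [mul_assoc] using this

/-- Counting pairs by their first entry. -/
theorem card_pairs {α β : Type*} [Finite α] [Finite β] (P : α → Prop) (R : α → β → Prop) {m : ℕ}
    (h : ∀ a, P a → Nat.card {b // R a b} = m) :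
    Nat.card {p : α × β // P p.1 ∧ R p.1 p.2} = Nat.card {a // P a} * m := by
  classical
  haveI := Fintype.ofFinite {a // P a}
  let e : {p : α × β // P p.1 ∧ R p.1 p.2} ≃ Σ a : {a // P a}, {b // R a.1 b} :=
    { toFun := fun p => ⟨⟨p.1.1, p.2.1⟩, ⟨p.1.2, p.2.2⟩⟩
      invFun := fun s => ⟨(s.1.1, s.2.1), s.1.2, s.2.2⟩
      left_inv := fun _ => rfl
      right_inv := fun _ => rfl }
  rw [Nat.card_congr e, Nat.card_sigma, Finset.sum_const_nat fun a _ => h a.1 a.2, Finset.card_univ,
    Nat.card_eq_fintype_card]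

/-- Commuting pairs from two classes, counted in the two ways. -/
theorem pair_count (a b : G) : (cz a).index * nIn b a = (cz b).index * nIn a b := by
  rw [← card_conj, ← card_conj,
    ← card_pairs (IsConj a) (fun g h => IsConj b h ∧ h * g = g * h) fun g hg => nIn_conj b hg,
    ← card_pairs (IsConj b) (fun g h => IsConj a h ∧ h * g = g * h) fun g hg => nIn_conj a hg]
  exact Nat.card_congr
    { toFun := fun p => ⟨(p.1.2, p.1.1), p.2.2.1, p.2.1, p.2.2.2.symm⟩
      invFun := fun p => ⟨(p.1.2, p.1.1), p.2.2.1, p.2.1, p.2.2.2.symm⟩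
      left_inv := fun _ => rfl
      right_inv := fun _ => rfl }

/-- An element of order `a * b` is a commuting pair of elements of orders `a` and `b`. -/
theorem cnt_mul {a b : ℕ} (ha : 0 < a) (hb : 0 < b) (hab : a.Coprime b) : cnt G (a * b) =
    Nat.card {p : G × G // orderOf p.1 = a ∧ orderOf p.2 = b ∧ Commute p.1 p.2} := by
  obtain ⟨e1, he1a, he1b⟩ := Nat.chineseRemainder hab 1 0
  obtain ⟨e2, he2a, he2b⟩ := Nat.chineseRemainder hab 0 1
  have key : ∀ p : G × G, orderOf p.1 = a → orderOf p.2 = b → Commute p.1 p.2 →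
      (p.1 * p.2) ^ e1 = p.1 ∧ (p.1 * p.2) ^ e2 = p.2 := by
    intro p h1 h2 hc
    rw [hc.mul_pow, hc.mul_pow]
    have hx : ∀ (x : G) {n r : ℕ}, orderOf x = r → ∀ k, n ≡ k [MOD r] → x ^ n = x ^ k := fun x n r hr k h =>
      pow_eq_pow_iff_modEq.2 (hr ▸ h)
    rw [hx _ h1 1 he1a, hx _ h2 0 he1b, hx _ h1 0 he2a, hx _ h2 1 he2b]
    simp
  refine (Nat.card_eq_of_bijective
    (fun p : {p : G × G // orderOf p.1 = a ∧ orderOf p.2 = b ∧ Commute p.1 p.2} =>
      (⟨p.1.1 * p.1.2, by
        rw [p.2.2.2.orderOf_mul_eq_mul_orderOf_of_coprime (by rw [p.2.1, p.2.2.1]; exact hab), p.2.1,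
          p.2.2.1]⟩ : {g : G // orderOf g = a * b})) ⟨fun p q h => ?_, fun g => ?_⟩).symm
  · have h' : p.1.1 * p.1.2 = q.1.1 * q.1.2 := congrArg Subtype.val h
    obtain ⟨p1, p2⟩ := key p.1 p.2.1 p.2.2.1 p.2.2.2
    obtain ⟨q1, q2⟩ := key q.1 q.2.1 q.2.2.1 q.2.2.2
    exact Subtype.ext (Prod.ext (by rw [← p1, h', q1]) (by rw [← p2, h', q2]))
  · obtain ⟨g, hg⟩ := g
    have hsum : g ^ e1 * g ^ e2 = g := by
      rw [← pow_add]
      conv_rhs => rw [← pow_one g]
      rw [pow_eq_pow_iff_modEq, hg, ← Nat.modEq_and_modEq_iff_modEq_mul hab]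
      exact ⟨by simpa using he1a.add he2a, by simpa using he1b.add he2b⟩
    have ho : ∀ e : ℕ, Commute (g ^ e1) (g ^ e2) := fun _ => Commute.pow_pow_self g e1 e2
    have h1 : orderOf (g ^ e1) ∣ a := by
      refine orderOf_dvd_of_pow_eq_one ?_
      rw [← pow_mul, ← pow_zero g, pow_eq_pow_iff_modEq, hg, ← Nat.modEq_and_modEq_iff_modEq_mul hab]
      exact ⟨Nat.modEq_zero_iff_dvd.2 (dvd_mul_left a e1), by simpa using he1b.mul_right a⟩
    have h2 : orderOf (g ^ e2) ∣ b := by
      refine orderOf_dvd_of_pow_eq_one ?_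
      rw [← pow_mul, ← pow_zero g, pow_eq_pow_iff_modEq, hg, ← Nat.modEq_and_modEq_iff_modEq_mul hab]
      exact ⟨by simpa using he2a.mul_right b, Nat.modEq_zero_iff_dvd.2 (dvd_mul_left b e2)⟩
    have hm : a * b ∣ orderOf (g ^ e1) * orderOf (g ^ e2) := by
      have := (ho 0).orderOf_mul_dvd_mul_orderOf
      rwa [hsum, hg] at this
    have h1' : orderOf (g ^ e1) = a := Nat.dvd_antisymm h1
      ((Nat.mul_dvd_mul_iff_right hb).1 (hm.trans (Nat.mul_dvd_mul_left _ h2)))
    have h2' : orderOf (g ^ e2) = b := Nat.dvd_antisymm h2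
      ((Nat.mul_dvd_mul_iff_left ha).1 (hm.trans (Nat.mul_dvd_mul_right h1 _)))
    exact ⟨⟨(g ^ e1, g ^ e2), h1', h2', ho 0⟩, Subtype.ext hsum⟩

/-- Counting fixed points of conjugation by an element of prime power order. -/
theorem card_modEq_fixed {p : ℕ} [Fact p.Prime] {x : G} {n : ℕ} (hx : x ^ p ^ n = 1) (P : G → Prop)
    (hP : ∀ g, P g ↔ P (x * g * x⁻¹)) :
    Nat.card {g // P g} ≡ Nat.card {g // P g ∧ g * x = x * g} [MOD p] := by
  classical
  haveI := Fintype.ofFinite G
  let f : G →* Equiv.Perm G :=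
    { toFun := fun c => (MulAut.conj c).toEquiv
      map_one' := by ext; simp
      map_mul' := fun a b => by ext; simp [mul_assoc] }
  let σ : Equiv.Perm {g // P g} := (f x).subtypePerm fun g => (hP g).symm
  have hσn : ∀ (k : ℕ) (g : {g // P g}), ((σ ^ k) g : G) = x ^ k * g * (x ^ k)⁻¹ := by
    intro k
    induction k with
    | zero => intro g; simp
    | succ k ih =>
      intro g
      rw [pow_succ', pow_succ', Equiv.Perm.mul_apply]
      show x * ((σ ^ k) g : G) * x⁻¹ = _
      rw [ih]; group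
  have hσ : σ ^ p ^ n = 1 := by
    ext g
    rw [hσn, hx]; simp
  have h := Equiv.Perm.card_compl_support_modEq hσ
  rw [← Nat.card_eq_fintype_card] at h
  refine h.symm.trans ?_
  rw [← Fintype.card_coe, ← Nat.card_eq_fintype_card]
  suffices he : Nat.card (σ.supportᶜ : Finset _) = Nat.card {g // P g ∧ g * x = x * g} by rw [he]
  refine Nat.card_congr
    { toFun := fun g => ⟨g.1.1, g.1.2, ?_⟩
      invFun := fun g => ⟨⟨g.1, g.2.1⟩, ?_⟩
      left_inv := fun _ => rfl
      right_inv := fun _ => rfl }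
  · have := g.2
    rw [Finset.mem_compl, Equiv.Perm.mem_support, not_not] at this
    have h' : x * g.1.1 * x⁻¹ = g.1.1 := congrArg Subtype.val this
    exact (mul_inv_eq_iff_eq_mul.1 h').symm
  · rw [Finset.mem_compl, Equiv.Perm.mem_support, not_not]
    exact Subtype.ext (mul_inv_eq_iff_eq_mul.2 g.2.2.symm)

/-- A normalised subgroup has a normalised Sylow subgroup. -/
theorem exists_sylow_normalized {p : ℕ} [hp : Fact p.Prime] {q : ℕ} [hq : Fact q.Prime] {x : G}
    (hx : x ^ p = 1) (H : Subgroup G) (hpH : ¬ p ∣ Nat.card H) (hn : ∀ h, h ∈ H ↔ x * h * x⁻¹ ∈ H) :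
    ∃ Q : Subgroup G, Q ≤ H ∧ Nat.card Q = q ^ (Nat.card H).factorization q ∧
      ∀ g, g ∈ Q ↔ x * g * x⁻¹ ∈ Q := by
  classical
  let S := {Q : Subgroup G | Q ≤ H ∧ Nat.card Q = q ^ (Nat.card H).factorization q}
  have hS : S.ncard = Nat.card (Sylow q H) := by
    rw [← Nat.card_coe_set_eq]
    refine (Nat.card_eq_of_bijective (fun P : Sylow q H => (⟨(P : Subgroup H).map H.subtype,
      map_subtype_le _, by rw [card_map_of_injective H.subtype_injective, P.card_eq_multiplicity]⟩ : S))
      ⟨fun P Q h => Sylow.ext (map_injective H.subtype_injective (congrArg Subtype.val h)),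
       fun Q => ?_⟩).symm
    obtain ⟨Q, hQH, hQc⟩ := Q
    refine ⟨Sylow.ofCard (Q.subgroupOf H) ?_, Subtype.ext ?_⟩
    · rw [Nat.card_congr (subgroupOfEquivOfLe hQH).toEquiv, hQc]
    · simp [map_subgroupOf_eq_of_le hQH]
  have hnd : ¬ p ∣ S.ncard := fun h => hpH (by
    obtain ⟨P⟩ : Nonempty (Sylow q H) := inferInstance
    exact (hS ▸ h : p ∣ Nat.card (Sylow q H)).trans (P.card_dvd_index.trans (index_dvd_card _)))
  haveI := Fintype.ofFinite S
  have hmem : ∀ Q ∈ S, Q.map (MulAut.conj x).toMonoidHom ∈ S := fun Q hQ => ⟨by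
    rintro _ ⟨g, hg, rfl⟩
    exact (hn g).1 (hQ.1 hg), by
    rw [card_map_of_injective (MulAut.conj x).injective]; exact hQ.2⟩
  let τ : S → S := fun Q => ⟨_, hmem Q.1 Q.2⟩
  have hτ : Function.Injective τ := fun Q R h =>
    Subtype.ext (map_injective (MulAut.conj x).injective (congrArg Subtype.val h))
  let σ : Equiv.Perm S := Equiv.ofBijective τ (Finite.injective_iff_bijective.1 hτ)
  have hσn : ∀ (k : ℕ) (Q : S), ((σ ^ k) Q : Subgroup G) = (Q : Subgroup G).map (MulAut.conj (x ^ k)).toMonoidHom := by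
    intro k
    induction k with
    | zero => intro Q; ext; simp
    | succ k ih =>
      intro Q
      rw [pow_succ', pow_succ', Equiv.Perm.mul_apply]
      show Subgroup.map _ ((σ ^ k) Q : Subgroup G) = _
      rw [ih, map_map]
      congr 1
      ext g; simp [mul_assoc]
  have hσ : σ ^ p ^ 1 = 1 := by
    ext Q : 1
    refine Subtype.ext ?_
    rw [hσn, pow_one, hx]
    ext g; simp
  obtain ⟨Q, hQ⟩ := Equiv.Perm.exists_fixed_point_of_prime (p := p) (α := S)
    (by rwa [← Nat.card_eq_fintype_card, Nat.card_coe_set_eq]) hσ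
  have hfix : (Q : Subgroup G).map (MulAut.conj x).toMonoidHom = Q := congrArg Subtype.val hQ
  refine ⟨Q, Q.2.1, Q.2.2, fun g => ⟨fun hg => hfix ▸ ⟨g, hg, rfl⟩, fun hg => ?_⟩⟩
  rw [← hfix] at hg
  obtain ⟨g', hg', e⟩ := hg
  rwa [← (MulAut.conj x).injective (show MulAut.conj x g' = MulAut.conj x g from e)]

/-- Conjugation on a class, as permutations. -/
noncomputable def classPerm (a : G) : G →* Equiv.Perm {x : G // IsConj a x} where
  toFun g := conjEquiv g _ _ fun x =>
    ⟨fun h => h.trans (isConj_iff.2 ⟨g, rfl⟩), fun h => h.trans (isConj_iff.2 ⟨g, rfl⟩).symm⟩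
  map_one' := by ext x; simp [conjEquiv]
  map_mul' g h := by ext x; simp [conjEquiv, mul_assoc]

/-- An involution in a non-abelian simple group acts as an even permutation. -/
theorem even_perm [IsSimpleGroup G] (hG : ¬ IsMulCommutative G) {α : Type*} [Finite α]
    (φ : G →* Equiv.Perm α) {g : G} (hg : g * g = 1) :
    ∃ m, Nat.card α = Nat.card {a : α // φ g a = a} + 4 * m := by
  classical
  haveI := Fintype.ofFinite α
  have hs : Equiv.Perm.sign (φ g) = 1 := by
    rcases (Equiv.Perm.sign.comp φ).normal_ker.eq_bot_or_eq_top with h | h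
    · refine absurd (⟨⟨fun x y => (MonoidHom.ker_eq_bot_iff _).1 h ?_⟩⟩ : IsMulCommutative G) hG
      rw [map_mul, map_mul, mul_comm]
    · exact (MonoidHom.mem_ker (f := Equiv.Perm.sign.comp φ)).1 (h ▸ mem_top g)
  have hrep : ∀ n ∈ (φ g).cycleType, n = 2 := fun n hn => by
    have h1 := Equiv.Perm.two_le_of_mem_cycleType hn
    have h3 : n ∣ 2 := (Equiv.Perm.dvd_of_mem_cycleType hn).trans
      (orderOf_dvd_of_pow_eq_one (by rw [sq, ← map_mul, hg, map_one]))
    have := Nat.le_of_dvd two_pos h3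
    omega
  have hct := Multiset.eq_replicate_card.mpr hrep
  have hsum := (φ g).sum_cycleType
  rw [hct, Multiset.sum_replicate, smul_eq_mul] at hsum
  rw [Equiv.Perm.sign_of_cycleType, hct, Multiset.sum_replicate, Multiset.card_replicate, smul_eq_mul,
    neg_one_pow_eq_one_iff_even (by decide)] at hs
  obtain ⟨j, hj⟩ := hs
  refine ⟨(φ g).support.card / 4, ?_⟩
  have hfix : Nat.card {a : α // φ g a = a} + (φ g).support.card = Nat.card α := by
    rw [Nat.card_eq_fintype_card, Fintype.card_subtype, Nat.card_eq_fintype_card, ← Finset.card_univ,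
      ← Finset.card_filter_add_card_filter_not (s := (Finset.univ : Finset α)) fun a => φ g a = a]
    congr 2
  omega

/-- Fixed points of an involution on a class. -/
theorem fix_class [IsSimpleGroup G] (hG : ¬ IsMulCommutative G) (a : G) {g : G} (hg : g * g = 1) :
    ∃ m, (cz a).index = nIn a g + 4 * m := by
  obtain ⟨m, hm⟩ := even_perm hG (classPerm a) hg
  refine ⟨m, ?_⟩
  rw [← card_conj, hm]
  congr 1
  refine Nat.card_congr
    { toFun := fun x => ⟨x.1.1, x.1.2, ?_⟩
      invFun := fun x => ⟨⟨x.1, x.2.1⟩, ?_⟩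
      left_inv := fun _ => rfl
      right_inv := fun _ => rfl }
  · have h : g * x.1.1 * g⁻¹ = x.1.1 := congrArg Subtype.val x.2
    exact (mul_inv_eq_iff_eq_mul.1 h).symm
  · exact Subtype.ext (mul_inv_eq_iff_eq_mul.2 x.2.2.symm)

/-- Fixed points of an involution on the cosets of a subgroup. -/
theorem fix_coset [IsSimpleGroup G] (hG : ¬ IsMulCommutative G) (M : Subgroup G) {u : G} (hu : u * u = 1) :
    ∃ f m, M.index = f + 4 * m ∧ f * (cz u).index = M.index * Nat.card {x : G // IsConj u x ∧ x ∈ M} := by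
  obtain ⟨m, hm⟩ := even_perm hG (MulAction.toPermHom G (G ⧸ M)) hu
  refine ⟨Nat.card {a : G ⧸ M // u • a = a}, m, hm, ?_⟩
  have hfix : ∀ h, IsConj u h → Nat.card {a : G ⧸ M // h • a = a} = Nat.card {a : G ⧸ M // u • a = a} := by
    intro h hh
    obtain ⟨c, rfl⟩ := isConj_iff.1 hh
    refine (Nat.card_congr (Equiv.subtypeEquiv (MulAction.toPerm c) fun a => ?_)).symm
    rw [MulAction.toPerm_apply, smul_smul, inv_mul_cancel_right, mul_smul, smul_left_cancel_iff]
  have hin : ∀ a : G ⧸ M, True →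
      Nat.card {h : G // IsConj u h ∧ h • a = a} = Nat.card {x : G // IsConj u x ∧ x ∈ M} := by
    intro a _
    obtain ⟨c, rfl⟩ := QuotientGroup.mk_surjective a
    refine Nat.card_congr (conjEquiv c⁻¹ _ _ fun h => ?_)
    refine and_congr ⟨fun h' => h'.trans (isConj_iff.2 ⟨c⁻¹, rfl⟩),
      fun h' => h'.trans (isConj_iff.2 ⟨c⁻¹, rfl⟩).symm⟩ ?_
    show (QuotientGroup.mk (h * c) : G ⧸ M) = QuotientGroup.mk c ↔ _
    rw [eq_comm, QuotientGroup.eq, inv_inv, mul_assoc]
  have h1 := card_pairs (IsConj u) (fun (h : G) (a : G ⧸ M) => h • a = a) hfix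
  have h2 := card_pairs (fun _ : G ⧸ M => True) (fun a h => IsConj u h ∧ h • a = a) hin
  have he : Nat.card {p : G × (G ⧸ M) // IsConj u p.1 ∧ p.1 • p.2 = p.2} =
      Nat.card {p : (G ⧸ M) × G // True ∧ IsConj u p.2 ∧ p.2 • p.1 = p.1} :=
    Nat.card_congr
      { toFun := fun p => ⟨(p.1.2, p.1.1), trivial, p.2⟩
        invFun := fun p => ⟨(p.1.2, p.1.1), p.2.2⟩
        left_inv := fun _ => rfl
        right_inv := fun _ => rfl }
  rw [he, h2, Nat.card_congr (Equiv.subtypeUnivEquiv fun _ => trivial), ← index_eq_card, card_conj,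
    mul_comm (cz u).index] at h1
  exact h1.symm

end Finite

end CfsgLib.M12Nse
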