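import Cfsg.Agent.M12Nse.Basic
import Mathlib.GroupTheory.Transfer
import Mathlib.GroupTheory.Sylow
import Cfsg.Agent.SmallSimple.CountOrders

/-!
# The elements of order 11, and simplicity
-/

set_option autoImplicit false
set_option linter.style.haveILetI false
set_option linter.unusedSectionVars false

namespace CfsgLib.M12Nse

open Subgroup CfsgLib.M11Nse CfsgLib.SmallSimple

variable {G : Type*} [Group G] [Finite G]

/-- A group of order 95040 whose numbers of elements of each order are among those of `M₁₂`. -/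
structure Counts (G : Type*) [Group G] : Prop where
  card : Nat.card G = 95040
  vals : ∀ n, cnt G n ∈ ({0, 1, 891, 4400, 5940, 9504, 17280, 23760} : Finset ℕ)

theorem Counts.cases (H : Counts G) (n : ℕ) : cnt G n = 0 ∨ cnt G n = 1 ∨ cnt G n = 891 ∨ cnt G n = 4400 ∨
    cnt G n = 5940 ∨ cnt G n = 9504 ∨ cnt G n = 17280 ∨ cnt G n = 23760 := by
  simpa using H.vals n

theorem cnt_pos {n : ℕ} {g : G} (h : orderOf g = n) : 0 < cnt G n :=
  Nat.card_pos_iff.2 ⟨⟨⟨g, h⟩⟩, inferInstance⟩

theorem exists_of_cnt {n : ℕ} (h : cnt G n ≠ 0) : ∃ g : G, orderOf g = n := by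
  obtain ⟨⟨⟨g, hg⟩⟩⟩ := Nat.card_pos_iff.1 (Nat.pos_of_ne_zero h)
  exact ⟨g, hg⟩

theorem card_sylow_mul' {p : ℕ} [Fact p.Prime] (P : Sylow p G) :
    Nat.card (Sylow p G) * Nat.card (normalizer ((P : Subgroup G) : Set G)) = Nat.card G :=
  CfsgLib.SmallSimple.card_sylow_mul P

namespace Counts

variable (H : Counts G)
include H

theorem sylow_eleven [Fact (Nat.Prime 11)] (P : Sylow 11 G) : Nat.card (P : Subgroup G) = 11 := by
  rw [card_sylow_eq P (k := 1) (m := 8640) (by rw [H.card]; norm_num) (by norm_num), pow_one]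

theorem eleven_count [Fact (Nat.Prime 11)] : Nat.card (Sylow 11 G) = 1728 ∧
    ∀ P : Sylow 11 G, Nat.card (normalizer ((P : Subgroup G) : Set G)) = 55 := by
  have hc := cnt_prime (G := G) (p := 11) (fun P => H.sylow_eleven P)
  obtain ⟨P⟩ : Nonempty (Sylow 11 G) := inferInstance
  have hd : Nat.card (Sylow 11 G) ∣ 8640 := by
    have h1 := (P : Subgroup G).card_mul_index
    rw [H.sylow_eleven P, H.card] at h1
    exact (show (P : Subgroup G).index = 8640 by omega) ▸ P.card_dvd_index
  have hm : Nat.card (Sylow 11 G) % 11 = 1 := card_sylow_modEq_one 11 G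
  have h0 : 0 < Nat.card (Sylow 11 G) := Nat.card_pos
  have hn : Nat.card (Sylow 11 G) = 1728 := by
    rcases H.cases 11 with h | h | h | h | h | h | h | h <;> rw [h] at hc
    all_goals omega
  refine ⟨hn, fun P => ?_⟩
  have h := card_sylow_mul' P
  rw [hn, H.card] at h
  omega

theorem eleven_centralizer [Fact (Nat.Prime 11)] {x : G} (hx : orderOf x = 11) : Nat.card (cz x) = 11 := by
  classical
  obtain ⟨hn, hN⟩ := H.eleven_count
  have hc : Nat.card (zpowers x) = 11 := by rw [Nat.card_zpowers, hx]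
  let P : Sylow 11 G := Sylow.ofCard (zpowers x) (by
    rw [hc, H.card, show (95040 : ℕ) = 11 ^ 1 * 8640 by norm_num,
      Nat.factorization_mul (by norm_num) (by norm_num), Finsupp.add_apply,
      Nat.Prime.factorization_pow (by norm_num), Finsupp.single_eq_same,
      Nat.factorization_eq_zero_of_not_dvd (by norm_num)]
    norm_num)
  have hPx : (P : Subgroup G) = zpowers x := rfl
  have hle : cz x = centralizer ((P : Subgroup G) : Set G) := by
    rw [hPx, zpowers_eq_closure, centralizer_closure]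
  have hCN : cz x ≤ normalizer ((P : Subgroup G) : Set G) := hle ▸ centralizer_le_normalizer _
  have hd : Nat.card (cz x) ∣ 55 := hN P ▸ card_dvd_of_le hCN
  have h11 : 11 ∣ Nat.card (cz x) := hc ▸ card_dvd_of_le (zpowers_le.2 (self_mem_cz x))
  have h55 : Nat.card (cz x) ≠ 55 := by
    intro h
    have heq : normalizer ((P : Subgroup G) : Set G) = cz x :=
      (eq_of_le_of_card_ge hCN (by rw [h, hN P])).symm
    have hNC : normalizer ((P : Subgroup G) : Set G) ≤ centralizer ((P : Subgroup G) : Set G) := by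
      rw [heq, hle]
    have hK := MonoidHom.ker_transferSylow_isComplement' P hNC
    set K := (MonoidHom.transferSylow P hNC).ker with hKdef
    have hKc : Nat.card K = 8640 := by
      have h' := hK.card_mul_card
      rw [H.sylow_eleven P, H.card] at h'
      omega
    haveI : Fact (Nat.Prime 2) := ⟨Nat.prime_two⟩
    have hKn : ∀ g, g ∈ K ↔ x * g * x⁻¹ ∈ K := fun g => by
      refine ⟨fun hg => (inferInstance : K.Normal).conj_mem g hg x, fun hg => ?_⟩
      have := (inferInstance : K.Normal).conj_mem _ hg x⁻¹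
      simpa [mul_assoc] using this
    obtain ⟨Q, hQK, hQc, hQn⟩ := exists_sylow_normalized (p := 11) (q := 2) (x := x)
      (by rw [← hx, pow_orderOf_eq_one]) K (by rw [hKc]; norm_num) hKn
    have hf : (8640 : ℕ).factorization 2 = 6 := by
      rw [show (8640 : ℕ) = 2 ^ 6 * 135 by norm_num,
        Nat.factorization_mul (by norm_num) (by norm_num), Finsupp.add_apply,
        Nat.Prime.factorization_pow (by norm_num), Finsupp.single_eq_same,
        Nat.factorization_eq_zero_of_not_dvd (by norm_num)]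
    rw [hKc, hf] at hQc
    have hmod := card_modEq_fixed (p := 11) (n := 1) (x := x) (by rw [pow_one, ← hx, pow_orderOf_eq_one])
      (· ∈ Q) hQn
    have hone : Nat.card {g // g ∈ Q ∧ g * x = x * g} = 1 := by
      refine Nat.card_eq_one_iff_unique.2 ⟨⟨fun a b => Subtype.ext ?_⟩, ⟨⟨1, one_mem _, by simp⟩⟩⟩
      have : ∀ g : G, g ∈ Q → g * x = x * g → g = 1 := fun g hg hgx => by
        have h1 : orderOf g ∣ 55 := h ▸ Subgroup.orderOf_dvd_natCard (cz x) (mem_cz.2 hgx)
        have h2 : orderOf g ∣ 2 ^ 6 := hQc ▸ Subgroup.orderOf_dvd_natCard Q hg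
        have := Nat.dvd_gcd h1 h2
        norm_num at this
        exact orderOf_eq_one_iff.1 (by simpa using this)
      rw [this a a.2.1 a.2.2, this b b.2.1 b.2.2]
    rw [hone] at hmod
    have : Nat.card {g // g ∈ Q} = 64 := by rw [show (64 : ℕ) = 2 ^ 6 by norm_num]; exact hQc
    rw [this] at hmod
    simp [Nat.ModEq] at hmod
  obtain ⟨c, hcc⟩ := h11
  rw [hcc] at hd h55 ⊢
  have : c ∣ 5 := Nat.dvd_of_mul_dvd_mul_left (by norm_num : 0 < 11) (by simpa using hd)
  rcases (Nat.dvd_prime (by norm_num)).1 this with rfl | rfl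
  · rfl
  · exact absurd rfl h55

/-- An element centralizing an element of order 11 is one of its powers. -/
theorem orderOf_of_commute [Fact (Nat.Prime 11)] {x g : G} (hx : orderOf x = 11) (hg : g * x = x * g) :
    orderOf g ∣ 11 :=
  H.eleven_centralizer hx ▸ Subgroup.orderOf_dvd_natCard _ (mem_cz.2 hg)

theorem not_eleven_dvd {g : G} (hg : g ≠ 1) (h11 : orderOf g ≠ 11) : ¬ 11 ∣ Nat.card (cz g) := by
  haveI : Fact (Nat.Prime 11) := ⟨by norm_num⟩
  intro h
  obtain ⟨x, hx⟩ := exists_prime_orderOf_dvd_card' (G := cz g) 11 h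
  rw [← Subgroup.orderOf_coe] at hx
  rcases (Nat.dvd_prime (by norm_num)).1 (H.orderOf_of_commute hx (mem_cz.1 x.2).symm) with e | e
  · exact hg (orderOf_eq_one_iff.1 e)
  · exact h11 e

/-- A group of these counts is simple. -/
theorem isSimple : IsSimpleGroup G := by
  classical
  haveI : Fact (Nat.Prime 11) := ⟨by norm_num⟩
  haveI : Nontrivial G := Finite.one_lt_card_iff_nontrivial.1 (by rw [H.card]; norm_num)
  obtain ⟨x, hx⟩ := exists_prime_orderOf_dvd_card' (G := G) 11 (by rw [H.card]; norm_num)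
  -- a subgroup of order prime to 11 normalized by `x` is trivial
  have key : ∀ K : Subgroup G, (∀ g, g ∈ K ↔ x * g * x⁻¹ ∈ K) → ¬ 11 ∣ Nat.card K → Nat.card K = 1 := by
    intro K hn h11
    by_contra h1
    obtain ⟨q, hq, hqK⟩ := Nat.exists_prime_and_dvd h1
    haveI := Fact.mk hq
    obtain ⟨Q, hQK, hQc, hQn⟩ := exists_sylow_normalized (p := 11) (q := q) (x := x)
      (by rw [← hx, pow_orderOf_eq_one]) K h11 hn
    set a := (Nat.card K).factorization q with ha
    have ha0 : 0 < a := hq.factorization_pos_of_dvd (Nat.card_pos).ne' hqK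
    have hmod := card_modEq_fixed (p := 11) (n := 1) (x := x) (by rw [pow_one, ← hx, pow_orderOf_eq_one])
      (· ∈ Q) hQn
    have hone : Nat.card {g // g ∈ Q ∧ g * x = x * g} = 1 := by
      refine Nat.card_eq_one_iff_unique.2 ⟨⟨fun a b => Subtype.ext ?_⟩, ⟨⟨1, one_mem _, by simp⟩⟩⟩
      have : ∀ g : G, g ∈ Q → g * x = x * g → g = 1 := fun g hg hgx => by
        rcases (Nat.dvd_prime (by norm_num)).1 (H.orderOf_of_commute hx hgx) with e | e
        · exact orderOf_eq_one_iff.1 e
        · exact absurd (e ▸ (Subgroup.orderOf_dvd_natCard Q hg).trans (card_dvd_of_le hQK)) h11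
      rw [this a a.2.1 a.2.2, this b b.2.1 b.2.2]
    rw [hone, show Nat.card {g // g ∈ Q} = q ^ a from hQc] at hmod
    have hdG : q ^ a ∣ 95040 := H.card ▸ hQc ▸ card_subgroup_dvd_card Q
    have hdv : q ^ a ∈ (95040 : ℕ).divisors := Nat.mem_divisors.2 ⟨hdG, by norm_num⟩
    have hq' : q ∈ (95040 : ℕ).primeFactors :=
      Nat.mem_primeFactors.2 ⟨hq, (dvd_pow_self q ha0.ne').trans hdG, by norm_num⟩
    have hpf : (95040 : ℕ).primeFactors ⊆ {2, 3, 5, 11} := by
      intro r hr
      obtain ⟨hr, hrd, -⟩ := Nat.mem_primeFactors.1 hr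
      rw [show (95040 : ℕ) = 2 ^ 6 * (3 ^ 3 * (5 * 11)) by norm_num] at hrd
      simp only [Finset.mem_insert, Finset.mem_singleton]
      rcases hr.dvd_mul.1 hrd with h | h
      · exact Or.inl ((Nat.prime_dvd_prime_iff_eq hr Nat.prime_two).1 (hr.dvd_of_dvd_pow h))
      rcases hr.dvd_mul.1 h with h | h
      · exact Or.inr (Or.inl ((Nat.prime_dvd_prime_iff_eq hr Nat.prime_three).1 (hr.dvd_of_dvd_pow h)))
      rcases hr.dvd_mul.1 h with h | h
      · exact Or.inr (Or.inr (Or.inl ((Nat.prime_dvd_prime_iff_eq hr (by norm_num)).1 h)))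
      · exact Or.inr (Or.inr (Or.inr ((Nat.prime_dvd_prime_iff_eq hr (by norm_num)).1 h)))
    have hq4 := hpf hq'
    simp only [Finset.mem_insert, Finset.mem_singleton] at hq4
    have hbound : ∀ b : ℕ, q ^ b ∣ 95040 → b ≤ 6 := by
      intro b hb
      by_contra hlt
      have h7 : q ^ 7 ∣ 95040 := (pow_dvd_pow q (not_le.1 hlt)).trans hb
      rcases hq4 with rfl | rfl | rfl | rfl <;> norm_num at h7
    have ha6 := hbound a hdG
    rcases hq4 with rfl | rfl | rfl | rfl
    all_goals interval_cases a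
    all_goals (norm_num [Nat.ModEq] at hmod <;> norm_num at hdG)
  refine ⟨fun M hM => ?_⟩
  by_cases h11 : 11 ∣ Nat.card M
  swap
  · left
    refine Subgroup.card_eq_one.1 (key M (fun g => ?_) h11)
    exact ⟨fun hg => hM.conj_mem g hg x, fun hg => by simpa [mul_assoc] using hM.conj_mem _ hg x⁻¹⟩
  obtain ⟨hn, hN⟩ := H.eleven_count
  obtain ⟨P⟩ : Nonempty (Sylow 11 M) := inferInstance
  have hcM : ∀ Q : Sylow 11 M, Nat.card (Q : Subgroup M) = 11 := by
    intro Q
    obtain ⟨c, hc⟩ := h11
    have hnd : ¬ 11 ∣ c := fun h => by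
      have h1 : Nat.card M ∣ 95040 := H.card ▸ card_subgroup_dvd_card M
      obtain ⟨d, rfl⟩ := h
      rw [hc] at h1
      have := (Nat.dvd_trans (Dvd.intro d (by ring) : 11 * 11 ∣ 11 * (11 * d)) h1)
      norm_num at this
    rw [card_sylow_eq Q (k := 1) (m := c) (by rw [pow_one, hc]) hnd, pow_one]
  -- every Sylow subgroup of `G` lies in `M`
  let f : Sylow 11 M → Sylow 11 G := fun Q => Sylow.ofCard ((Q : Subgroup M).map M.subtype) (by
    rw [card_map_of_injective M.subtype_injective, hcM, H.card, show (95040 : ℕ) = 11 ^ 1 * 8640 by norm_num,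
      Nat.factorization_mul (by norm_num) (by norm_num), Finsupp.add_apply,
      Nat.Prime.factorization_pow (by norm_num), Finsupp.single_eq_same,
      Nat.factorization_eq_zero_of_not_dvd (by norm_num)]
    norm_num)
  have hf : Function.Bijective f := by
    refine ⟨fun Q R h => Sylow.ext (map_injective M.subtype_injective
      (congrArg (fun S : Sylow 11 G => (S : Subgroup G)) h)), fun S => ?_⟩
    obtain ⟨g, hg⟩ := MulAction.exists_smul_eq G (f P) S
    have hSM : (S : Subgroup G) ≤ M := by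
      rw [← hg]
      rintro _ ⟨y, ⟨w, hw, rfl⟩, rfl⟩
      exact hM.conj_mem _ w.2 g
    refine ⟨Sylow.ofCard ((S : Subgroup G).subgroupOf M) ?_, Sylow.ext ?_⟩
    · rw [Nat.card_congr (subgroupOfEquivOfLe hSM).toEquiv, H.sylow_eleven S]
      exact (hcM P).symm.trans P.card_eq_multiplicity
    · exact map_subgroupOf_eq_of_le hSM
  have hnM : Nat.card (Sylow 11 M) = 1728 := (Nat.card_eq_of_bijective f hf).trans hn
  have hmul := card_sylow_mul' P
  rw [hnM] at hmul
  set N := normalizer ((P : Subgroup M) : Set M)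
  have hNd : Nat.card N ∣ 55 := by
    have h1 : Nat.card M ∣ 95040 := H.card ▸ card_subgroup_dvd_card M
    rw [← hmul] at h1
    exact Nat.dvd_of_mul_dvd_mul_left (by norm_num : 0 < 1728) (by simpa using h1)
  have hPN : (P : Subgroup M) ≤ N := le_normalizer
  obtain ⟨d, hd⟩ : 11 ∣ Nat.card N := hcM P ▸ card_dvd_of_le hPN
  rw [hd] at hNd
  rcases (Nat.dvd_prime (by norm_num)).1 (Nat.dvd_of_mul_dvd_mul_left (by norm_num : 0 < 11)
      (by simpa using hNd) : d ∣ 5) with rfl | rfl
  swap
  · right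
    exact eq_top_of_card_eq M (by rw [← hmul, hd, H.card])
  exfalso
  have hNeq : N = (P : Subgroup M) := (eq_of_le_of_card_ge hPN (by rw [hd, hcM])).symm
  haveI : IsCyclic (P : Subgroup M) := isCyclic_of_prime_card (hcM P)
  have hNC : N ≤ centralizer ((P : Subgroup M) : Set M) := by
    rw [hNeq]
    exact fun w hw => mem_centralizer_iff.2 fun y hy => setLike_mul_comm (S := Subgroup M) hy hw
  have hK := MonoidHom.ker_transferSylow_isComplement' P hNC
  set K := (MonoidHom.transferSylow P hNC).ker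
  have hKc : Nat.card K = 1728 := by
    have h' := hK.card_mul_card
    rw [hcM, ← hmul, hd] at h'
    omega
  obtain ⟨w, hw⟩ := exists_prime_orderOf_dvd_card' (G := M) 11 h11
  set K' := K.map M.subtype
  have hKc' : Nat.card K' = 1728 := by rw [card_map_of_injective M.subtype_injective, hKc]
  -- transport to the given element of order 11
  have hxM : x ∈ M := by
    obtain ⟨S, hS⟩ := (IsPGroup.of_card (n := 1) (by rw [Nat.card_zpowers, hx, pow_one]) :
      IsPGroup 11 (zpowers x)).exists_le_sylow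
    obtain ⟨Q, hQ⟩ := hf.2 S
    have := hS (mem_zpowers x)
    rw [← hQ] at this
    obtain ⟨y, -, rfl⟩ := this
    exact y.2
  have := key K' (fun g => ?_) (by rw [hKc']; norm_num)
  · rw [hKc'] at this; norm_num at this
  · have hKN : K.Normal := MonoidHom.normal_ker _
    let xM : M := ⟨x, hxM⟩
    constructor
    · rintro ⟨k, hk, rfl⟩
      exact ⟨xM * k * xM⁻¹, hKN.conj_mem k hk xM, rfl⟩
    · rintro ⟨k, hk, he⟩
      refine ⟨xM⁻¹ * k * xM⁻¹⁻¹, hKN.conj_mem k hk xM⁻¹, ?_⟩
      have he' : (k : G) = x * g * x⁻¹ := he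
      show x⁻¹ * (k : G) * x⁻¹⁻¹ = g
      rw [he']; group

theorem not_comm : ¬ IsMulCommutative G := by
  haveI : Fact (Nat.Prime 11) := ⟨by norm_num⟩
  obtain ⟨x, hx⟩ := exists_prime_orderOf_dvd_card' (G := G) 11 (by rw [H.card]; norm_num)
  intro h
  have hc := H.eleven_centralizer hx
  have : cz x = ⊤ := eq_top_iff.2 fun g _ => mem_cz.2 (h.1.comm g x)
  rw [this, card_top, H.card] at hc
  norm_num at hc

end Counts

end CfsgLib.M12Nse
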