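import Cfsg.Agent.M12Nse.Local
import Cfsg.Agent.Solvable.Fitting
import Cfsg.Agent.Char.Burnside
import Cfsg.Prelude.Def_Solvable

/-!
# A normal subgroup of order 9 in the centralizer of an involution
-/

set_option autoImplicit false
set_option linter.style.haveILetI false
set_option linter.unusedSectionVars false

namespace CfsgLib.M12Nse

open Subgroup CfsgLib.M11Nse CfsgLib.SmallSimple

variable {G : Type*} [Group G] [Finite G]

theorem conj_commute {b c g : G} (hbc : b * c = c * b) (h : g * c = c * g) :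
    b * g * b⁻¹ * c = c * (b * g * b⁻¹) := by
  have e : b * c * b⁻¹ = c := mul_inv_eq_iff_eq_mul.2 hbc
  calc b * g * b⁻¹ * c = b * g * b⁻¹ * (b * c * b⁻¹) := by rw [e]
    _ = b * (g * c) * b⁻¹ := by group
    _ = (b * c * b⁻¹) * (b * g * b⁻¹) := by rw [h]; group
    _ = _ := by rw [e]

theorem two_pow_card {R : Subgroup G} (h : Nat.card R ∣ 64) :
    ∃ r, r ≤ 6 ∧ Nat.card R = 2 ^ r :=
  (Nat.dvd_prime_pow Nat.prime_two).1 (show Nat.card R ∣ 2 ^ 6 from h)

namespace Counts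

variable (H : Counts G)
include H

theorem card_two_group {R : Subgroup G} (h : IsPGroup 2 R) : Nat.card R ∣ 64 := by
  haveI : Fact (Nat.Prime 2) := ⟨Nat.prime_two⟩
  obtain ⟨S, hS⟩ := h.exists_le_sylow
  exact H.card_sylow_two S ▸ card_dvd_of_le hS

/-- A group of order 9 does not act faithfully on a 2-subgroup while centralizing an involution of it. -/
theorem not_faithful (B Q : Subgroup G) (hB : Nat.card B = 9) (hQ : IsPGroup 2 Q) {z : G} (hz : orderOf z = 2)
    (hzQ : z ∈ Q) (hBz : ∀ b ∈ B, b * z = z * b) (hn : ∀ b ∈ B, ∀ q ∈ Q, b * q * b⁻¹ ∈ Q)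
    (hfaith : ∀ b ∈ B, (∀ q ∈ Q, b * q = q * b) → b = 1) : False := by
  classical
  haveI : Fact (Nat.Prime 2) := ⟨Nat.prime_two⟩
  haveI : Fact (Nat.Prime 3) := ⟨Nat.prime_three⟩
  haveI := IsPGroup.isMulCommutative_of_card_eq_prime_sq (p := 3) (G := B) (by rw [hB]; norm_num)
  have hBab : ∀ a ∈ B, ∀ b ∈ B, a * b = b * a := fun a ha b hb => setLike_mul_comm (S := Subgroup G) ha hb
  set C : Subgroup G := Q ⊓ centralizer (B : Set G) with hC
  let X : G → Subgroup G := fun b => Q ⊓ cz b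
  have hCX : ∀ b ∈ B, C ≤ X b := fun b hb q hq => ⟨hq.1, mem_cz.2 (mem_centralizer_iff.1 hq.2 b hb).symm⟩
  have hzC : z ∈ C := ⟨hzQ, mem_centralizer_iff.2 fun b hb => hBz b hb⟩
  have hb3 : ∀ b ∈ B, b ≠ 1 → orderOf b = 3 := by
    intro b hb hb1
    have h9 : orderOf b ∣ 3 ^ 2 := by simpa [hB] using Subgroup.orderOf_dvd_natCard B hb
    have h3 : b ^ 3 = 1 := H.three_pow (k := 2) (orderOf_dvd_iff_pow_eq_one.1 h9)
    rcases (Nat.dvd_prime Nat.prime_three).1 (orderOf_dvd_of_pow_eq_one h3) with e | e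
    · exact absurd (orderOf_eq_one_iff.1 e) hb1
    · exact e
  have hsq : ∀ b ∈ B, b ≠ 1 → ∀ q ∈ X b, q * q = 1 := by
    intro b hb hb1 q hq
    obtain ⟨k, hk⟩ := hQ ⟨q, hq.1⟩
    exact H.sq_one_of_three (hb3 b hb hb1) (mem_cz.1 hq.2) (k := k) (congrArg Subtype.val hk)
  have hXQ : ∀ b, IsPGroup 2 (X b) := fun b => hQ.to_le inf_le_left
  -- congruences modulo 3
  have hmod : ∀ (R : Subgroup G) (b : G), orderOf b = 3 → (∀ g, g ∈ R ↔ b * g * b⁻¹ ∈ R) →
      Nat.card R % 3 = Nat.card (R ⊓ cz b : Subgroup G) % 3 := by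
    intro R b hb hR
    have h := card_modEq_fixed (p := 3) (n := 1) (x := b) (by rw [pow_one, ← hb, pow_orderOf_eq_one]) (· ∈ R) hR
    rw [show Nat.card (R ⊓ cz b : Subgroup G) = Nat.card {g // g ∈ R ∧ g * b = b * g} from
      Nat.card_congr (Equiv.subtypeEquivRight fun g => by rw [mem_inf, mem_cz])]
    exact h
  have hnQ : ∀ b ∈ B, ∀ g, g ∈ Q ↔ b * g * b⁻¹ ∈ Q := fun b hb g =>
    ⟨hn b hb g, fun h => by simpa [mul_assoc] using hn b⁻¹ (inv_mem hb) _ h⟩
  -- a centralizer larger than `C` is central in `Q`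
  have hgrow : ∀ {R S : Subgroup G}, R ≤ S → S ≤ Q → R ≠ S → Nat.card R % 3 = Nat.card S % 3 →
      4 * Nat.card R ≤ Nat.card S := by
    intro R S hRS hSQ hne hm
    obtain ⟨r, hr6, hr⟩ := two_pow_card (H.card_two_group (hQ.to_le (hRS.trans hSQ)))
    obtain ⟨s, hs6, hs⟩ := two_pow_card (H.card_two_group (hQ.to_le hSQ))
    have hlt : Nat.card R < Nat.card S := by
      refine lt_of_le_of_ne (Nat.card_le_card_of_injective _ (inclusion_injective hRS)) fun e => hne ?_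
      exact eq_of_le_of_card_ge hRS e.ge
    rw [hr, hs] at hlt hm ⊢
    interval_cases r <;> interval_cases s <;> omega
  have hbig : ∀ b ∈ B, b ≠ 1 → X b ≠ C → 8 ≤ Nat.card (X b) ∧ 4 * Nat.card C ≤ Nat.card (X b) ∧
      ∀ x ∈ X b, ∀ q ∈ Q, q * x = x * q := by
    intro b hb hb1 hne
    obtain ⟨b', hb', hb'b⟩ : ∃ b' ∈ B, b' ∉ zpowers b := by
      by_contra hcon
      push Not at hcon
      have := Nat.card_le_card_of_injective _ (inclusion_injective (show B ≤ zpowers b from hcon))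
      rw [hB, Nat.card_zpowers, hb3 b hb hb1] at this
      omega
    have hgen : ∀ b'' ∈ B, ∃ i j : ℤ, b'' = b ^ i * b' ^ j := by
      have hb'3 : orderOf b' = 3 := hb3 b' hb' fun e => hb'b (e ▸ one_mem _)
      set S := zpowers b ⊔ zpowers b' with hS
      have hSB : S ≤ B := sup_le (zpowers_le.2 hb) (zpowers_le.2 hb')
      have hlt : 3 < Nat.card S := by
        have hne' : zpowers b ≠ S := fun e => hb'b (e ▸ mem_sup_right (mem_zpowers b'))
        have h1 : Nat.card (zpowers b) ≤ Nat.card S := Nat.card_le_card_of_injective _ (inclusion_injective le_sup_left)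
        rw [Nat.card_zpowers, hb3 b hb hb1] at h1
        refine lt_of_le_of_ne h1 fun e => hne' (eq_of_le_of_card_ge le_sup_left ?_)
        rw [Nat.card_zpowers, hb3 b hb hb1]; exact e.ge
      have hd : Nat.card S ∣ 3 ^ 2 := by simpa [hB] using card_dvd_of_le hSB
      obtain ⟨i, hi, he⟩ := (Nat.dvd_prime_pow Nat.prime_three).1 hd
      have h2 : Nat.card S = 9 := by rw [he] at hlt ⊢; interval_cases i <;> norm_num at hlt <;> norm_num
      have hSeq : S = B := eq_of_le_of_card_ge hSB (by rw [h2, hB])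
      intro b'' hb''
      rw [← hSeq] at hb''
      have hnorm : zpowers b' ≤ normalizer (zpowers b : Set G) := by
        rw [zpowers_le, zpowers_eq_closure]
        refine centralizer_le_normalizer _ ?_
        rw [centralizer_closure, mem_centralizer_singleton_iff]
        exact hBab b' hb' b hb
      rw [← SetLike.mem_coe, hS, coe_mul_of_right_le_normalizer_left _ _ hnorm] at hb''
      obtain ⟨_, ⟨i, rfl⟩, _, ⟨j, rfl⟩, rfl⟩ := Set.mem_mul.1 hb''
      exact ⟨i, j, rfl⟩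
    have hXinf : X b ⊓ cz b' = C := by
      refine le_antisymm (fun q hq => ⟨hq.1.1, mem_centralizer_iff.2 fun b'' hb'' => ?_⟩)
        (le_inf (hCX b hb) fun q hq => mem_cz.2 (mem_centralizer_iff.1 hq.2 b' hb').symm)
      obtain ⟨i, j, rfl⟩ := hgen b'' hb''
      have h1 : Commute q b := mem_cz.1 hq.1.2
      have h2 : Commute q b' := mem_cz.1 hq.2
      exact ((h1.zpow_right i).mul_right (h2.zpow_right j)).eq.symm
    have hXb' : ∀ g, g ∈ X b ↔ b' * g * b'⁻¹ ∈ X b := fun g => by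
      simp only [X, mem_inf, mem_cz]
      refine and_congr (hnQ b' hb' g) ⟨fun h => conj_commute (hBab b' hb' b hb) h, fun h => ?_⟩
      have := conj_commute (hBab b'⁻¹ (inv_mem hb') b hb) h
      simpa [mul_assoc] using this
    have h4 : 4 * Nat.card C ≤ Nat.card (X b) := hgrow (hCX b hb) inf_le_left (Ne.symm hne) (by
      rw [hmod (X b) b' (hb3 b' hb' fun e => hb'b (e ▸ one_mem _)) hXb', hXinf])
    have hC2 : 2 ≤ Nat.card C := by
      haveI : Nontrivial C := ⟨⟨⟨z, hzC⟩, 1, fun e => by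
        have : z = 1 := congrArg Subtype.val e
        rw [this, orderOf_one] at hz; norm_num at hz⟩⟩
      exact Finite.one_lt_card
    refine ⟨by omega, h4, ?_⟩
    -- the normalizer of `X b` in `Q` centralizes it
    set R := Q ⊓ normalizer (X b : Set G) with hR
    set S := R ⊓ centralizer (X b : Set G) with hS
    have hXR : X b ≤ R := le_inf inf_le_left le_normalizer
    have hXS : X b ≤ S := le_inf hXR fun x hx => mem_centralizer_iff.2 fun y hy =>
      comm_of_sq (hsq b hb hb1) hy hx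
    have hbX : ∀ x ∈ X b, b * x * b⁻¹ = x := fun x hx => mul_inv_eq_iff_eq_mul.2 (mem_cz.1 hx.2).symm
    have hbXi : ∀ x ∈ X b, b⁻¹ * x * b = x := fun x hx => by
      have h1 := mem_cz.1 hx.2
      rw [mul_assoc, h1, inv_mul_cancel_left]
    have hbN : ∀ g ∈ R, b * g * b⁻¹ ∈ R := fun g hg => ⟨hn b hb g hg.1, mem_normalizer_iff.2 fun x => by
      constructor
      · intro hx
        have h1 : g * x * g⁻¹ ∈ X b := (mem_normalizer_iff.1 hg.2 x).1 hx
        have e : b * g * b⁻¹ * x * (b * g * b⁻¹)⁻¹ = b * (g * (b⁻¹ * x * b) * g⁻¹) * b⁻¹ := by group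
        rw [e, hbXi x hx, hbX _ h1]
        exact h1
      · intro hx
        have h1 := (mem_normalizer_iff.1 (inv_mem hg.2) _).1 (show b⁻¹ * (b * g * b⁻¹ * x * (b * g * b⁻¹)⁻¹) * b ∈ X b by
          rw [hbXi _ hx]; exact hx)
        have e : g⁻¹ * (b⁻¹ * (b * g * b⁻¹ * x * (b * g * b⁻¹)⁻¹) * b) * g⁻¹⁻¹ = b⁻¹ * x * b := by group
        rw [e] at h1
        have h2 := hbX _ h1
        rw [show b * (b⁻¹ * x * b) * b⁻¹ = x by group] at h2
        rwa [← h2] at h1⟩
    have hRS : ∀ r ∈ R, r ∈ S := by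
      intro r hr
      have hrb : ∀ x ∈ X b, (b * r * b⁻¹) * x * (b * r * b⁻¹)⁻¹ = r * x * r⁻¹ := fun x hx => by
        have h1 : r * x * r⁻¹ ∈ X b := (mem_normalizer_iff.1 hr.2 x).1 hx
        have e : b * r * b⁻¹ * x * (b * r * b⁻¹)⁻¹ = b * (r * (b⁻¹ * x * b) * r⁻¹) * b⁻¹ := by group
        rw [e, hbXi x hx, hbX _ h1]
      have hc : r⁻¹ * (b * r * b⁻¹) ∈ S := by
        refine mem_inf.2 ⟨mul_mem (inv_mem hr) (hbN r hr), mem_centralizer_iff.2 fun x hx => ?_⟩
        have h := hrb x hx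
        set t := b * r * b⁻¹ with ht
        have h' : r⁻¹ * t * x * (r⁻¹ * t)⁻¹ = x := by
          calc r⁻¹ * t * x * (r⁻¹ * t)⁻¹ = r⁻¹ * (t * x * t⁻¹) * r := by group
            _ = _ := by rw [h]; group
        exact (mul_inv_eq_iff_eq_mul.1 h').symm
      have hSb : ∀ g ∈ S, b * g * b⁻¹ ∈ S := fun g hg => ⟨hbN g hg.1, mem_centralizer_iff.2 fun x hx =>
        (conj_commute (mem_cz.1 hx.2).symm (mem_centralizer_iff.1 hg.2 x hx).symm).symm⟩
      have hSb' : ∀ g, g ∈ S ↔ b * g * b⁻¹ ∈ S := fun g => by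
        refine ⟨hSb g, fun h => ?_⟩
        have h3 : b ^ 3 = 1 := by rw [← hb3 b hb hb1]; exact pow_orderOf_eq_one b
        have h2 := hSb _ (hSb _ h)
        rwa [show b * (b * (b * g * b⁻¹) * b⁻¹) * b⁻¹ = b ^ 3 * g * (b ^ 3)⁻¹ by simp [pow_succ, mul_assoc], h3, one_mul, inv_one,
          mul_one] at h2
      have hcong := card_modEq_fixed (p := 3) (n := 1) (x := b) (by rw [pow_one, ← hb3 b hb hb1, pow_orderOf_eq_one])
        (fun g => r⁻¹ * g ∈ S) fun g => by
          have e : r⁻¹ * (b * g * b⁻¹) = (r⁻¹ * (b * r * b⁻¹)) * (b * (r⁻¹ * g) * b⁻¹) := by group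
          rw [e, mul_mem_cancel_left hc, ← hSb']
      have hcardS : Nat.card {g // r⁻¹ * g ∈ S} = Nat.card S :=
        Nat.card_congr (Equiv.subtypeEquiv (Equiv.mulLeft r⁻¹) fun _ => Iff.rfl)
      rw [hcardS] at hcong
      obtain ⟨s, -, hs⟩ := two_pow_card (H.card_two_group (hQ.to_le (show S ≤ Q from inf_le_left.trans inf_le_left)))
      have hne0 : Nat.card {g // r⁻¹ * g ∈ S ∧ g * b = b * g} ≠ 0 := fun e => by
        rw [e, hs, Nat.modEq_zero_iff_dvd] at hcong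
        exact absurd (Nat.prime_three.dvd_of_dvd_pow hcong) (by norm_num)
      obtain ⟨⟨⟨g, hg, hgb⟩⟩⟩ := Nat.card_pos_iff.1 (Nat.pos_of_ne_zero hne0)
      have hgQ : g ∈ Q := by simpa using mul_mem hr.1 hg.1.1
      have hgS : g ∈ S := hXS ⟨hgQ, mem_cz.2 hgb⟩
      simpa using mul_mem hgS (inv_mem hg)
    by_cases hRQ : R = Q
    · intro x hx q hq
      exact (mem_centralizer_iff.1 (hRS q (hRQ.symm ▸ hq)).2 x hx).symm
    exfalso
    -- otherwise two steps of growth exceed 64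
    have hb3' := hb3 b hb hb1
    have hfix : ∀ T : Subgroup G, X b ≤ T → T ≤ Q → T ⊓ cz b = X b := fun T h1 h2 =>
      le_antisymm (fun g hg => ⟨h2 hg.1, hg.2⟩) (le_inf h1 inf_le_right)
    have hiff : ∀ T : Subgroup G, (∀ g ∈ T, b * g * b⁻¹ ∈ T) → ∀ g, g ∈ T ↔ b * g * b⁻¹ ∈ T := fun T hT g => by
      refine ⟨hT g, fun h => ?_⟩
      have h3 : b ^ 3 = 1 := by rw [← hb3']; exact pow_orderOf_eq_one b
      have h2 := hT _ (hT _ h)
      rwa [show b * (b * (b * g * b⁻¹) * b⁻¹) * b⁻¹ = b ^ 3 * g * (b ^ 3)⁻¹ by simp [pow_succ, mul_assoc], h3, one_mul, inv_one,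
        mul_one] at h2
    have hXQ' : X b ≠ Q := fun e => hRQ (le_antisymm inf_le_left (e ▸ hXR))
    have hgrowN : ∀ T : Subgroup G, T < Q → T < Q ⊓ normalizer (T : Set G) := fun T hT => by
      haveI := hQ.isNilpotent
      have hT' : T.subgroupOf Q < ⊤ := lt_top_iff_ne_top.2 fun e => hT.not_ge (subgroupOf_eq_top.1 e)
      have hnc := Group.normalizerCondition_of_isNilpotent _ hT'
      refine lt_of_le_of_ne (le_inf hT.le le_normalizer) fun e => hnc.ne ?_
      rw [← subgroupOf_normalizer_eq hT.le]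
      conv_lhs => rw [e]
      ext g; simp [mem_subgroupOf]
    have hXR' : X b < R := hgrowN _ (lt_of_le_of_ne inf_le_left hXQ')
    have e1 : 4 * Nat.card (X b) ≤ Nat.card R := hgrow hXR inf_le_left hXR'.ne (by
      rw [hmod R b hb3' (hiff R hbN), hfix R hXR inf_le_left])
    have hRlt : R < Q := lt_of_le_of_ne inf_le_left hRQ
    set R2 := Q ⊓ normalizer (R : Set G) with hR2
    have hR2b : ∀ g ∈ R2, b * g * b⁻¹ ∈ R2 := fun g hg => ⟨hn b hb g hg.1, mem_normalizer_iff.2 fun x => by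
      have e : b * g * b⁻¹ * x * (b * g * b⁻¹)⁻¹ = b * (g * (b⁻¹ * x * b) * g⁻¹) * b⁻¹ := by group
      rw [e, ← hiff R hbN, ← mem_normalizer_iff.1 hg.2, hiff R hbN (b⁻¹ * x * b),
        show b * (b⁻¹ * x * b) * b⁻¹ = x by group]⟩
    have hR2R : R < R2 := hgrowN R hRlt
    have e2 : 4 * Nat.card R ≤ Nat.card R2 := hgrow hR2R.le inf_le_left hR2R.ne (by
      rw [hmod R b hb3' (hiff R hbN), hfix R hXR inf_le_left, hmod R2 b hb3' (hiff R2 hR2b),
        hfix R2 (hXR.trans hR2R.le) inf_le_left])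
    have hQ64 := Nat.le_of_dvd (by norm_num) (H.card_two_group (hQ.to_le (show R2 ≤ Q from inf_le_left)))
    omega
  -- two such centralizers
  have hX : ∀ b₀ : G, orderOf b₀ = 3 → (∀ b ∈ B, b ≠ 1 → X b ≠ C → b ∈ zpowers b₀) → (X b₀ ≠ Q ∧ C ≤ X b₀ ∧
      ∀ b ∈ B, ∀ g, g ∈ X b₀ ↔ b * g * b⁻¹ ∈ X b₀) → False := by
    intro b₀ hb₀3 honly hX0
    obtain ⟨hne, hCle, hinv⟩ := hX0
    have h9 : 9 ∣ Nat.card {g // g ∈ Q ∧ g ∉ X b₀} := by
      refine dvd_card_of_orbits B (fun g => g ∈ Q ∧ g ∉ X b₀) 9 (fun c hc g hg =>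
        ⟨hn c hc g hg.1, fun h => hg.2 ((hinv c hc g).2 h)⟩) fun g hg => ?_
      have htriv : cz g ⊓ B = ⊥ := by
        rw [eq_bot_iff]
        intro c hc
        rw [mem_bot]
        by_contra hc1
        refine hg.2 ?_
        by_cases he : X c = C
        · exact hCle (he ▸ ⟨hg.1, mem_cz.2 (mem_cz.1 hc.1).symm⟩ : g ∈ C)
        · have e : zpowers c = zpowers b₀ := eq_of_le_of_card_ge (zpowers_le.2 (honly c hc.2 hc1 he))
            (by rw [Nat.card_zpowers, Nat.card_zpowers, hb₀3, hb3 c hc.2 hc1])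
          obtain ⟨j, hj⟩ := mem_zpowers_iff.1 (e.symm ▸ mem_zpowers b₀ : b₀ ∈ zpowers c)
          refine ⟨hg.1, mem_cz.2 ?_⟩
          rw [← hj]
          exact ((show Commute g c from (mem_cz.1 hc.1).symm).zpow_right j).eq
      rw [← inf_relIndex_right, htriv, relIndex_bot_left, hB]
    obtain ⟨q, hq6, hq⟩ := two_pow_card (H.card_two_group hQ)
    obtain ⟨a, ha6, ha⟩ := two_pow_card (H.card_two_group (hXQ b₀))
    have hsum : Nat.card Q = Nat.card (X b₀) + Nat.card {g // g ∈ Q ∧ g ∉ X b₀} := by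
      haveI := Fintype.ofFinite G
      rw [Nat.card_eq_fintype_card, Nat.card_eq_fintype_card, Nat.card_eq_fintype_card, Fintype.card_subtype,
        Fintype.card_subtype, Fintype.card_subtype,
        ← Finset.card_filter_add_card_filter_not (s := Finset.univ.filter fun g => g ∈ Q) (fun g => g ∈ X b₀),
        Finset.filter_filter, Finset.filter_filter]
      congr 1
      exact congrArg Finset.card (Finset.filter_congr fun g _ => ⟨fun h => h.2, fun h => ⟨h.1, h⟩⟩)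
    have hpos : 0 < Nat.card {g // g ∈ Q ∧ g ∉ X b₀} := by
      obtain ⟨g, hg, hgX⟩ := SetLike.exists_of_lt (lt_of_le_of_ne (show X b₀ ≤ Q from inf_le_left) hne)
      exact Nat.card_pos_iff.2 ⟨⟨⟨g, hg, hgX⟩⟩, inferInstance⟩
    have h2C : 2 ≤ Nat.card C := by
      haveI : Nontrivial C := ⟨⟨⟨z, hzC⟩, 1, fun e => by
        have : z = 1 := congrArg Subtype.val e
        rw [this, orderOf_one] at hz; norm_num at hz⟩⟩
      exact Finite.one_lt_card
    have hCa := Nat.card_le_card_of_injective _ (inclusion_injective hCle)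
    rw [hq, ha] at hsum
    rw [ha] at hCa
    interval_cases q <;> interval_cases a <;> omega
  obtain ⟨b1, hb1B, hb11⟩ : ∃ b ∈ B, b ≠ 1 := by
    obtain ⟨b, hb⟩ := exists_prime_orderOf_dvd_card' (G := B) 3 (by rw [hB]; norm_num)
    rw [← Subgroup.orderOf_coe] at hb
    exact ⟨b, b.2, fun e => by rw [e, orderOf_one] at hb; norm_num at hb⟩
  have hcond : ∀ b ∈ B, b ≠ 1 → X b ≠ Q ∧ C ≤ X b ∧ ∀ c ∈ B, ∀ g, g ∈ X b ↔ c * g * c⁻¹ ∈ X b := by
    intro b hb hb1
    refine ⟨fun e => hb1 (hfaith b hb fun q hq => (mem_cz.1 (e.symm ▸ hq : q ∈ X b).2).symm), hCX b hb, fun c hc g => ?_⟩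
    simp only [X, mem_inf, mem_cz]
    refine and_congr (hnQ c hc g) ⟨fun h => conj_commute (hBab c hc b hb) h, fun h => ?_⟩
    have := conj_commute (hBab c⁻¹ (inv_mem hc) b hb) h
    simpa [mul_assoc] using this
  obtain ⟨b₀, hb₀, hb₀1, hne₀⟩ : ∃ b ∈ B, b ≠ 1 ∧ X b ≠ C := by
    by_contra hcon
    push Not at hcon
    exact hX b1 (hb3 b1 hb1B hb11) (fun b hb h1 h2 => absurd (hcon b hb h1) h2) (hcond b1 hb1B hb11)
  obtain ⟨b₂, hb₂, hb₂1, hne₂, hb₂z⟩ : ∃ b ∈ B, b ≠ 1 ∧ X b ≠ C ∧ b ∉ zpowers b₀ := by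
    by_contra hcon
    push Not at hcon
    exact hX b₀ (hb3 b₀ hb₀ hb₀1) hcon (hcond b₀ hb₀ hb₀1)
  obtain ⟨h80, h40, hcen0⟩ := hbig b₀ hb₀ hb₀1 hne₀
  obtain ⟨h82, h42, hcen2⟩ := hbig b₂ hb₂ hb₂1 hne₂
  -- their join is elementary
  set E := X b₀ ⊔ X b₂ with hE
  have hnorm : X b₂ ≤ normalizer (X b₀ : Set G) := fun y hy => mem_normalizer_iff.2 fun x => by
    constructor
    · intro hx
      rwa [hcen0 x hx y hy.1, mul_inv_cancel_right]
    · intro hx
      have := hcen0 _ hx y⁻¹ (inv_mem hy.1)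
      rw [show x = y⁻¹ * (y * x * y⁻¹) * y by group, this, mul_assoc, inv_mul_cancel, mul_one]
      exact hx
  have hcoe := coe_mul_of_right_le_normalizer_left _ _ hnorm
  have hEsq : ∀ e ∈ E, e * e = 1 := by
    intro e he
    rw [← SetLike.mem_coe, hE, hcoe] at he
    obtain ⟨x, hx, y, hy, rfl⟩ := Set.mem_mul.1 he
    have hxy := hcen0 x hx y hy.1
    calc x * y * (x * y) = x * (y * x) * y := by group
      _ = x * x * (y * y) := by rw [hxy]; group
      _ = 1 := by rw [hsq b₀ hb₀ hb₀1 x hx, hsq b₂ hb₂ hb₂1 y hy, one_mul]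
  have hinf : X b₀ ⊓ X b₂ ≤ C := by
    rintro g ⟨h1, h2⟩
    refine ⟨h1.1, mem_centralizer_iff.2 fun c hc => ?_⟩
    set S := zpowers b₀ ⊔ zpowers b₂
    have hSB : S ≤ B := sup_le (zpowers_le.2 hb₀) (zpowers_le.2 hb₂)
    have hSeq : S = B := by
      refine eq_of_le_of_card_ge hSB ?_
      obtain ⟨i, hi, he⟩ := (Nat.dvd_prime_pow Nat.prime_three).1
        (show Nat.card S ∣ 3 ^ 2 by simpa [hB] using card_dvd_of_le hSB)
      have hlt : 3 < Nat.card S := by
        have hne' : zpowers b₀ ≠ S := fun e => hb₂z (e ▸ mem_sup_right (mem_zpowers b₂))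
        have h1' : Nat.card (zpowers b₀) ≤ Nat.card S := Nat.card_le_card_of_injective _ (inclusion_injective le_sup_left)
        rw [Nat.card_zpowers, hb3 b₀ hb₀ hb₀1] at h1'
        refine lt_of_le_of_ne h1' fun e => hne' (eq_of_le_of_card_ge le_sup_left ?_)
        rw [Nat.card_zpowers, hb3 b₀ hb₀ hb₀1]; exact e.ge
      rw [hB, he]
      rw [he] at hlt
      interval_cases i <;> norm_num at hlt <;> norm_num
    have hle : S ≤ cz g := sup_le (zpowers_le.2 (mem_cz.2 (mem_cz.1 h1.2).symm))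
      (zpowers_le.2 (mem_cz.2 (mem_cz.1 h2.2).symm))
    exact mem_cz.1 (hle (hSeq.symm ▸ hc))
  -- cosets of `C` in the second give distinct cosets of the first
  have hcount : Nat.card (X b₀) * Nat.card (X b₂) ≤ Nat.card E * Nat.card C := by
    let f : X b₀ × X b₂ → E := fun p => ⟨(p.1 : G) * p.2, mul_mem (mem_sup_left p.1.2) (mem_sup_right p.2.2)⟩
    haveI := Fintype.ofFinite (X b₀ × X b₂)
    haveI := Fintype.ofFinite E
    rw [← Nat.card_prod, Nat.card_eq_fintype_card, Nat.card_eq_fintype_card, ← Finset.card_univ, mul_comm (Fintype.card E)]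
    refine Finset.card_le_mul_card_image_of_maps_to (f := f) (fun _ _ => Finset.mem_univ _) _ fun e _ => ?_
    by_cases he : ∃ p, f p = e
    · obtain ⟨p, rfl⟩ := he
      rw [← Fintype.card_subtype, ← Nat.card_eq_fintype_card]
      refine Nat.card_le_card_of_injective (fun q => (⟨(p.1 : G)⁻¹ * q.1.1, hinf (mem_inf.2 ⟨mul_mem (inv_mem p.1.2) q.1.1.2, ?_⟩)⟩ : C))
        fun q r h => ?_
      · have h : (q.1.1 : G) * q.1.2 = p.1 * p.2 := congrArg Subtype.val q.2
        have h' : (p.1 : G)⁻¹ * q.1.1 = p.2 * (q.1.2 : G)⁻¹ := by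
          rw [eq_mul_inv_iff_mul_eq, mul_assoc, h, inv_mul_cancel_left]
        rw [h']
        exact mul_mem p.2.2 (inv_mem q.1.2.2)
      · have h1 : (p.1 : G)⁻¹ * q.1.1 = (p.1 : G)⁻¹ * r.1.1 := congrArg Subtype.val h
        have e1 : (q.1.1 : G) = r.1.1 := mul_left_cancel h1
        have e2 : (q.1.1 : G) * q.1.2 = r.1.1 * r.1.2 := congrArg Subtype.val (q.2.trans r.2.symm)
        rw [e1] at e2
        exact Subtype.ext (Prod.ext (Subtype.ext e1) (Subtype.ext (mul_left_cancel e2)))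
    · push Not at he
      rw [Finset.card_eq_zero.2 (Finset.filter_eq_empty_iff.2 fun p _ => he p)]
      exact Nat.zero_le _
  have h16 := H.elementary_le hEsq
  nlinarith

theorem exists_order_eight {C : Subgroup G} (h64 : 64 ∣ Nat.card C) : ∃ d ∈ C, orderOf d = 8 := by
  haveI : Fact (Nat.Prime 2) := ⟨Nat.prime_two⟩
  obtain ⟨R, hR⟩ := Sylow.exists_subgroup_card_pow_prime 2 (G := C) (n := 6) (by norm_num; exact h64)
  obtain ⟨d, hd⟩ := H.spectrum.2.2
  have hd2 : IsPGroup 2 (zpowers d) := IsPGroup.of_card (n := 3) (by rw [Nat.card_zpowers, hd]; norm_num)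
  obtain ⟨Q, hQ⟩ := hd2.exists_le_sylow
  have hR2 : IsPGroup 2 (R.map C.subtype) := (IsPGroup.of_card hR).map _
  obtain ⟨P, hP⟩ := hR2.exists_le_sylow
  have hPC : (P : Subgroup G) ≤ C := by
    rw [← eq_of_le_of_card_ge hP (by rw [H.card_sylow_two P, card_map_of_injective C.subtype_injective, hR]; norm_num)]
    exact map_subtype_le R
  obtain ⟨g, hg⟩ := MulAction.exists_smul_eq G Q P
  refine ⟨g * d * g⁻¹, hPC (hg ▸ ⟨d, hQ (mem_zpowers d), rfl⟩), ?_⟩
  exact (orderOf_eq_of_isConj (isConj_iff.2 ⟨g, rfl⟩)).trans hd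

/-- No subgroup of order divisible by 64 has a normal subgroup of order 3. -/
theorem no_normal_three {C O : Subgroup G} (h64 : 64 ∣ Nat.card C) (hO : Nat.card O = 3)
    (hn : ∀ c ∈ C, ∀ o ∈ O, c * o * c⁻¹ ∈ O) : False := by
  haveI : Fact (Nat.Prime 3) := ⟨Nat.prime_three⟩
  obtain ⟨o, ho⟩ := exists_prime_orderOf_dvd_card' (G := O) 3 (by rw [hO])
  rw [← Subgroup.orderOf_coe] at ho
  have hOo : zpowers (o : G) = O := eq_of_le_of_card_ge (zpowers_le.2 o.2) (by rw [Nat.card_zpowers, ho, hO])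
  obtain ⟨d, hdC, hd⟩ := H.exists_order_eight h64
  obtain ⟨i, hi⟩ := mem_zpowers_iff.1 (hOo.symm ▸ hn d hdC o o.2 : d * (o : G) * d⁻¹ ∈ zpowers (o : G))
  have h2 : d ^ 2 * (o : G) * (d ^ 2)⁻¹ = (o : G) ^ (i * i) := by
    rw [zpow_mul, hi, conj_zpow, hi]
    simp [pow_two, mul_assoc]
  have hne : ¬ (3 : ℤ) ∣ i := fun h => by
    have h1 : (o : G) ^ i = 1 := orderOf_dvd_iff_zpow_eq_one.1 (by rw [ho]; exact h)
    rw [h1, eq_comm, mul_inv_eq_one, mul_eq_left] at hi
    rw [hi, orderOf_one] at ho; norm_num at ho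
  have h1 : (o : G) ^ (i * i) = (o : G) := by
    have hm : (3 : ℤ) ∣ i * i - 1 := by
      obtain ⟨k, hk | hk⟩ : ∃ k, i = 3 * k + 1 ∨ i = 3 * k + 2 := ⟨i / 3, by omega⟩
      · exact ⟨3 * k * k + 2 * k, by subst hk; ring⟩
      · exact ⟨3 * k * k + 4 * k + 1, by subst hk; ring⟩
    have h' : (o : G) ^ (i * i - 1) = 1 := orderOf_dvd_iff_zpow_eq_one.1 (by rw [ho]; exact hm)
    rwa [zpow_sub, zpow_one, mul_inv_eq_one] at h'
  have h4 := H.sq_one_of_three ho (mul_inv_eq_iff_eq_mul.1 (h2.trans h1)) (k := 2)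
    (by rw [← pow_mul, ← orderOf_dvd_iff_pow_eq_one, hd]; norm_num)
  rw [← pow_add, ← orderOf_dvd_iff_pow_eq_one, hd] at h4
  norm_num at h4

theorem sylow_three_large {C : Subgroup G} (hC : Nat.card C = 1728) {O : Subgroup G} (hO : Nat.card O = 27)
    (hn : ∀ c ∈ C, ∀ o ∈ O, c * o * c⁻¹ ∈ O) : False := by
  classical
  haveI : Fact (Nat.Prime 3) := ⟨Nat.prime_three⟩
  obtain ⟨P, hP⟩ := (IsPGroup.of_card (p := 3) (n := 3) (by rw [hO]; norm_num) : IsPGroup 3 O).exists_le_sylow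
  have hPO : O = (P : Subgroup G) := eq_of_le_of_card_ge hP (by rw [H.card_sylow_three P, hO])
  have hCN : C ≤ normalizer ((P : Subgroup G) : Set G) := fun c hc => mem_normalizer_iff.2 fun g => by
    rw [← hPO]
    refine ⟨hn c hc g, fun h => ?_⟩
    simpa [mul_assoc] using hn c⁻¹ (inv_mem hc) _ h
  have hidx : C.index = 55 := by
    have := C.card_mul_index
    rw [hC, H.card] at this
    omega
  have hn3 : Nat.card (Sylow 3 G) ≤ 55 := by
    rw [P.card_eq_index_normalizer]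
    exact Nat.le_of_dvd (by norm_num) (hidx ▸ index_dvd_of_le hCN)
  haveI := Fintype.ofFinite (Sylow 3 G)
  have hex : ∀ g : {g : G // orderOf g = 3}, ∃ Q : Sylow 3 G, g.1 ∈ (Q : Subgroup G) := fun g => by
    obtain ⟨Q, hQ⟩ := (IsPGroup.of_card (p := 3) (n := 1) (by rw [Nat.card_zpowers, g.2, pow_one]) :
      IsPGroup 3 (zpowers g.1)).exists_le_sylow
    exact ⟨Q, hQ (mem_zpowers _)⟩
  choose F hF using hex
  have hle := Nat.card_le_card_of_injective
    (fun g => (⟨F g, ⟨⟨g.1, hF g⟩, fun e => by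
      have h1 : g.1 = 1 := congrArg Subtype.val e
      have := g.2
      rw [h1, orderOf_one] at this; norm_num at this⟩⟩ : Σ Q : Sylow 3 G, {x : (Q : Subgroup G) // x ≠ 1}))
    fun g g' h => Subtype.ext (congrArg (fun s : Σ Q : Sylow 3 G, {x : (Q : Subgroup G) // x ≠ 1} => (s.2.1 : G)) h)
  rw [Nat.card_sigma, Finset.sum_const_nat (m := 26) (fun Q _ => by
    haveI := Fintype.ofFinite (Q : Subgroup G)
    rw [Nat.card_eq_fintype_card, Fintype.card_subtype_compl, Fintype.card_subtype_eq, ← Nat.card_eq_fintype_card,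
      H.card_sylow_three Q]), Finset.card_univ, ← Nat.card_eq_fintype_card] at hle
  have h4 : Nat.card {g : G // orderOf g = 3} = 4400 := H.three_count
  omega

/-- A subgroup centralizing an involution, of order divisible by 64 and by 9, has a normal subgroup of order 9. -/
theorem exists_A {C : Subgroup G} {z : G} (hz : orderOf z = 2) (hzC : z ∈ C) (hC : ∀ g ∈ C, g * z = z * g)
    (h64 : 64 ∣ Nat.card C) (h9 : 9 ∣ Nat.card C) (hd : Nat.card C ∣ 1728) :
    ∃ A ≤ C, Nat.card A = 9 ∧ ∀ c ∈ C, ∀ a ∈ A, c * a * c⁻¹ ∈ A := by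
  haveI : Fact (Nat.Prime 2) := ⟨Nat.prime_two⟩
  haveI : Fact (Nat.Prime 3) := ⟨Nat.prime_three⟩
  have hdiv : ∃ b, Nat.card C = 2 ^ 6 * 3 ^ b := by
    obtain ⟨k, hk⟩ := h64
    rw [hk] at hd
    obtain ⟨b, -, hb⟩ := (Nat.dvd_prime_pow Nat.prime_three).1
      (Nat.dvd_of_mul_dvd_mul_left (by norm_num : 0 < 64) (show 64 * k ∣ 64 * 3 ^ 3 by norm_num; exact hd))
    exact ⟨b, by rw [hk, hb]; norm_num⟩
  obtain ⟨b, hb⟩ := hdiv
  haveI : Group.IsSolvable C := CfsgLib.Char.isSolvable_of_card_eq 2 3 6 b Nat.prime_two Nat.prime_three hb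
  set O := Cfsg.pPrimeCore 2 C with hOdef
  have hOd : Nat.card O ∣ 3 ^ 3 := by
    have h1 : Nat.card O ∣ 2 ^ 6 * 3 ^ 3 := (card_subgroup_dvd_card O).trans (hd.trans (by norm_num))
    exact Nat.Coprime.dvd_of_dvd_mul_left ((CfsgLib.Solvable.coprime_card_pPrimeCore 2).pow_right 6) h1
  obtain ⟨i, hi3, hi⟩ := (Nat.dvd_prime_pow Nat.prime_three).1 hOd
  have hOn : O.Normal := (CfsgLib.Solvable.pPrimeCore_spec (p := 2) (G := C)).1
  have hAcard : Nat.card (O.map C.subtype) = 3 ^ i := by rw [card_map_of_injective C.subtype_injective, hi]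
  have hAn : ∀ c ∈ C, ∀ a ∈ O.map C.subtype, c * a * c⁻¹ ∈ O.map C.subtype := by
    rintro c hc _ ⟨a, ha, rfl⟩
    exact ⟨⟨c, hc⟩ * a * ⟨c, hc⟩⁻¹, hOn.conj_mem a ha _, rfl⟩
  interval_cases i
  · exfalso
    have hObot : O = ⊥ := Subgroup.card_eq_one.1 (by rw [hi]; norm_num)
    have hcore := CfsgLib.Fitting.centralizer_pCore_le (p := 2) hObot
    obtain ⟨hPn, hP2⟩ := CfsgLib.Solvable.pCore_spec (p := 2) (G := C)
    obtain ⟨B, hB⟩ := Sylow.exists_subgroup_card_pow_prime 3 (G := C) (n := 2) (by norm_num; exact h9)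
    have hzP : (⟨z, hzC⟩ : C) ∈ Cfsg.pCore 2 C := by
      refine CfsgLib.Solvable.le_pCore 2 (N := zpowers (⟨z, hzC⟩ : C)) ⟨fun n hn g => ?_⟩
        (IsPGroup.of_card (n := 1) ?_) (mem_zpowers _)
      · obtain ⟨k, rfl⟩ := mem_zpowers_iff.1 hn
        have hcz : Commute g (⟨z, hzC⟩ : C) := Subtype.ext (hC g g.2)
        rw [(hcz.zpow_right k).eq, mul_inv_cancel_right]
        exact hn
      · rw [Nat.card_zpowers, ← Subgroup.orderOf_coe, hz, pow_one]
    refine H.not_faithful (B.map C.subtype) ((Cfsg.pCore 2 C).map C.subtype)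
      (by rw [card_map_of_injective C.subtype_injective, hB]; norm_num) (hP2.map _) hz ⟨_, hzP, rfl⟩
      (fun b hb => by obtain ⟨c, -, rfl⟩ := hb; exact hC c c.2) ?_ ?_
    · rintro _ ⟨c, -, rfl⟩ _ ⟨q, hq, rfl⟩
      exact ⟨c * q * c⁻¹, hPn.conj_mem q hq c, rfl⟩
    · rintro _ ⟨c, hc, rfl⟩ hcq
      have hcP : c ∈ Cfsg.pCore 2 C := hcore (mem_centralizer_iff.2 fun q hq =>
        Subtype.ext (hcq q ⟨q, hq, rfl⟩).symm)
      obtain ⟨k, hk⟩ := hP2 ⟨c, hcP⟩
      have hk' : orderOf c ∣ 2 ^ k := orderOf_dvd_of_pow_eq_one (congrArg Subtype.val hk)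
      have h3 : orderOf c ∣ 3 ^ 2 := hB ▸ Subgroup.orderOf_dvd_natCard B hc
      have := Nat.eq_one_of_dvd_coprimes (Nat.Coprime.pow k 2 (by norm_num)) hk' h3
      rw [orderOf_eq_one_iff.1 this, map_one]
  · exact (H.no_normal_three h64 (by rw [hAcard, pow_one]) hAn).elim
  · exact ⟨_, map_subtype_le O, by rw [hAcard]; norm_num, hAn⟩
  · exfalso
    have h27 : 27 ∣ Nat.card C := by
      have := card_subgroup_dvd_card O
      rwa [hi] at this
    refine H.sylow_three_large ?_ (by rw [hAcard]; norm_num) hAn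
    refine Nat.dvd_antisymm hd ?_
    exact Nat.Coprime.mul_dvd_of_dvd_of_dvd (by norm_num : Nat.Coprime 64 27) h64 h27

end Counts

end CfsgLib.M12Nse
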