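import Cfsg.Agent.M12Nse.Eleven
import Cfsg.Agent.Invol.Isolated

/-!
# The elements of order 5 and the involutions centralizing them
-/

set_option autoImplicit false
set_option linter.style.haveILetI false
set_option linter.unusedSectionVars false

namespace CfsgLib.M12Nse

open Subgroup CfsgLib.M11Nse CfsgLib.SmallSimple

variable {G : Type*} [Group G] [Finite G]

namespace Counts

variable (H : Counts G)
include H

theorem sylow_five [Fact (Nat.Prime 5)] (P : Sylow 5 G) : Nat.card (P : Subgroup G) = 5 := by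
  rw [card_sylow_eq P (k := 1) (m := 19008) (by rw [H.card]; norm_num) (by norm_num), pow_one]

theorem five_count [Fact (Nat.Prime 5)] : Nat.card (Sylow 5 G) = 2376 ∧ cnt G 5 = 9504 ∧
    ∀ P : Sylow 5 G, Nat.card (normalizer ((P : Subgroup G) : Set G)) = 40 := by
  have hc := cnt_prime (G := G) (p := 5) (fun P => H.sylow_five P)
  have hm : Nat.card (Sylow 5 G) % 5 = 1 := card_sylow_modEq_one 5 G
  have hn : Nat.card (Sylow 5 G) = 2376 := by
    rcases H.cases 5 with h | h | h | h | h | h | h | h <;> rw [h] at hc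
    all_goals omega
  refine ⟨hn, by rw [hc, hn], fun P => ?_⟩
  have h := card_sylow_mul' P
  rw [hn, H.card] at h
  omega

theorem five_dvd_centralizer {x : G} (hx : orderOf x = 5) :
    5 ∣ Nat.card (cz x) ∧ Nat.card (cz x) ∣ 40 ∧ Nat.card (cz x) ≠ 40 ∧ Nat.card (cz x) ≠ 5 := by
  classical
  haveI : Fact (Nat.Prime 5) := ⟨by norm_num⟩
  haveI := H.isSimple
  obtain ⟨hn, -, hN⟩ := H.five_count
  have hc : Nat.card (zpowers x) = 5 := by rw [Nat.card_zpowers, hx]
  let P : Sylow 5 G := Sylow.ofCard (zpowers x) (by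
    rw [hc, H.card, show (95040 : ℕ) = 5 ^ 1 * 19008 by norm_num,
      Nat.factorization_mul (by norm_num) (by norm_num), Finsupp.add_apply,
      Nat.Prime.factorization_pow (by norm_num), Finsupp.single_eq_same,
      Nat.factorization_eq_zero_of_not_dvd (by norm_num)]
    norm_num)
  have hPx : (P : Subgroup G) = zpowers x := rfl
  have hle : cz x = centralizer ((P : Subgroup G) : Set G) := by
    rw [hPx, zpowers_eq_closure, centralizer_closure]
  have hCN : cz x ≤ normalizer ((P : Subgroup G) : Set G) := hle ▸ centralizer_le_normalizer _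
  refine ⟨hc ▸ card_dvd_of_le (zpowers_le.2 (self_mem_cz x)), hN P ▸ card_dvd_of_le hCN, fun h => ?_, fun h => ?_⟩
  · refine CfsgLib.SmallSimple.not_le_centralizer P ?_ ?_ ?_
    · rw [H.sylow_five P]; norm_num
    · rw [H.sylow_five P, H.card]; norm_num
    · rw [← hle]
      exact (eq_of_le_of_card_ge hCN (by rw [h, hN P])).ge
  · have hd := CfsgLib.PermSimple.normalizer_card_dvd (P : Subgroup G) (H.sylow_five P)
    rw [hN P, ← hle, h] at hd
    norm_num at hd

/-- A centralizer of order 10 is that of the elements of order 5. -/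
theorem five_centralizer {x : G} (hx : orderOf x = 5) : Nat.card (cz x) = 10 ∧
    ∃ u : G, orderOf u = 2 ∧ u * x = x * u ∧ ∀ v, orderOf v = 2 → v * x = x * v → v = u := by
  classical
  haveI : Fact (Nat.Prime 5) := ⟨by norm_num⟩
  obtain ⟨hn, h5, hN⟩ := H.five_count
  obtain ⟨⟨c, hcc⟩, hd, h40, h5'⟩ := H.five_dvd_centralizer hx
  rw [hcc] at hd h40 h5'
  have hc8 : c ∣ 8 := Nat.dvd_of_mul_dvd_mul_left (by norm_num : 0 < 5) (by simpa using hd)
  have hcle := Nat.le_of_dvd (by norm_num) hc8
  -- the centralizers of elements of order 5 are conjugate up to a power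
  have hall : ∀ y : G, orderOf y = 5 → Nat.card (cz y) = Nat.card (cz x) ∧
      ∀ n, Nat.card {v : G // orderOf v = n ∧ Commute y v} = Nat.card {v : G // orderOf v = n ∧ Commute x v} := by
    intro y hy
    have hpx : IsPGroup 5 (zpowers x) := IsPGroup.of_card (n := 1) (by rw [Nat.card_zpowers, hx, pow_one])
    have hpy : IsPGroup 5 (zpowers y) := IsPGroup.of_card (n := 1) (by rw [Nat.card_zpowers, hy, pow_one])
    obtain ⟨P, hP⟩ := hpx.exists_le_sylow
    obtain ⟨Q, hQ⟩ := hpy.exists_le_sylow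
    have hPx : (P : Subgroup G) = zpowers x :=
      (eq_of_le_of_card_ge hP (by rw [H.sylow_five, Nat.card_zpowers, hx])).symm
    obtain ⟨g, hg⟩ := MulAction.exists_smul_eq G P Q
    have hyg : g⁻¹ * y * g ∈ zpowers x := by
      have hy' := hQ (mem_zpowers y)
      rw [← hg] at hy'
      obtain ⟨w, hw, he⟩ := hy'
      have : g * w * g⁻¹ = y := he
      rw [← this, ← hPx]
      simpa [mul_assoc] using SetLike.mem_coe.1 hw
    set w := g⁻¹ * y * g with hw
    have how : orderOf w = 5 := by
      rw [← hy]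
      exact orderOf_eq_of_isConj (isConj_iff.2 ⟨g⁻¹, by rw [hw, inv_inv]⟩)
    have hwx : zpowers w = zpowers x :=
      eq_of_le_of_card_ge (zpowers_le.2 hyg) (by rw [Nat.card_zpowers, Nat.card_zpowers, how, hx])
    have hcom : ∀ v, Commute w v ↔ Commute x v := fun v => by
      constructor <;> intro h
      · obtain ⟨k, hk⟩ := mem_zpowers_iff.1 (hwx ▸ mem_zpowers x : x ∈ zpowers w)
        rw [← hk]; exact h.zpow_left k
      · obtain ⟨k, hk⟩ := mem_zpowers_iff.1 hyg
        rw [← hk]; exact h.zpow_left k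
    have hyw : ∀ v, Commute y v ↔ Commute w (g⁻¹ * v * g) := fun v => by
      rw [hw, commute_iff_eq, commute_iff_eq]
      constructor
      · intro h
        calc g⁻¹ * y * g * (g⁻¹ * v * g) = g⁻¹ * (y * v) * g := by group
          _ = _ := by rw [h]; group
      · intro h
        have := congrArg (fun t => g * t * g⁻¹) h
        simpa [mul_assoc] using this
    refine ⟨Nat.card_congr (conjEquiv g⁻¹ _ _ fun v => ?_), fun n => Nat.card_congr (conjEquiv g⁻¹ _ _ fun v => ?_)⟩
    · rw [inv_inv, mem_cz, mem_cz]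
      exact (⟨Eq.symm, Eq.symm⟩ : v * y = y * v ↔ y * v = v * y).trans
        ((hyw v).trans ((hcom _).trans ⟨Eq.symm, Eq.symm⟩))
    · rw [inv_inv]
      refine and_congr ?_ ((hyw v).trans (hcom _))
      rw [orderOf_eq_of_isConj (isConj_iff.2 ⟨g⁻¹, by rw [inv_inv]⟩ : IsConj v (g⁻¹ * v * g))]
  have hmulx : ∀ n, Nat.Coprime 5 n → 0 < n →
      cnt G (5 * n) = 9504 * Nat.card {v : G // orderOf v = n ∧ Commute x v} := by
    intro n hcop hn0
    rw [cnt_mul (by norm_num) hn0 hcop, card_pairs (fun p : G => orderOf p = 5)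
      (fun p v => orderOf v = n ∧ Commute p v) fun y hy => (hall y hy).2 n]
    exact congrArg (· * _) h5
  -- the elements of order 10
  have hinv : Nat.card {v : G // orderOf v = 2 ∧ Commute x v} = 1 := by
    have h10 := hmulx 2 (by norm_num) two_pos
    have hpos : 0 < Nat.card {v : G // orderOf v = 2 ∧ Commute x v} := by
      have h2 : 2 ∣ Nat.card (cz x) := by
        rw [hcc]
        have : c ≠ 1 := fun h => h5' (by rw [h])
        interval_cases c <;> omega
      haveI : Fact (Nat.Prime 2) := ⟨Nat.prime_two⟩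
      obtain ⟨v, hv⟩ := exists_prime_orderOf_dvd_card' (G := cz x) 2 h2
      exact Nat.card_pos_iff.2 ⟨⟨⟨v, by rw [Subgroup.orderOf_coe, hv], (mem_cz.1 v.2).symm⟩⟩, inferInstance⟩
    rcases H.cases 10 with h | h | h | h | h | h | h | h <;> rw [show 5 * 2 = 10 from rfl, h] at h10
    all_goals omega
  obtain ⟨hu, ⟨⟨u, hu2, hux⟩⟩⟩ := Nat.card_eq_one_iff_unique.1 hinv
  refine ⟨?_, u, hu2, hux.eq.symm, fun v hv hvx =>
    congrArg Subtype.val (hu.elim ⟨v, hv, hvx.symm⟩ ⟨u, hu2, hux⟩)⟩
  -- no elements of order 20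
  have hc2 : c = 2 := by
    by_contra hc2
    have hc4 : c = 4 := by interval_cases c <;> omega
    haveI : Fact (Nat.Prime 2) := ⟨Nat.prime_two⟩
    obtain ⟨S⟩ : Nonempty (Sylow 2 (cz x)) := inferInstance
    have hS : Nat.card (S : Subgroup (cz x)) = 4 := by
      rw [card_sylow_eq S (k := 2) (m := 5) (by rw [hcc, hc4]; norm_num) (by norm_num)]; norm_num
    obtain ⟨w, hw, hw4⟩ : ∃ w : G, Commute x w ∧ orderOf w = 4 := by
      by_contra hcon
      push Not at hcon
      have hsub : ∀ w : (S : Subgroup (cz x)), orderOf ((w : cz x) : G) ∣ 2 := fun w => by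
        have h4 : orderOf ((w : cz x) : G) ∣ 4 := by
          rw [Subgroup.orderOf_coe, ← hS]
          exact Subgroup.orderOf_dvd_natCard _ w.2
        rcases (Nat.dvd_prime_pow Nat.prime_two).1 (show orderOf ((w : cz x) : G) ∣ 2 ^ 2 by simpa using h4)
          with ⟨i, hi, he⟩
        interval_cases i
        · rw [he]; norm_num
        · rw [he]; norm_num
        · exact absurd he (by simpa using hcon _ (mem_cz.1 (w : cz x).2).symm)
      have hle : Nat.card (S : Subgroup (cz x)) ≤ 2 := by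
        refine (Nat.card_le_card_of_injective
          (fun w : (S : Subgroup (cz x)) => if (w : cz x) = 1 then false else true) ?_).trans (by simp)
        intro a b hab
        by_cases ha : (a : cz x) = 1 <;> by_cases hb : (b : cz x) = 1 <;> simp [ha, hb] at hab
        · exact Subtype.ext (ha.trans hb.symm)
        · have key : ∀ a : (S : Subgroup (cz x)), (a : cz x) ≠ 1 → ((a : cz x) : G) = u := by
            intro a ha
            rcases (Nat.dvd_prime Nat.prime_two).1 (hsub a) with e | e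
            · exact absurd (Subtype.ext (orderOf_eq_one_iff.1 e)) ha
            · exact congrArg Subtype.val (hu.elim ⟨_, e, (mem_cz.1 (a : cz x).2).symm⟩ ⟨u, hu2, hux⟩)
          exact Subtype.ext (Subtype.ext ((key a ha).trans (key b hb).symm))
      omega
    have h20 := hmulx 4 (by norm_num) (by norm_num)
    have hpos : 2 ≤ Nat.card {v : G // orderOf v = 4 ∧ Commute x v} := by
      refine Nat.succ_le_iff.2 (Finite.one_lt_card_iff_nontrivial.2 ?_)
      refine ⟨⟨w, hw4, hw⟩, ⟨w⁻¹, by rw [orderOf_inv, hw4], hw.inv_right⟩, ?_⟩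
      intro h
      have hww : w = w⁻¹ := congrArg Subtype.val h
      have h2 : w ^ 2 = 1 := by rw [sq]; nth_rw 2 [hww]; exact mul_inv_cancel w
      have := orderOf_dvd_of_pow_eq_one h2
      rw [hw4] at this
      norm_num at this
    rcases H.cases 20 with h | h | h | h | h | h | h | h <;> rw [show 5 * 4 = 20 from rfl, h] at h20
    all_goals omega
  rw [hcc, hc2]

theorem ten_count : cnt G 10 = 9504 := by
  haveI : Fact (Nat.Prime 5) := ⟨by norm_num⟩
  obtain ⟨-, h5, -⟩ := H.five_count
  rw [show 10 = 5 * 2 from rfl, cnt_mul (by norm_num) two_pos (by norm_num), card_pairs (fun p : G => orderOf p = 5)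
      (fun p v => orderOf v = 2 ∧ Commute p v) (m := 1) fun y hy => ?_]
  · rw [mul_one]; exact h5
  obtain ⟨-, u, hu2, hux, huniq⟩ := H.five_centralizer hy
  exact Nat.card_eq_one_iff_unique.2 ⟨⟨fun a b => Subtype.ext
    ((huniq _ a.2.1 a.2.2.eq.symm).trans (huniq _ b.2.1 b.2.2.eq.symm).symm)⟩, ⟨⟨u, hu2, hux.symm⟩⟩⟩

theorem orderOf_commute_five {x g : G} (hx : orderOf x = 5) (hg : g * x = x * g) : orderOf g ∣ 10 :=
  (H.five_centralizer hx).1 ▸ Subgroup.orderOf_dvd_natCard _ (mem_cz.2 hg)

/-- Elements with centralizers of order divisible by 5. -/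
theorem five_dvd_cz {g : G} (h : 5 ∣ Nat.card (cz g)) : orderOf g ∣ 10 := by
  haveI : Fact (Nat.Prime 5) := ⟨by norm_num⟩
  obtain ⟨x, hx⟩ := exists_prime_orderOf_dvd_card' (G := cz g) 5 h
  rw [← Subgroup.orderOf_coe] at hx
  exact H.orderOf_commute_five hx (mem_cz.1 x.2).symm

/-- The involutions centralizing elements of order 5 form one class. -/
theorem isConj_of_five {u v : G} (hu : orderOf u = 2) (hv : orderOf v = 2) (hu5 : 5 ∣ Nat.card (cz u))
    (hv5 : 5 ∣ Nat.card (cz v)) : IsConj u v := by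
  haveI : Fact (Nat.Prime 5) := ⟨by norm_num⟩
  obtain ⟨x, hx⟩ := exists_prime_orderOf_dvd_card' (G := cz u) 5 hu5
  obtain ⟨y, hy⟩ := exists_prime_orderOf_dvd_card' (G := cz v) 5 hv5
  rw [← Subgroup.orderOf_coe] at hx hy
  obtain ⟨P, hP⟩ := (IsPGroup.of_card (n := 1) (by rw [Nat.card_zpowers, hx, pow_one]) :
    IsPGroup 5 (zpowers (x : G))).exists_le_sylow
  obtain ⟨Q, hQ⟩ := (IsPGroup.of_card (n := 1) (by rw [Nat.card_zpowers, hy, pow_one]) :
    IsPGroup 5 (zpowers (y : G))).exists_le_sylow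
  have hPx : (P : Subgroup G) = zpowers (x : G) :=
    (eq_of_le_of_card_ge hP (by rw [H.sylow_five, Nat.card_zpowers, hx])).symm
  obtain ⟨g, hg⟩ := MulAction.exists_smul_eq G P Q
  refine isConj_iff.2 ⟨g, ?_⟩
  obtain ⟨-, w, -, -, huniq⟩ := H.five_centralizer hy
  have h1 : g * u * g⁻¹ * y = y * (g * u * g⁻¹) := by
    have hy' := hQ (mem_zpowers (y : G))
    rw [← hg] at hy'
    obtain ⟨t, ht, he⟩ := hy'
    have he' : g * t * g⁻¹ = y := he
    rw [SetLike.mem_coe, hPx] at ht
    obtain ⟨k, rfl⟩ := mem_zpowers_iff.1 ht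
    have hc : Commute u ((x : G) ^ k) := (show Commute u (x : G) from (mem_cz.1 x.2).symm).zpow_right k
    calc g * u * g⁻¹ * y = g * (u * (x : G) ^ k) * g⁻¹ := by rw [← he']; group
      _ = _ := by rw [hc.eq, ← he']; group
  exact (huniq _ (by rw [orderOf_eq_of_isConj (isConj_iff.2 ⟨g, rfl⟩), hu]) h1).trans
    (huniq v hv (mem_cz.1 y.2).symm).symm

/-- The centralizer of an involution centralizing an element of order 5. -/
theorem card_cz_u {u : G} (hu : orderOf u = 2) (hu5 : 5 ∣ Nat.card (cz u)) :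
    Nat.card (cz u) = 240 ∨ Nat.card (cz u) = 1440 ∨ Nat.card (cz u) = 8640 ∨ Nat.card (cz u) = 40 := by
  classical
  haveI : Fact (Nat.Prime 5) := ⟨by norm_num⟩
  obtain ⟨-, -, hN⟩ := H.five_count
  obtain ⟨S⟩ : Nonempty (Sylow 5 (cz u)) := inferInstance
  have hd : Nat.card (cz u) ∣ 95040 := H.card ▸ card_subgroup_dvd_card _
  have h11 : ¬ 11 ∣ Nat.card (cz u) := by
    refine H.not_eleven_dvd (fun h => ?_) (by omega)
    rw [h, orderOf_one] at hu; norm_num at hu
  obtain ⟨c, hc⟩ := hu5
  rw [hc] at hd h11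
  have hcd : c ∣ 19008 := Nat.dvd_of_mul_dvd_mul_left (by norm_num : 0 < 5) (by simpa using hd)
  have hnd : ¬ 5 ∣ c := fun h => by
    have := h.trans hcd
    norm_num at this
  have hS : Nat.card (S : Subgroup (cz u)) = 5 := by
    rw [card_sylow_eq S (k := 1) (m := c) (by rw [pow_one]; exact hc) hnd, pow_one]
  set P0 : Subgroup G := (S : Subgroup (cz u)).map (cz u).subtype with hP0
  have hP0c : Nat.card P0 = 5 := by rw [hP0, card_map_of_injective (cz u).subtype_injective, hS]
  let P : Sylow 5 G := Sylow.ofCard P0 (by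
    rw [hP0c, H.card, show (95040 : ℕ) = 5 ^ 1 * 19008 by norm_num,
      Nat.factorization_mul (by norm_num) (by norm_num), Finsupp.add_apply,
      Nat.Prime.factorization_pow (by norm_num), Finsupp.single_eq_same,
      Nat.factorization_eq_zero_of_not_dvd (by norm_num)]
    norm_num)
  have hPP : (P : Subgroup G) = P0 := rfl
  -- the normalizer centralizes the unique commuting involution
  have hNu : normalizer ((P : Subgroup G) : Set G) ≤ cz u := by
    obtain ⟨x, hx⟩ := exists_prime_orderOf_dvd_card' (G := (S : Subgroup (cz u))) 5 (by rw [hS])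
    rw [← Subgroup.orderOf_coe, ← Subgroup.orderOf_coe] at hx
    set xg : G := ((x : cz u) : G) with hxg
    have hxP : xg ∈ (P : Subgroup G) := by rw [hPP]; exact ⟨_, x.2, rfl⟩
    have hPz : (P : Subgroup G) = zpowers xg :=
      (eq_of_le_of_card_ge (zpowers_le.2 hxP) (by rw [H.sylow_five, Nat.card_zpowers, hx])).symm
    obtain ⟨-, w, -, -, huniq⟩ := H.five_centralizer hx
    have huw := huniq u hu (mem_cz.1 (x : cz u).2).symm
    intro g hg
    have hgx : g⁻¹ * xg * g ∈ (P : Subgroup G) := by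
      have h' := (mem_normalizer_iff.1 (inv_mem hg) xg).1 hxP
      simpa using h'
    rw [hPz] at hgx
    obtain ⟨k, hk⟩ := mem_zpowers_iff.1 hgx
    have hc : Commute u (xg ^ k) := (show Commute u xg from (mem_cz.1 (x : cz u).2).symm).zpow_right k
    have h1 : g * u * g⁻¹ * xg = xg * (g * u * g⁻¹) := by
      calc g * u * g⁻¹ * xg = g * (u * (g⁻¹ * xg * g)) * g⁻¹ := by group
        _ = g * ((g⁻¹ * xg * g) * u) * g⁻¹ := by rw [← hk, hc.eq]
        _ = _ := by group
    have := (huniq _ (by rw [orderOf_eq_of_isConj (isConj_iff.2 ⟨g, rfl⟩), hu]) h1).trans huw.symm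
    exact mem_cz.2 (mul_inv_eq_iff_eq_mul.1 this)
  have hNS : Nat.card (normalizer ((S : Subgroup (cz u)) : Set (cz u))) = 40 := by
    have hS' : (S : Subgroup (cz u)) = (P : Subgroup G).subgroupOf (cz u) := by
      rw [hPP, hP0, subgroupOf, comap_map_eq_self_of_injective (cz u).subtype_injective]
    rw [hS', ← subgroupOf_normalizer_eq (by rw [hPP]; exact map_subtype_le _),
      Nat.card_congr (subgroupOfEquivOfLe hNu).toEquiv, hN P]
  have hmul := card_sylow_mul' (G := cz u) S
  rw [hNS] at hmul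
  have hm : Nat.card (Sylow 5 (cz u)) % 5 = 1 := card_sylow_modEq_one 5 _
  have hm' : Nat.card (Sylow 5 (cz u)) ∣ 216 := by
    have h40 : Nat.card (Sylow 5 (cz u)) * 40 ∣ 95040 := hmul ▸ H.card ▸ card_subgroup_dvd_card _
    have h2376 : Nat.card (Sylow 5 (cz u)) ∣ 11 * 216 :=
      Nat.dvd_of_mul_dvd_mul_right (by norm_num : 0 < 40) (by simpa using h40)
    refine (Nat.Coprime.dvd_of_dvd_mul_left ?_ h2376)
    refine ((Nat.Prime.coprime_iff_not_dvd (by norm_num)).2 fun h => h11 ?_).symm
    rw [← hc, ← hmul]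
    exact Dvd.dvd.mul_right h 40
  rw [← hmul]
  have := Nat.mem_divisors.2 ⟨hm', (by norm_num : (216 : ℕ) ≠ 0)⟩
  rw [show (216 : ℕ).divisors = {1, 2, 3, 4, 6, 8, 9, 12, 18, 24, 27, 36, 54, 72, 108, 216} by decide +kernel] at this
  simp only [Finset.mem_insert, Finset.mem_singleton] at this
  omega

end Counts

end CfsgLib.M12Nse
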