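import Cfsg.Agent.M12Nse.Orders

/-!
# Local facts from the element orders
-/

set_option autoImplicit false
set_option linter.style.haveILetI false
set_option linter.unusedSectionVars false

namespace CfsgLib.M12Nse

open Subgroup CfsgLib.M11Nse CfsgLib.SmallSimple

variable {G : Type*} [Group G] [Finite G]

/-- The elements of order 3 centralizing an element. -/
noncomputable def f3 (w : G) : ℕ := Nat.card {x : G // orderOf x = 3 ∧ Commute w x}

theorem f3_conj {w w' : G} (h : IsConj w w') : f3 w' = f3 w := by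
  obtain ⟨c, rfl⟩ := isConj_iff.1 h
  refine (Nat.card_congr (conjEquiv c (fun x => orderOf x = 3 ∧ Commute w x)
    (fun x => orderOf x = 3 ∧ Commute (c * w * c⁻¹) x) fun x => ?_)).symm
  rw [orderOf_eq_of_isConj (isConj_iff.2 ⟨c, rfl⟩ : IsConj x (c * x * c⁻¹)), Commute.conj_iff]

theorem f3_eq (w : G) : f3 w = cnt (cz w) 3 := by
  refine Nat.card_congr
    { toFun := fun x => ⟨⟨x.1, mem_cz.2 x.2.2.eq.symm⟩, by rw [← Subgroup.orderOf_coe]; exact x.2.1⟩
      invFun := fun x => ⟨x.1.1, by rw [Subgroup.orderOf_coe]; exact x.2, (mem_cz.1 x.1.2).symm⟩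
      left_inv := fun _ => rfl
      right_inv := fun _ => rfl }

/-- The orbit of an element under a subgroup. -/
theorem card_orbit_in (C : Subgroup G) (g : G) :
    Nat.card {x : G // ∃ c ∈ C, c * g * c⁻¹ = x} = (cz g).relIndex C := by
  classical
  symm
  rw [relIndex, index_eq_card]
  refine Nat.card_eq_of_bijective (Quotient.lift (fun c : C => (⟨(c : G) * g * (c : G)⁻¹, c, c.2, rfl⟩ :
    {x : G // ∃ c ∈ C, c * g * c⁻¹ = x})) fun a b hab => ?_) ⟨?_, ?_⟩
  · have h := QuotientGroup.leftRel_apply.1 hab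
    have hc : ((a : G)⁻¹ * b) * g = g * ((a : G)⁻¹ * b) := mem_cz.1 h
    refine Subtype.ext ?_
    show (a : G) * g * (a : G)⁻¹ = (b : G) * g * (b : G)⁻¹
    calc (a : G) * g * (a : G)⁻¹ = a * (((a : G)⁻¹ * b) * g * ((a : G)⁻¹ * b)⁻¹) * (a : G)⁻¹ := by
          rw [hc, mul_inv_cancel_right]
      _ = _ := by group
  · intro p q
    refine Quotient.inductionOn₂ p q fun a b h => ?_
    have h' : (a : G) * g * (a : G)⁻¹ = (b : G) * g * (b : G)⁻¹ := congrArg Subtype.val h
    refine Quotient.sound (QuotientGroup.leftRel_apply.2 (mem_cz.2 ?_))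
    show (a : G)⁻¹ * b * g = g * ((a : G)⁻¹ * b)
    calc (a : G)⁻¹ * b * g = (a : G)⁻¹ * ((b : G) * g * (b : G)⁻¹) * b := by group
      _ = _ := by rw [← h']; group
  · rintro ⟨x, c, hc, rfl⟩
    exact ⟨QuotientGroup.mk ⟨c, hc⟩, rfl⟩

/-- An invariant set is divisible by a common divisor of the orbit lengths. -/
theorem dvd_card_of_orbits (C : Subgroup G) (P : G → Prop) (d : ℕ)
    (hinv : ∀ c ∈ C, ∀ g, P g → P (c * g * c⁻¹)) (h : ∀ g, P g → d ∣ (cz g).relIndex C) :
    d ∣ Nat.card {g // P g} := by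
  induction hn : Nat.card {g // P g} using Nat.strong_induction_on generalizing P with
  | _ n ih =>
    by_cases h0 : n = 0
    · simp [h0]
    obtain ⟨⟨g, hg⟩⟩ : Nonempty {g // P g} := (Nat.card_pos_iff.1 (by omega)).1
    classical
    set O : G → Prop := fun x => ∃ c ∈ C, c * g * c⁻¹ = x with hO
    haveI := Fintype.ofFinite G
    have hsplit : Nat.card {x // P x} = Nat.card {x // O x} + Nat.card {x // P x ∧ ¬ O x} := by
      rw [Nat.card_eq_fintype_card, Nat.card_eq_fintype_card, Nat.card_eq_fintype_card, Fintype.card_subtype,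
        Fintype.card_subtype, Fintype.card_subtype, ← Finset.card_filter_add_card_filter_not
          (s := Finset.univ.filter fun x => P x) O, Finset.filter_filter, Finset.filter_filter]
      congr 1
      refine congrArg Finset.card (Finset.filter_congr fun x _ => ?_)
      exact ⟨fun h => h.2, fun h => ⟨by obtain ⟨c, hc, rfl⟩ := h; exact hinv c hc g hg, h⟩⟩
    rw [← hn, hsplit, card_orbit_in]
    refine Nat.dvd_add (h g hg) ?_
    have hlt : Nat.card {x // P x ∧ ¬ O x} < n := by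
      rw [← hn, hsplit]
      haveI : Nonempty {x // O x} := ⟨⟨g, 1, one_mem _, by simp⟩⟩
      have := Nat.card_pos (α := {x // O x})
      omega
    refine ih _ hlt (fun x => P x ∧ ¬ O x) (fun c hc x hx => ⟨hinv c hc x hx.1, fun ⟨d', hd', he⟩ => hx.2
      ⟨c⁻¹ * d', mul_mem (inv_mem hc) hd', ?_⟩⟩) (fun x hx => h x hx.1) rfl
    have := congrArg (fun t => c⁻¹ * t * c) he
    simpa [mul_assoc] using this

/-- A subgroup of exponent two centralizes itself. -/
theorem comm_of_sq {E : Subgroup G} (h : ∀ e ∈ E, e * e = 1) {a b : G} (ha : a ∈ E) (hb : b ∈ E) :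
    a * b = b * a := by
  have hi : ∀ e ∈ E, e⁻¹ = e := fun e he => inv_eq_of_mul_eq_one_right (h e he)
  calc a * b = (a * b)⁻¹ := (hi _ (mul_mem ha hb)).symm
    _ = b * a := by rw [mul_inv_rev, hi a ha, hi b hb]

namespace Counts

variable (H : Counts G)
include H

theorem order_mem (g : G) : orderOf g = 1 ∨ orderOf g = 2 ∨ orderOf g = 3 ∨ orderOf g = 4 ∨ orderOf g = 5 ∨
    orderOf g = 6 ∨ orderOf g = 8 ∨ orderOf g = 10 ∨ orderOf g = 11 := by
  simpa using H.spectrum.1 g

/-- The 2-elements centralizing an element of order 3 square to 1. -/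
theorem sq_one_of_three {x g : G} (hx : orderOf x = 3) (hc : g * x = x * g) {k : ℕ} (hg : g ^ 2 ^ k = 1) :
    g * g = 1 := by
  obtain ⟨i, -, hi⟩ := (Nat.dvd_prime_pow Nat.prime_two).1 (orderOf_dvd_of_pow_eq_one hg)
  have ho : orderOf (x * g) = 3 * 2 ^ i := by
    rw [(show Commute x g from hc.symm).orderOf_mul_eq_mul_orderOf_of_coprime
      (by rw [hx, hi]; exact Nat.Coprime.pow_right i (by norm_num)), hx, hi]
  rw [← sq, ← orderOf_dvd_iff_pow_eq_one, hi]
  have h2 : 2 ^ i ≤ 2 := by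
    have := H.order_mem (x * g)
    rw [ho] at this
    rcases Nat.lt_or_ge i 2 with h | h
    · interval_cases i <;> norm_num
    · obtain ⟨j, rfl⟩ := Nat.exists_eq_add_of_le h
      rw [pow_add] at this
      omega
  rcases Nat.lt_or_ge i 2 with h | h
  · interval_cases i <;> norm_num
  · have : 2 ^ 2 ≤ 2 ^ i := Nat.pow_le_pow_right two_pos h
    omega

theorem three_pow {g : G} {k : ℕ} (hg : g ^ 3 ^ k = 1) : g ^ 3 = 1 := by
  obtain ⟨i, -, hi⟩ := (Nat.dvd_prime_pow Nat.prime_three).1 (orderOf_dvd_of_pow_eq_one hg)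
  rw [← orderOf_dvd_iff_pow_eq_one, hi]
  rcases Nat.lt_or_ge i 2 with h | h
  · interval_cases i <;> norm_num
  · obtain ⟨j, rfl⟩ := Nat.exists_eq_add_of_le h
    have := H.order_mem g
    rw [hi, pow_add] at this
    omega

theorem card_sylow_two [Fact (Nat.Prime 2)] (S : Sylow 2 G) : Nat.card (S : Subgroup G) = 64 := by
  rw [card_sylow_eq S (k := 6) (m := 1485) (by rw [H.card]; norm_num) (by norm_num)]; norm_num

theorem card_sylow_three [Fact (Nat.Prime 3)] (S : Sylow 3 G) : Nat.card (S : Subgroup G) = 27 := by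
  rw [card_sylow_eq S (k := 3) (m := 3520) (by rw [H.card]; norm_num) (by norm_num)]; norm_num

/-- Subgroups of exponent 2 have order at most 16. -/
theorem elementary_le {E : Subgroup G} (hE : ∀ e ∈ E, e * e = 1) : Nat.card E ≤ 16 := by
  classical
  haveI : Fact (Nat.Prime 2) := ⟨Nat.prime_two⟩
  obtain ⟨d, hd⟩ := H.spectrum.2.2
  have hE2 : IsPGroup 2 E := fun e => ⟨1, Subtype.ext (by simpa [pow_two] using hE e e.2)⟩
  have hd2 : IsPGroup 2 (zpowers d) := IsPGroup.of_card (n := 3) (by rw [Nat.card_zpowers, hd]; norm_num)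
  obtain ⟨P, hP⟩ := hE2.exists_le_sylow
  obtain ⟨Q, hQ⟩ := hd2.exists_le_sylow
  obtain ⟨g, hg⟩ := MulAction.exists_smul_eq G Q P
  have hdP : g * d * g⁻¹ ∈ (P : Subgroup G) := hg ▸ ⟨d, hQ (mem_zpowers d), rfl⟩
  set d' := g * d * g⁻¹
  have hd' : orderOf d' = 8 := (orderOf_eq_of_isConj (isConj_iff.2 ⟨g, rfl⟩)).trans hd
  let f : E × Fin 4 → (P : Subgroup G) := fun p => ⟨(p.1 : G) * d' ^ (p.2 : ℕ), mul_mem (hP p.1.2) (pow_mem hdP _)⟩
  have hf : Function.Injective f := by
    rintro ⟨a, i⟩ ⟨b, j⟩ h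
    have h' : (a : G) * d' ^ (i : ℕ) = b * d' ^ (j : ℕ) := congrArg Subtype.val h
    have key : d' ^ ((i : ℤ) - j) ∈ E := by
      have : d' ^ ((i : ℤ) - j) = (a : G)⁻¹ * b := by
        rw [zpow_sub, zpow_natCast, zpow_natCast, mul_inv_eq_iff_eq_mul, mul_assoc, ← h', inv_mul_cancel_left]
      rw [this]
      exact mul_mem (inv_mem a.2) b.2
    have h2 : d' ^ (2 * ((i : ℤ) - j)) = 1 := by rw [two_mul, zpow_add]; exact hE _ key
    have h8 := orderOf_dvd_iff_zpow_eq_one.2 h2
    rw [hd'] at h8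
    have hi := i.2
    have hj := j.2
    have hij : (i : ℕ) = j := by omega
    rw [hij, mul_left_inj] at h'
    exact Prod.ext (Subtype.ext h') (Fin.ext hij)
  have := Nat.card_le_card_of_injective f hf
  rw [Nat.card_prod, Nat.card_fin, H.card_sylow_two P] at this
  omega

theorem not_five_dvd {g : G} (hg : ¬ orderOf g ∣ 10) : ¬ 5 ∣ Nat.card (cz g) := fun h => hg (H.five_dvd_cz h)

theorem not_five_eleven_three {x : G} (hx : orderOf x = 3) :
    ¬ 5 ∣ Nat.card (cz x) ∧ ¬ 11 ∣ Nat.card (cz x) :=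
  ⟨H.not_five_dvd (by rw [hx]; norm_num),
    H.not_eleven_dvd (fun h => by rw [h, orderOf_one] at hx; norm_num at hx) (by omega)⟩

theorem invol_ne {w : G} (hw : orderOf w = 2) : ¬ 11 ∣ Nat.card (cz w) :=
  H.not_eleven_dvd (fun h => by rw [h, orderOf_one] at hw; norm_num at hw) (by omega)

/-- The order of a centralizer as a product of prime powers. -/
theorem card_eq_two_three {K : Subgroup G} (h5 : ¬ 5 ∣ Nat.card K) (h11 : ¬ 11 ∣ Nat.card K) :
    Nat.card K ∣ 1728 := by
  have hd : Nat.card K ∣ 55 * 1728 := by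
    rw [show 55 * 1728 = 95040 from rfl, ← H.card]; exact card_subgroup_dvd_card K
  refine Nat.Coprime.dvd_of_dvd_mul_left ?_ hd
  rw [show (55 : ℕ) = 5 * 11 from rfl]
  exact Nat.Coprime.mul_right ((Nat.Prime.coprime_iff_not_dvd (by norm_num)).2 h5).symm
    ((Nat.Prime.coprime_iff_not_dvd (by norm_num)).2 h11).symm

/-- The pairs giving the elements of order 6, split along a class of involutions. -/
theorem six_split {u : G} (hu : orderOf u = 2) : 23760 = (cz u).index * f3 u +
    Nat.card {p : G × G // (orderOf p.1 = 2 ∧ ¬ IsConj u p.1) ∧ orderOf p.2 = 3 ∧ Commute p.1 p.2} := by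
  classical
  haveI := Fintype.ofFinite G
  rw [← H.spectrum.2.1, show 6 = 2 * 3 from rfl, cnt_mul two_pos (by norm_num) (by norm_num), ← card_conj,
    ← card_pairs (IsConj u) (fun w x => orderOf x = 3 ∧ Commute w x) fun w hw => f3_conj hw]
  rw [Nat.card_eq_fintype_card, Nat.card_eq_fintype_card, Nat.card_eq_fintype_card, Fintype.card_subtype,
    Fintype.card_subtype, Fintype.card_subtype,
    ← Finset.card_filter_add_card_filter_not (s := Finset.univ.filter fun p : G × G =>
      orderOf p.1 = 2 ∧ orderOf p.2 = 3 ∧ Commute p.1 p.2) (fun p => IsConj u p.1),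
    Finset.filter_filter, Finset.filter_filter]
  congr 1 <;> refine congrArg Finset.card (Finset.filter_congr fun p _ => ?_)
  · exact ⟨fun h => ⟨h.2, h.1.2⟩, fun h => ⟨⟨(orderOf_eq_of_isConj h.1).trans hu, h.2⟩, h.1⟩⟩
  · exact ⟨fun h => ⟨⟨h.1.1, h.2⟩, h.1.2⟩, fun h => ⟨⟨h.1.1, h.2⟩, h.1.2⟩⟩

theorem invol_split {u : G} (hu : orderOf u = 2) :
    891 = (cz u).index + Nat.card {w : G // orderOf w = 2 ∧ ¬ IsConj u w} := by
  classical
  haveI := Fintype.ofFinite G
  rw [← H.two_count, ← card_conj, cnt, Nat.card_eq_fintype_card, Nat.card_eq_fintype_card,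
    Nat.card_eq_fintype_card, Fintype.card_subtype, Fintype.card_subtype, Fintype.card_subtype,
    ← Finset.card_filter_add_card_filter_not (s := Finset.univ.filter fun w : G => orderOf w = 2) (IsConj u),
    Finset.filter_filter, Finset.filter_filter]
  congr 1
  refine congrArg Finset.card (Finset.filter_congr fun p _ => ?_)
  exact ⟨fun h => h.2, fun h => ⟨(orderOf_eq_of_isConj h).trans hu, h⟩⟩

theorem exists_u : ∃ u : G, orderOf u = 2 ∧ 5 ∣ Nat.card (cz u) := by
  haveI : Fact (Nat.Prime 5) := ⟨by norm_num⟩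
  obtain ⟨y, hy⟩ := exists_prime_orderOf_dvd_card' (G := G) 5 (by rw [H.card]; norm_num)
  obtain ⟨-, u, hu, huy, -⟩ := H.five_centralizer hy
  refine ⟨u, hu, hy ▸ ?_⟩
  exact Subgroup.orderOf_dvd_natCard (cz u) (mem_cz.2 huy.symm)

/-- An involution central in a Sylow 2-subgroup. -/
theorem exists_z [Fact (Nat.Prime 2)] : ∃ z : G, orderOf z = 2 ∧ 64 ∣ Nat.card (cz z) := by
  obtain ⟨S⟩ : Nonempty (Sylow 2 G) := inferInstance
  haveI : Nontrivial (S : Subgroup G) := Finite.one_lt_card_iff_nontrivial.1 (by rw [H.card_sylow_two]; norm_num)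
  haveI := S.2.center_nontrivial
  have h2 : 2 ∣ Nat.card (center (S : Subgroup G)) := by
    obtain ⟨n, hn⟩ := IsPGroup.iff_card.1 (S.2.to_subgroup (center (S : Subgroup G)))
    have h1 : 1 < Nat.card (center (S : Subgroup G)) := Finite.one_lt_card_iff_nontrivial.2 inferInstance
    rw [hn] at h1 ⊢
    exact dvd_pow_self 2 (by rintro rfl; simp at h1)
  obtain ⟨c, hc⟩ := exists_prime_orderOf_dvd_card' (G := center (S : Subgroup G)) 2 h2
  rw [← Subgroup.orderOf_coe, ← Subgroup.orderOf_coe] at hc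
  refine ⟨_, hc, H.card_sylow_two S ▸ card_dvd_of_le fun s hs => mem_cz.2 ?_⟩
  exact congrArg Subtype.val (mem_center_iff.1 c.2 ⟨s, hs⟩)

end Counts

end CfsgLib.M12Nse
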