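import Cfsg.Agent.M12Nse.ModelClass
import Cfsg.Agent.M12Nse.ModelData
import Cfsg.Agent.M12Nse.Eleven

/-!
# The numbers of elements of each order in the model of `M₁₂`
-/

set_option autoImplicit false
set_option linter.style.haveILetI false
set_option linter.unusedSectionVars false

namespace CfsgLib.M12Nse

open Cfsg CfsgLib.Golay CfsgLib.Golay.SylowCert CfsgLib.M11Nse CfsgLib.SmallSimple

theorem genD_ok : ∀ x ∈ genD, In12 x.1 ∧ invL x.1 = x.2 := by decide +kernel

theorem in_2a : In12 rep2a := by decide +kernel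

theorem in_2b : In12 rep2b := by decide +kernel

theorem in_3a : In12 rep3a := by decide +kernel

theorem in_3b : In12 rep3b := by decide +kernel

theorem in_4a : In12 rep4a := by decide +kernel

theorem in_4b : In12 rep4b := by decide +kernel

theorem in_5 : In12 rep5 := by decide +kernel

theorem in_6a : In12 rep6a := by decide +kernel

theorem in_6b : In12 rep6b := by decide +kernel

theorem in_8a : In12 rep8a := by decide +kernel

theorem in_8b : In12 rep8b := by decide +kernel

theorem in_10 : In12 rep10 := by decide +kernel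

theorem in_11a : In12 rep11a := by decide +kernel

theorem class_cz (L : List ℕ) (h : In12 L) (n : ℕ) (B P : List ℕ) (c : ℕ) (hb : baseB L n B P = true)
    (hc : (cands L n B).length = c) {m : ℕ} (hm : m * c ≤ 95040) :
    m ≤ Nat.card {x : Spor.M12 // IsConj (mel L h) x} := by
  rw [card_conj]
  have h1 := cz_le L h n B P hb c hc
  have h2 := (cz (mel L h)).card_mul_index
  rw [card_M12] at h2
  by_contra h3
  push Not at h3
  have h4 := Nat.mul_le_mul h1 (Nat.le_refl (cz (mel L h)).index)
  have h5 : c * ((cz (mel L h)).index + 1) ≤ c * m := Nat.mul_le_mul_left c h3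
  rw [Nat.mul_add, mul_one, mul_comm c m] at h5
  have h6 : 0 < Nat.card (cz (mel L h)) := Nat.card_pos
  omega

theorem one_class {L : List ℕ} (h : In12 L) {n : ℕ} (hn : ordB L n = true) :
    Nat.card {x : Spor.M12 // IsConj (mel L h) x} ≤ cnt Spor.M12 n :=
  Nat.card_le_card_of_injective (fun x => ⟨x.1, (orderOf_eq_of_isConj x.2).trans (orderOf_mel L h hn)⟩)
    fun _ _ e => Subtype.ext (congrArg (fun t : {g : Spor.M12 // orderOf g = n} => t.1) e)

theorem two_classes {L L' : List ℕ} (h : In12 L) (h' : In12 L') {n : ℕ} (hn : ordB L n = true)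
    (hn' : ordB L' n = true) (hd : Nat.beq (fixN L) (fixN L') = false) :
    Nat.card {x : Spor.M12 // IsConj (mel L h) x} + Nat.card {x : Spor.M12 // IsConj (mel L' h') x} ≤
      cnt Spor.M12 n := by
  rw [← Nat.card_sum]
  refine Nat.card_le_card_of_injective (Sum.elim
    (fun x => ⟨x.1, (orderOf_eq_of_isConj x.2).trans (orderOf_mel L h hn)⟩)
    (fun x => ⟨x.1, (orderOf_eq_of_isConj x.2).trans (orderOf_mel L' h' hn')⟩)) ?_
  rintro (x | x) (y | y) e <;> simp only [Sum.elim_inl, Sum.elim_inr, Subtype.mk.injEq] at e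
  · exact congrArg Sum.inl (Subtype.ext e)
  · exact absurd ((fixN_conj _ _ x.2).trans ((congrArg (fun g : Spor.M12 => fixN (toList (g : Equiv.Perm GolayPt))) e).trans
      (fixN_conj _ _ y.2).symm)) (by rw [toList_mel, toList_mel]; exact Nat.ne_of_beq_eq_false hd)
  · exact absurd ((fixN_conj _ _ y.2).trans ((congrArg (fun g : Spor.M12 => fixN (toList (g : Equiv.Perm GolayPt))) e.symm).trans
      (fixN_conj _ _ x.2).symm)) (by rw [toList_mel, toList_mel]; exact Nat.ne_of_beq_eq_false hd)
  · exact congrArg Sum.inr (Subtype.ext e)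

theorem cls_2a : 396 ≤ Nat.card {x : Spor.M12 // IsConj (mel rep2a in_2a) x} :=
  class_ge in_2a genD_ok (root := 211) (S := S2) (T := T2) (by decide +kernel) (by decide +kernel) (by decide +kernel)

theorem cls_2b : 495 ≤ Nat.card {x : Spor.M12 // IsConj (mel rep2b in_2b) x} :=
  class_cz rep2b in_2b 2 [0, 4, 6] [0, 4, 12, 6, 9] 192 (by decide +kernel) (by decide +kernel) (by norm_num)

theorem cls_3a : 1760 ≤ Nat.card {x : Spor.M12 // IsConj (mel rep3a in_3a) x} :=
  class_cz rep3a in_3a 3 [3, 6] [3, 4, 12, 6, 16] 54 (by decide +kernel) (by decide +kernel) (by norm_num)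

theorem cls_3b : 2640 ≤ Nat.card {x : Spor.M12 // IsConj (mel rep3b in_3b) x} :=
  class_ge in_3b genD_ok (root := 2396) (S := S3) (T := T3) (by decide +kernel) (by decide +kernel) (by decide +kernel)

theorem cls_4a : 2970 ≤ Nat.card {x : Spor.M12 // IsConj (mel rep4a in_4a) x} :=
  class_cz rep4a in_4a 4 [0, 4] [0, 4, 6, 12, 9] 32 (by decide +kernel) (by decide +kernel) (by norm_num)

theorem cls_4b : 2970 ≤ Nat.card {x : Spor.M12 // IsConj (mel rep4b in_4b) x} :=
  class_cz rep4b in_4b 4 [0, 4] [0, 1, 4, 6, 12] 32 (by decide +kernel) (by decide +kernel) (by norm_num)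

theorem cls_5 : 9504 ≤ Nat.card {x : Spor.M12 // IsConj (mel rep5 in_5) x} :=
  class_cz rep5 in_5 5 [2] [2, 3, 4, 8, 9] 10 (by decide +kernel) (by decide +kernel) (by norm_num)

theorem cls_6a : 7920 ≤ Nat.card {x : Spor.M12 // IsConj (mel rep6a in_6a) x} :=
  class_cz rep6a in_6a 6 [0] [0, 1, 2, 3, 4] 12 (by decide +kernel) (by decide +kernel) (by norm_num)

theorem cls_6b : 15840 ≤ Nat.card {x : Spor.M12 // IsConj (mel rep6b in_6b) x} :=
  class_cz rep6b in_6b 6 [3] [3, 4, 6, 16, 9] 6 (by decide +kernel) (by decide +kernel) (by norm_num)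

theorem cls_8a : 11880 ≤ Nat.card {x : Spor.M12 // IsConj (mel rep8a in_8a) x} :=
  class_cz rep8a in_8a 8 [4] [4, 8, 6, 13, 12] 8 (by decide +kernel) (by decide +kernel) (by norm_num)

theorem cls_8b : 11880 ≤ Nat.card {x : Spor.M12 // IsConj (mel rep8b in_8b) x} :=
  class_cz rep8b in_8b 8 [4] [4, 6, 16, 18, 12] 8 (by decide +kernel) (by decide +kernel) (by norm_num)

theorem cls_10 : 9504 ≤ Nat.card {x : Spor.M12 // IsConj (mel rep10 in_10) x} :=
  class_cz rep10 in_10 10 [2] [2, 3, 4, 13, 18] 10 (by decide +kernel) (by decide +kernel) (by norm_num)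

theorem cls_11a : 8640 ≤ Nat.card {x : Spor.M12 // IsConj (mel rep11a in_11a) x} :=
  class_cz rep11a in_11a 11 [1] [1, 2, 3, 4, 6] 11 (by decide +kernel) (by decide +kernel) (by norm_num)

theorem le_cnt_2 : 891 ≤ cnt Spor.M12 2 :=
  le_trans (Nat.add_le_add cls_2a cls_2b) (two_classes in_2a in_2b (by decide +kernel) (by decide +kernel) (by decide +kernel))

theorem le_cnt_3 : 4400 ≤ cnt Spor.M12 3 :=
  le_trans (Nat.add_le_add cls_3a cls_3b) (two_classes in_3a in_3b (by decide +kernel) (by decide +kernel) (by decide +kernel))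

theorem le_cnt_4 : 5940 ≤ cnt Spor.M12 4 :=
  le_trans (Nat.add_le_add cls_4a cls_4b) (two_classes in_4a in_4b (by decide +kernel) (by decide +kernel) (by decide +kernel))

theorem le_cnt_6 : 23760 ≤ cnt Spor.M12 6 :=
  le_trans (Nat.add_le_add cls_6a cls_6b) (two_classes in_6a in_6b (by decide +kernel) (by decide +kernel) (by decide +kernel))

theorem le_cnt_8 : 23760 ≤ cnt Spor.M12 8 :=
  le_trans (Nat.add_le_add cls_8a cls_8b) (two_classes in_8a in_8b (by decide +kernel) (by decide +kernel) (by decide +kernel))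

theorem le_cnt_5 : 9504 ≤ cnt Spor.M12 5 :=
  le_trans cls_5 (one_class in_5 (by decide +kernel))

theorem le_cnt_10 : 9504 ≤ cnt Spor.M12 10 :=
  le_trans cls_10 (one_class in_10 (by decide +kernel))

theorem le_cnt_11 : 8640 ≤ cnt Spor.M12 11 :=
  le_trans cls_11a (one_class in_11a (by decide +kernel))

theorem cnt_eleven : cnt Spor.M12 11 = 17280 := by
  haveI : Fact (Nat.Prime 11) := ⟨by norm_num⟩
  have hsy : ∀ P : Sylow 11 Spor.M12, Nat.card (P : Subgroup Spor.M12) = 11 := fun P => by
    rw [card_sylow_eq P (k := 1) (m := 8640) (by rw [card_M12]; norm_num) (by norm_num), pow_one]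
  have hc := cnt_prime (G := Spor.M12) (p := 11) hsy
  obtain ⟨P⟩ : Nonempty (Sylow 11 Spor.M12) := inferInstance
  have hd : Nat.card (Sylow 11 Spor.M12) ∣ 8640 := by
    have h1 := (P : Subgroup Spor.M12).card_mul_index
    rw [hsy P, card_M12] at h1
    exact (show (P : Subgroup Spor.M12).index = 8640 by omega) ▸ P.card_dvd_index
  have hm : Nat.card (Sylow 11 Spor.M12) % 11 = 1 := card_sylow_modEq_one 11 Spor.M12
  have h0 := le_cnt_11
  rw [hc] at h0 ⊢
  have key : ∀ n, 0 < n → n ∣ 8640 → n % 11 = 1 → n < 864 ∨ n = 1728 := by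
    intro n hn hd hm
    obtain ⟨k, hk⟩ := hd
    by_contra hcon
    push Not at hcon
    have hk10 : k ≤ 10 := by
      by_contra hk10
      have := Nat.mul_le_mul hcon.1 (Nat.le_of_lt_succ (show 10 < k + 1 by omega))
      nlinarith
    interval_cases k <;> omega
  rcases key _ Nat.card_pos hd hm with h | h <;> omega

/-- The orders of the elements of the model. -/
def ords : List ℕ := [1, 2, 3, 4, 5, 6, 8, 10, 11]

/-- The number of elements of a given order. -/
def cval : ℕ → ℕ
  | 1 => 1 | 2 => 891 | 3 => 4400 | 4 => 5940 | 5 => 9504 | 6 => 23760 | 8 => 23760 | 10 => 9504 | 11 => 17280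
  | _ => 0

theorem cval_le (n : ℕ) : cval n ≤ cnt Spor.M12 n := by
  unfold cval
  split
  · exact (cnt_one (G := Spor.M12)).ge
  · exact le_cnt_2
  · exact le_cnt_3
  · exact le_cnt_4
  · exact le_cnt_5
  · exact le_cnt_6
  · exact le_cnt_8
  · exact le_cnt_10
  · exact cnt_eleven.ge
  · exact Nat.zero_le _

theorem sum_cnt_le (S : Finset ℕ) : ∑ n ∈ S, cnt Spor.M12 n ≤ 95040 := by
  classical
  haveI := Fintype.ofFinite Spor.M12
  rw [← card_M12, Nat.card_eq_fintype_card, ← Finset.card_univ]
  have : ∀ n, cnt Spor.M12 n = ((Finset.univ : Finset Spor.M12).filter fun g => orderOf g = n).card := fun n => by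
    rw [cnt, Nat.card_eq_fintype_card, Fintype.card_subtype]
  simp only [this]
  rw [← Finset.card_biUnion]
  · exact Finset.card_le_card (Finset.subset_univ _)
  · intro a _ b _ hab
    exact Finset.disjoint_left.2 fun g hg hg' => hab ((Finset.mem_filter.1 hg).2.symm.trans (Finset.mem_filter.1 hg').2)

theorem cnt_model (n : ℕ) : cnt Spor.M12 n = cval n := by
  classical
  refine le_antisymm ?_ (cval_le n)
  have h := sum_cnt_le (insert n ords.toFinset)
  by_cases hn : n ∈ ords.toFinset
  · rw [Finset.insert_eq_of_mem hn, ← Finset.add_sum_erase _ _ hn] at h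
    have h1 : ∑ m ∈ ords.toFinset.erase n, cval m ≤ ∑ m ∈ ords.toFinset.erase n, cnt Spor.M12 m :=
      Finset.sum_le_sum fun m _ => cval_le m
    have h2 : ∑ m ∈ ords.toFinset, cval m = 95040 := by decide +kernel
    rw [← Finset.add_sum_erase _ _ hn] at h2
    omega
  · rw [Finset.sum_insert hn] at h
    have h1 : ∑ m ∈ ords.toFinset, cval m ≤ ∑ m ∈ ords.toFinset, cnt Spor.M12 m :=
      Finset.sum_le_sum fun m _ => cval_le m
    have h2 : ∑ m ∈ ords.toFinset, cval m = 95040 := by decide +kernel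
    omega

theorem cval_mem (n : ℕ) : cval n ∈ ({0, 1, 891, 4400, 5940, 9504, 17280, 23760} : Finset ℕ) := by
  unfold cval
  split <;> simp

end CfsgLib.M12Nse
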