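import Cfsg.Agent.M12Nse.ModelTools

/-!
# Lower bounds for classes of the model of `M₁₂` from lists of conjugates
-/

set_option autoImplicit false
set_option linter.unusedSectionVars false

namespace CfsgLib.M12Nse

open Cfsg CfsgLib.Golay CfsgLib.Golay.SylowCert

/-- The entry at a position of a code. -/
def ent (c p : ℕ) : ℕ := c / 2 ^ (5 * p) % 32

/-- The code with given entries on the dodecad. -/
def encL (L : List ℕ) : ℕ := (L.zip dL).foldr (fun x s => x.1 * 2 ^ (5 * x.2) + s) 0

/-- Lookup in a list cut into chunks of fifty. -/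
def lk (S : List (List ℕ)) (i : ℕ) : ℕ := (S.getD (i / 50) []).getD (i % 50) 0

/-- The code is that of a conjugate of the given element on the dodecad. -/
def Rep (a : Spor.M12) (c : ℕ) : Prop :=
  ∃ g : Spor.M12, IsConj a g ∧ ∀ p ∈ dL, (toList (g : Equiv.Perm GolayPt)).getD p 0 = ent c p

/-- The second code is the conjugate of the first by the list. -/
def stepB (m mi : List ℕ) (cp cc : ℕ) : Bool :=
  dL.all fun p => Nat.beq (ent cc p) (m.getD (ent cp (mi.getD p 0)) 0)

theorem Rep.step {a : Spor.M12} {m mi : List ℕ} (hm : In12 m) (hmi : invL m = mi) {cp cc : ℕ} (h : Rep a cp)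
    (hs : stepB m mi cp cc = true) : Rep a cc := by
  obtain ⟨g, hg, he⟩ := h
  refine ⟨mel m hm * g * (mel m hm)⁻¹, hg.trans (isConj_iff.2 ⟨mel m hm, rfl⟩), fun p hp => ?_⟩
  simp only [stepB, List.all_eq_true, Nat.beq_eq] at hs
  have hi : toList (((mel m hm)⁻¹ : Spor.M12) : Equiv.Perm GolayPt) = mi := by
    rw [Subgroup.coe_inv, toList_inv, toList_mel, hmi]
  have hq := map_dL (mel m hm)⁻¹ hp
  have hsplit : (toList ((mel m hm * g * (mel m hm)⁻¹ : Spor.M12) : Equiv.Perm GolayPt)).getD p 0 =
      (toList (mel m hm : Equiv.Perm GolayPt)).getD ((toList (g : Equiv.Perm GolayPt)).getD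
        ((toList (((mel m hm)⁻¹ : Spor.M12) : Equiv.Perm GolayPt)).getD p 0) 0) 0 := by
    rw [toList_getD _ (dL_lt p hp), toList_getD _ (dL_lt p hp), toList_getD_idx, toList_getD_idx, Subgroup.coe_mul,
      Subgroup.coe_mul, Equiv.Perm.mul_apply, Equiv.Perm.mul_apply]
  rw [hs p hp, hsplit, he _ hq, toList_mel, hi]

/-- The tree of conjugations. -/
def tree (gs : List (List ℕ × List ℕ)) (N : ℕ) (S : List (List ℕ)) : List ℕ → ℕ → Bool
  | [], mask => Nat.beq mask (2 ^ N - 1)
  | x :: xs, mask =>
    mask.testBit (x % 4096) && Nat.blt (x / 16777216) gs.length &&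
      stepB (gs.getD (x / 16777216) ([], [])).1 (gs.getD (x / 16777216) ([], [])).2 (lk S (x % 4096))
        (lk S (x / 4096 % 4096)) &&
      tree gs N S xs (mask ||| 2 ^ (x / 4096 % 4096))

theorem tree_rep {a : Spor.M12} {gs : List (List ℕ × List ℕ)} (hgs : ∀ x ∈ gs, In12 x.1 ∧ invL x.1 = x.2)
    {N : ℕ} {S : List (List ℕ)} : ∀ {T : List ℕ} {mask : ℕ}, tree gs N S T mask = true →
      (∀ i, mask.testBit i = true → Rep a (lk S i)) → ∀ i < N, Rep a (lk S i)
  | [], mask, h, hM, i, hi => hM i (by rw [Nat.eq_of_beq_eq_true h, Nat.testBit_two_pow_sub_one]; simpa using hi)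
  | x :: xs, mask, h, hM, i, hi => by
    simp only [tree, Bool.and_eq_true, Nat.blt_eq] at h
    obtain ⟨⟨⟨h1, h2⟩, h3⟩, h4⟩ := h
    refine tree_rep hgs h4 (fun j hj => ?_) i hi
    rw [Nat.testBit_or, Bool.or_eq_true, Nat.testBit_two_pow] at hj
    rcases hj with hj | hj
    · exact hM j hj
    · obtain rfl : x / 4096 % 4096 = j := by simpa using hj
      have hmem : gs.getD (x / 16777216) ([], []) ∈ gs := by
        rw [List.getD_eq_getElem _ _ h2]; exact List.getElem_mem h2
      exact (hM _ h1).step (hgs _ hmem).1 (hgs _ hmem).2 h3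

/-- The codes are normal forms and increase. -/
def sortB (N : ℕ) (S : List (List ℕ)) : Bool :=
  (List.range N).all fun i =>
    Nat.beq (encL (dL.map (ent (lk S i)))) (lk S i) && (Nat.ble N (i + 1) || Nat.blt (lk S i) (lk S (i + 1)))

/-- A lower bound for a class. -/
theorem class_ge {L : List ℕ} (h : In12 L) {gs : List (List ℕ × List ℕ)}
    (hgs : ∀ x ∈ gs, In12 x.1 ∧ invL x.1 = x.2) {N root : ℕ} {S T : List (List ℕ)}
    (hroot : (dL.all fun p => Nat.beq (ent (lk S root) p) (L.getD p 0)) = true)
    (hT : tree gs N S T.flatten (2 ^ root) = true) (hS : sortB N S = true) :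
    N ≤ Nat.card {x : Spor.M12 // IsConj (mel L h) x} := by
  classical
  have hall : ∀ i < N, Rep (mel L h) (lk S i) := by
    refine tree_rep hgs hT fun i hi => ?_
    obtain rfl : root = i := by simpa [Nat.testBit_two_pow] using hi
    simp only [List.all_eq_true, Nat.beq_eq] at hroot
    exact ⟨mel L h, IsConj.refl _, fun p hp => by rw [toList_mel, hroot p hp]⟩
  simp only [sortB, List.all_eq_true, List.mem_range, Bool.and_eq_true, Bool.or_eq_true, Nat.beq_eq,
    Nat.ble_eq, Nat.blt_eq] at hS
  have hmono : ∀ d i, i + d + 1 < N → lk S i < lk S (i + d + 1) := by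
    intro d
    induction d with
    | zero =>
      intro i hi
      rcases (hS i (by omega)).2 with h1 | h1
      · omega
      · exact h1
    | succ d ih =>
      intro i hi
      have h1 := ih i (by omega)
      rcases (hS (i + d + 1) (by omega)).2 with h2 | h2
      · omega
      · exact h1.trans h2
  choose f hf he using hall
  have hinj : Function.Injective fun i : Fin N => (⟨f i i.2, hf i i.2⟩ : {x : Spor.M12 // IsConj (mel L h) x}) := by
    intro i j e
    have e' : f i i.2 = f j j.2 := congrArg Subtype.val e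
    have hc : lk S i = lk S j := by
      rw [← (hS i i.2).1, ← (hS j j.2).1]
      exact congrArg encL (List.map_congr_left fun p hp => by rw [← he i i.2 p hp, ← he j j.2 p hp, e'])
    rcases lt_trichotomy (i : ℕ) j with hlt | heq | hlt
    · have := hmono (j - i - 1) i (by omega)
      rw [show (i : ℕ) + (j - i - 1) + 1 = j by omega, hc] at this
      omega
    · exact Fin.ext heq
    · have := hmono (i - j - 1) j (by omega)
      rw [show (j : ℕ) + (i - j - 1) + 1 = i by omega, hc] at this
      omega
  have := Nat.card_le_card_of_injective _ hinj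
  rwa [Nat.card_fin] at this

end CfsgLib.M12Nse
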