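import Cfsg.Agent.Golay.MathieuFusion
import Cfsg.Agent.Golay.MathieuSmall
import Cfsg.Agent.M12Nse.Basic

/-!
# Bounding centralizers and classes in the model of `M₁₂`
-/

set_option autoImplicit false
set_option linter.style.haveILetI false
set_option linter.unusedSectionVars false

namespace CfsgLib.M12Nse

open Cfsg CfsgLib.Golay CfsgLib.Golay.SylowCert
open scoped Pointwise

/-- The positions of the dodecad. -/
def dL : List ℕ := [0, 1, 2, 3, 4, 6, 8, 9, 12, 13, 16, 18]

theorem dL_eq : (List.range 24).filter (fun i => squareMask.testBit i) = dL := by decide +kernel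

theorem dL_lt : ∀ x ∈ dL, x < 24 := by decide

theorem mem_dodecad {p : GolayPt} : p ∈ Spor.squareDodecad ↔ idx p ∈ dL := by
  rw [squareDodecad_eq, ← dL_eq]
  simp [pts, idx_lt]

/-- The element of the model given by a list. -/
def mel (L : List ℕ) (h : In12 L) : Spor.M12 := ⟨permL L, permL_mem_M12 h⟩

theorem toList_mel (L : List ℕ) (h : In12 L) : toList (mel L h : Equiv.Perm GolayPt) = L := toList_permL h.1 h.2.1

theorem toList_inj {g h : Spor.M12} (e : toList (g : Equiv.Perm GolayPt) = toList (h : Equiv.Perm GolayPt)) : g = h :=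
  Subtype.ext (toList_injective e)

/-- The powers of a list. -/
def powK (L : List ℕ) : ℕ → List ℕ
  | 0 => List.range 24
  | k + 1 => compL L (powK L k)

theorem toList_pow_mel (L : List ℕ) (h : In12 L) (k : ℕ) : toList ((mel L h ^ k : Spor.M12) : Equiv.Perm GolayPt) = powK L k := by
  induction k with
  | zero => rw [pow_zero, OneMemClass.coe_one, toList_one]; rfl
  | succ k ih => rw [pow_succ', Subgroup.coe_mul, toList_mul, ih, toList_mel]; rfl

/-- A Boolean test for the order of a list. -/
def ordB (L : List ℕ) (n : ℕ) : Bool :=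
  !(Nat.beq n 0) && powK L n == List.range 24 &&
    (List.range n).all fun d => Nat.beq d 0 || !(powK L d == List.range 24)

theorem orderOf_mel (L : List ℕ) (h : In12 L) {n : ℕ} (hn : ordB L n = true) : orderOf (mel L h) = n := by
  simp only [ordB, Bool.and_eq_true, List.all_eq_true, List.mem_range, Bool.or_eq_true, Bool.not_eq_true',
    Nat.beq_eq, beq_iff_eq, beq_eq_false_iff_ne, ne_eq, ← Bool.not_eq_true] at hn
  obtain ⟨⟨hn0, hpow⟩, hd⟩ := hn
  refine (orderOf_eq_iff (Nat.pos_of_ne_zero (by simpa using hn0))).2 ⟨?_, fun m hm hm0 e => ?_⟩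
  · exact toList_inj (by rw [toList_pow_mel, hpow, OneMemClass.coe_one, toList_one])
  · have h1 := toList_pow_mel L h m
    rw [e, OneMemClass.coe_one, toList_one] at h1
    rcases hd m hm with h2 | h2
    · omega
    · exact h2 h1.symm

/-- The pattern of repetitions in a list. -/
def pat (X : List ℕ) : List ℕ := X.map fun x => X.idxOf x

theorem pat_map (f : ℕ → ℕ) (X : List ℕ) (hf : ∀ a ∈ X, ∀ b ∈ X, f a = f b → a = b) : pat (X.map f) = pat X := by
  have key : ∀ (Y : List ℕ) (a : ℕ), a ∈ X → (∀ y ∈ Y, y ∈ X) → (Y.map f).idxOf (f a) = Y.idxOf a := by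
    intro Y
    induction Y with
    | nil => intro a _ _; rfl
    | cons b Y ih =>
      intro a ha hY
      rw [List.map_cons, List.idxOf_cons, List.idxOf_cons]
      have hb := hY b (List.mem_cons_self ..)
      have hih := ih a ha fun y hy => hY y (List.mem_cons_of_mem _ hy)
      by_cases e : b = a
      · subst e; simp
      · have e' : f b ≠ f a := fun h => e (hf b hb a ha h)
        rw [beq_eq_false_iff_ne.2 e', beq_eq_false_iff_ne.2 e, hih]
  rw [pat, pat, List.map_map]
  exact List.map_congr_left fun a ha => key X a ha fun _ hy => hy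

/-- The images of points under the powers of a list. -/
def imgs (L : List ℕ) (n : ℕ) (q : List ℕ) : List ℕ :=
  q.flatMap fun x => (List.range n).map fun k => (powK L k).getD x 0

/-- The tuples of positions of the dodecad. -/
def tuples : ℕ → List (List ℕ)
  | 0 => [[]]
  | k + 1 => dL.flatMap fun x => (tuples k).map (x :: ·)

theorem mem_tuples : ∀ {k : ℕ} {q : List ℕ}, q.length = k → (∀ x ∈ q, x ∈ dL) → q ∈ tuples k
  | 0, q, h, _ => by rw [List.length_eq_zero_iff.1 h]; simp [tuples]
  | k + 1, [], h, _ => by simp at h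
  | k + 1, x :: q, h, hx => List.mem_flatMap.2 ⟨x, hx x (List.mem_cons_self ..),
      List.mem_map.2 ⟨q, mem_tuples (by simpa using h) fun y hy => hx y (List.mem_cons_of_mem _ hy), rfl⟩⟩

/-- The possible images of the base. -/
def cands (L : List ℕ) (n : ℕ) (B : List ℕ) : List (List ℕ) :=
  (tuples B.length).filter fun q => pat (imgs L n q) == pat (imgs L n B)

/-- The base gives five points of the dodecad. -/
def baseB (L : List ℕ) (n : ℕ) (B P : List ℕ) : Bool :=
  Nat.beq P.length 5 && decide P.Nodup && (P.all fun x => dL.contains x && (imgs L n B).contains x) &&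
    B.all fun x => dL.contains x

/-- A list commuting with the element maps its orbits correspondingly. -/
theorem imgs_map (L : List ℕ) (h : In12 L) (n : ℕ) (g : Spor.M12) (hg : g ∈ cz (mel L h)) (B : List ℕ)
    (hB : ∀ x ∈ B, x < 24) : imgs L n (B.map fun b => (toList (g : Equiv.Perm GolayPt)).getD b 0) =
      (imgs L n B).map fun b => (toList (g : Equiv.Perm GolayPt)).getD b 0 := by
  rw [imgs, imgs, List.flatMap_map, List.map_flatMap]
  refine List.flatMap_congr fun b hb => ?_
  rw [List.map_map]
  refine List.map_congr_left fun k _ => ?_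
  have hc : g * mel L h ^ k = mel L h ^ k * g := ((show Commute g (mel L h) from mem_cz.1 hg).pow_right k).eq
  have h1 := congrArg (fun t : Spor.M12 => ((toList (t : Equiv.Perm GolayPt)).getD b 0)) hc
  simp only [Subgroup.coe_mul, toList_getD _ (hB b hb), Equiv.Perm.mul_apply] at h1
  simp only [Function.comp_apply]
  rw [← toList_pow_mel L h k, toList_getD _ (hB b hb), toList_getD _ (hB b hb), toList_getD_idx, toList_getD_idx]
  exact h1.symm

/-- Elements of the model map the dodecad to itself. -/
theorem map_dL (g : Spor.M12) {x : ℕ} (hx : x ∈ dL) : (toList (g : Equiv.Perm GolayPt)).getD x 0 ∈ dL := by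
  rw [toList_getD _ (dL_lt x hx), ← mem_dodecad]
  have hp : pt x ∈ Spor.squareDodecad := mem_dodecad.2 (by rw [idx_pt x (dL_lt x hx)]; exact hx)
  have h := MulAction.mem_stabilizer_iff.1 (Subgroup.mem_inf.1 g.2).2
  rw [← h]
  exact Finset.smul_mem_smul_finset hp

/-- The bound on the centralizer of an element of the model. -/
theorem cz_le (L : List ℕ) (h : In12 L) (n : ℕ) (B P : List ℕ) (hb : baseB L n B P = true) (c : ℕ)
    (hc : (cands L n B).length = c) : Nat.card (cz (mel L h)) ≤ c := by
  classical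
  simp only [baseB, Bool.and_eq_true, List.all_eq_true, decide_eq_true_eq, Nat.beq_eq, List.contains_iff_mem] at hb
  obtain ⟨⟨⟨hP5, hPn⟩, hP⟩, hBd⟩ := hb
  have hBlt : ∀ x ∈ B, x < 24 := fun x hx => dL_lt x (hBd x hx)
  have hIlt : ∀ x ∈ imgs L n B, x < 24 := by
    intro x hx
    simp only [imgs, List.mem_flatMap, List.mem_map] at hx
    obtain ⟨b, hbm, k, -, rfl⟩ := hx
    rw [← toList_pow_mel L h k, toList_getD _ (hBlt b hbm)]
    exact idx_lt _
  let f : cz (mel L h) → List ℕ := fun g => B.map fun b => (toList ((g : Spor.M12) : Equiv.Perm GolayPt)).getD b 0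
  have hinj : ∀ (g : Spor.M12) (a b : ℕ), a < 24 → b < 24 →
      (toList (g : Equiv.Perm GolayPt)).getD a 0 = (toList (g : Equiv.Perm GolayPt)).getD b 0 → a = b := by
    intro g a b ha hb e
    rw [toList_getD _ ha, toList_getD _ hb] at e
    rw [← idx_pt a ha, (g : Equiv.Perm GolayPt).injective (idx_injective e), idx_pt b hb]
  have hmem : ∀ g, f g ∈ (cands L n B).toFinset := by
    intro g
    rw [List.mem_toFinset, cands, List.mem_filter]
    refine ⟨mem_tuples (by simp [f]) ?_, ?_⟩
    · intro x hx
      obtain ⟨b, hbm, rfl⟩ := List.mem_map.1 hx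
      exact map_dL _ (hBd b hbm)
    · rw [beq_iff_eq, imgs_map L h n g g.2 B hBlt]
      exact pat_map _ _ fun a ha b hb => hinj g a b (hIlt a ha) (hIlt b hb)
  have hfinj : Function.Injective fun g => (⟨f g, hmem g⟩ : (cands L n B).toFinset) := by
    intro g g' e
    have e1 : f g = f g' := congrArg Subtype.val e
    have e2 := imgs_map L h n g g.2 B hBlt
    rw [show B.map (fun b => (toList ((g : Spor.M12) : Equiv.Perm GolayPt)).getD b 0) = f g' from e1,
      imgs_map L h n g' g'.2 B hBlt] at e2
    have hP' : ∀ i : Fin 5, pt (P.getD i 0) ∈ Spor.squareDodecad ∧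
        ((g : Spor.M12) : Equiv.Perm GolayPt) (pt (P.getD i 0)) = ((g' : Spor.M12) : Equiv.Perm GolayPt) (pt (P.getD i 0)) := by
      intro i
      have hi : (i : ℕ) < P.length := hP5.symm ▸ i.2
      rw [List.getD_eq_getElem _ _ hi]
      obtain ⟨h1, h2⟩ := hP _ (List.getElem_mem hi)
      have hlt := dL_lt _ h1
      refine ⟨mem_dodecad.2 (by rw [idx_pt _ hlt]; exact h1), ?_⟩
      have e3 := List.map_inj_left.1 e2 _ h2
      rw [toList_getD _ hlt, toList_getD _ hlt] at e3
      exact (idx_injective e3).symm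
    let u : Fin 5 ↪ GolayPt := ⟨fun i => pt (P.getD i 0), fun i j hij => by
      have hi : (i : ℕ) < P.length := hP5.symm ▸ i.2
      have hj : (j : ℕ) < P.length := hP5.symm ▸ j.2
      have := congrArg idx hij
      change idx (pt (P.getD i 0)) = idx (pt (P.getD j 0)) at this
      rw [List.getD_eq_getElem _ _ hi, List.getD_eq_getElem _ _ hj, idx_pt _ (dL_lt _ (hP _ (List.getElem_mem hi)).1),
        idx_pt _ (dL_lt _ (hP _ (List.getElem_mem hj)).1)] at this
      exact Fin.ext (hPn.getElem_inj_iff.1 this)⟩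
    have hu : ∀ i, u i ∈ Spor.squareDodecad := fun i => (hP' i).1
    have hst : ∀ a : Spor.M12, ∃ a' : MulAction.stabilizer M24 Spor.squareDodecad,
        ((a' : M24) : Equiv.Perm GolayPt) = a := fun a =>
      ⟨⟨⟨a, (Subgroup.mem_inf.1 a.2).1⟩, (Subgroup.mem_inf.1 a.2).2⟩, rfl⟩
    obtain ⟨a, ha⟩ := hst g
    obtain ⟨a', ha'⟩ := hst g'
    let y : Fin 5 ↪ GolayPt := u.trans ((g : Spor.M12) : Equiv.Perm GolayPt).toEmbedding
    have hy : ∀ i, y i ∈ Spor.squareDodecad := fun i => by
      rw [← MulAction.mem_stabilizer_iff.1 (Subgroup.mem_inf.1 (g : Spor.M12).2).2]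
      exact Finset.smul_mem_smul_finset (hu i)
    have haa : a = a' := ExistsUnique.unique (sharply_five squareDodecad_mem u y hu hy)
      (fun i => by rw [ha]; rfl) (fun i => by rw [ha']; exact (hP' i).2.symm)
    exact Subtype.ext (Subtype.ext (by rw [← ha, ← ha', haa]))
  calc Nat.card (cz (mel L h)) ≤ Nat.card (cands L n B).toFinset := Nat.card_le_card_of_injective _ hfinj
    _ = (cands L n B).toFinset.card := by rw [Nat.card_eq_fintype_card, Fintype.card_coe]
    _ ≤ (cands L n B).length := List.toFinset_card_le _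
    _ = c := hc

/-- The fixed positions of the dodecad. -/
def fixN (L : List ℕ) : ℕ := (dL.filter fun x => Nat.beq (L.getD x 0) x).length

theorem fixN_conj (g g' : Spor.M12) (h : IsConj g g') :
    fixN (toList (g : Equiv.Perm GolayPt)) = fixN (toList (g' : Equiv.Perm GolayPt)) := by
  classical
  obtain ⟨c, rfl⟩ := isConj_iff.1 h
  have key : ∀ g : Spor.M12, fixN (toList (g : Equiv.Perm GolayPt)) =
      Nat.card {p : GolayPt // p ∈ Spor.squareDodecad ∧ (g : Equiv.Perm GolayPt) p = p} := by
    intro g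
    have hn : (dL.filter fun x => Nat.beq ((toList (g : Equiv.Perm GolayPt)).getD x 0) x).Nodup :=
      (show dL.Nodup by decide).filter _
    rw [fixN, ← List.toFinset_card_of_nodup hn, ← Fintype.card_coe, ← Nat.card_eq_fintype_card]
    refine Nat.card_congr
      { toFun := fun x => ⟨pt x.1, ?_⟩
        invFun := fun p => ⟨idx p.1, ?_⟩
        left_inv := fun x => Subtype.ext (idx_pt _ (dL_lt _ ?_))
        right_inv := fun p => Subtype.ext (pt_idx _) }
    · obtain ⟨h1, h2⟩ := List.mem_filter.1 (List.mem_toFinset.1 x.2)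
      have hlt := dL_lt _ h1
      refine ⟨mem_dodecad.2 (by rw [idx_pt _ hlt]; exact h1), idx_injective ?_⟩
      rw [← toList_getD _ hlt, Nat.eq_of_beq_eq_true h2, idx_pt _ hlt]
    · obtain ⟨h1, h2⟩ := p.2
      refine List.mem_toFinset.2 (List.mem_filter.2 ⟨mem_dodecad.1 h1, ?_⟩)
      rw [toList_getD_idx, h2, Nat.beq_eq]
    · exact (List.mem_filter.1 (List.mem_toFinset.1 x.2)).1
  rw [key, key]
  refine Nat.card_congr (Equiv.subtypeEquiv (c : Equiv.Perm GolayPt) fun p => ?_)
  have hc := MulAction.mem_stabilizer_iff.1 (Subgroup.mem_inf.1 c.2).2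
  refine and_congr ?_ ?_
  · conv_rhs => rw [← hc]
    exact (Finset.smul_mem_smul_finset_iff _).symm
  · simp only [Subgroup.coe_mul, Subgroup.coe_inv, Equiv.Perm.mul_apply, Equiv.Perm.coe_inv, Equiv.symm_apply_apply,
      EmbeddingLike.apply_eq_iff_eq]

end CfsgLib.M12Nse
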