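import Cfsg.Agent.M12Nse.Three

/-!
# The involution with centralizer of order 192
-/

set_option autoImplicit false
set_option linter.style.haveILetI false
set_option linter.unusedSectionVars false

namespace CfsgLib.M12Nse

open Subgroup CfsgLib.M11Nse CfsgLib.SmallSimple

variable {G : Type*} [Group G] [Finite G]

namespace Counts

variable (H : Counts G)
include H

theorem exists_192 : ∃ z : G, orderOf z = 2 ∧ Nat.card (cz z) = 192 := by
  haveI : Fact (Nat.Prime 2) := ⟨Nat.prime_two⟩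
  obtain ⟨z, hz, h64⟩ := H.exists_z
  refine ⟨z, hz, ?_⟩
  rcases H.card_cz_invol hz with h | h
  · rw [h] at h64; norm_num at h64
  obtain ⟨k, hk⟩ := h64
  rw [hk] at h
  have hk27 : k ∣ 3 ^ 3 := Nat.dvd_of_mul_dvd_mul_left (by norm_num : 0 < 64) h
  obtain ⟨i, hi, rfl⟩ := (Nat.dvd_prime_pow Nat.prime_three).1 hk27
  interval_cases i
  · exfalso
    have hm := (cz z).card_mul_index
    rw [hk, H.card] at hm
    have hc : (cz z).index ≤ cnt G 2 := by
      rw [← card_conj]
      exact Nat.card_le_card_of_injective (fun w => (⟨w.1, (orderOf_eq_of_isConj w.2).trans hz⟩ :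
        {g : G // orderOf g = 2})) fun a b h => Subtype.ext (congrArg Subtype.val h :)
    rw [H.two_count] at hc
    omega
  · rw [hk]; norm_num
  · exact (H.no_576 hz (by rw [hk]; norm_num)).elim
  · exact (H.no_1728' hz (by rw [hk]; norm_num)).elim

theorem index_192 {z : G} (hC : Nat.card (cz z) = 192) : (cz z).index = 495 := by
  have := (cz z).card_mul_index
  rw [hC, H.card] at this
  omega

theorem not_conj_192 {u z : G} (hu : Nat.card (cz u) = 240) (hC : Nat.card (cz z) = 192) : ¬ IsConj u z := fun h => by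
  have := card_cz_conj h
  rw [hC, hu] at this
  norm_num at this

/-- There are two classes of involutions. -/
theorem invol_class {z : G} (hz : orderOf z = 2) (hC : Nat.card (cz z) = 192) {w : G} (hw : orderOf w = 2) :
    Nat.card (cz w) = 240 ∨ IsConj z w := by
  obtain ⟨u, hu, hu240, huidx⟩ := H.exists_u_240
  by_cases huw : IsConj u w
  · exact Or.inl ((card_cz_conj huw).trans hu240)
  refine Or.inr ?_
  by_contra hzw
  have h0 : Nat.card {g : G // orderOf g = 2 ∧ ¬ IsConj u g} = 495 := by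
    have := H.invol_split hu
    omega
  rw [peel (P := fun g => orderOf g = 2 ∧ ¬ IsConj u g) (fun g h hgh hg =>
      ⟨(orderOf_eq_of_isConj hgh).trans hg.1, fun h' => hg.2 (h'.trans hgh.symm)⟩)
    ⟨hz, H.not_conj_192 hu240 hC⟩, H.index_192 hC] at h0
  have : 0 < Nat.card {g : G // (orderOf g = 2 ∧ ¬ IsConj u g) ∧ ¬ IsConj z g} :=
    Nat.card_pos_iff.2 ⟨⟨⟨w, ⟨hw, huw⟩, hzw⟩⟩, inferInstance⟩
  omega

theorem no_nine {w : G} (hw : orderOf w = 2) : ¬ 9 ∣ Nat.card (cz w) := by
  obtain ⟨z, hz, hC⟩ := H.exists_192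
  intro h9
  rcases H.invol_class hz hC hw with h | h
  · rw [h] at h9; norm_num at h9
  · rw [card_cz_conj h, hC] at h9; norm_num at h9

theorem f3_z {z : G} (hz : orderOf z = 2) (hC : Nat.card (cz z) = 192) : f3 z = 32 := by
  obtain ⟨u, hu, hu240, huidx⟩ := H.exists_u_240
  have h6 : 23760 = (cz u).index * f3 u +
      Nat.card {p : G × G // (fun g => orderOf g = 2 ∧ ¬ IsConj u g) p.1 ∧ orderOf p.2 = 3 ∧ Commute p.1 p.2} :=
    H.six_split hu
  rw [huidx, H.f3_u hu hu240, peel_pairs (P := fun g => orderOf g = 2 ∧ ¬ IsConj u g) (fun g h hgh hg =>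
      ⟨(orderOf_eq_of_isConj hgh).trans hg.1, fun h' => hg.2 (h'.trans hgh.symm)⟩)
    ⟨hz, H.not_conj_192 hu240 hC⟩, H.index_192 hC,
    pairs_empty (P := fun g => (orderOf g = 2 ∧ ¬ IsConj u g) ∧ ¬ IsConj z g)] at h6
  · omega
  refine Nat.card_eq_zero.2 (Or.inl ⟨fun w => ?_⟩)
  rcases H.invol_class hz hC w.2.1.1 with h | h
  · exact w.2.1.2 (H.isConj_of_five hu w.2.1.1 (by rw [hu240]; norm_num) (by rw [h]; norm_num))
  · exact w.2.2 h

theorem sylow_three_192 {z : G} (hz : orderOf z = 2) (hC : Nat.card (cz z) = 192) [Fact (Nat.Prime 3)]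
    (P : Sylow 3 (cz z)) : Nat.card (P : Subgroup (cz z)) = 3 ∧ Nat.card (Sylow 3 (cz z)) = 16 ∧
      Nat.card (normalizer ((P : Subgroup (cz z)) : Set (cz z))) = 12 := by
  have hP : ∀ P : Sylow 3 (cz z), Nat.card (P : Subgroup (cz z)) = 3 := fun P => by
    rw [card_sylow_eq P (k := 1) (m := 64) (by rw [hC]; norm_num) (by norm_num), pow_one]
  have h16 : Nat.card (Sylow 3 (cz z)) = 16 := by
    have h := (f3_eq z).trans (cnt_prime hP)
    rw [H.f3_z hz hC] at h
    omega
  refine ⟨hP P, h16, ?_⟩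
  have := CfsgLib.SmallSimple.card_sylow_mul P
  rw [h16, hC] at this
  omega

end Counts

end CfsgLib.M12Nse
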