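import Cfsg.Agent.M12Nse.NineStruct

/-!
# The kernel is extraspecial
-/

set_option autoImplicit false
set_option linter.style.haveILetI false
set_option linter.unusedSectionVars false

namespace CfsgLib.M12Nse

open Subgroup CfsgLib.M11Nse CfsgLib.SmallSimple

variable {G : Type*} [Group G] [Finite G]

theorem zpowers_two {z q : G} (hz : z * z = 1) (h : q ∈ zpowers z) : q = 1 ∨ q = z := by
  obtain ⟨k, rfl⟩ := mem_zpowers_iff.1 h
  rcases Int.even_or_odd k with ⟨l, rfl⟩ | ⟨l, rfl⟩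
  · left; rw [← two_mul, zpow_mul, zpow_two, hz, one_zpow]
  · right; rw [zpow_add, zpow_mul, zpow_two, hz, one_zpow, one_mul, zpow_one]

theorem card_two_iff {K : Subgroup G} (h : Nat.card K = 2) {c : G} (hc : c ∈ K) (hc1 : c ≠ 1) {k : G} (hk : k ∈ K) :
    k = 1 ∨ k = c := by
  obtain ⟨a, -, ha⟩ := (Nat.card_eq_two_iff' (1 : K)).1 h
  by_cases hk1 : k = 1
  · exact Or.inl hk1
  · right
    exact congrArg Subtype.val ((ha ⟨k, hk⟩ fun e => hk1 (congrArg Subtype.val e)).trans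
      (ha ⟨c, hc⟩ fun e => hc1 (congrArg Subtype.val e)).symm)

theorem involution_sq {z : G} (hz : orderOf z = 2) : z * z = 1 := by rw [← sq, ← hz, pow_orderOf_eq_one]

namespace Nine

variable {z : G} (D : Nine z)

/-- The commutators of the kernel lie in `⟨z⟩`. -/
theorem comm_mem (hz : orderOf z = 2) {a b : G} (ha : a ∈ D.Q) (hb : b ∈ D.Q) :
    a * b * a⁻¹ * b⁻¹ ∈ zpowers z := by
  classical
  set zQ : D.Q := ⟨z, D.zQ⟩ with hzQ
  have hzq : ∀ q : D.Q, q * zQ = zQ * q := fun q => Subtype.ext (mem_cz.1 (D.Q_le q.2))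
  haveI hN : (zpowers zQ).Normal := ⟨fun n hn g => by
    obtain ⟨k, rfl⟩ := mem_zpowers_iff.1 hn
    rw [((show Commute g zQ from hzq g).zpow_right k).eq, mul_inv_cancel_right]
    exact hn⟩
  let φ : D.Q →* D.Q :=
    { toFun := fun q => ⟨D.x * q * (D.x : G)⁻¹, D.Q_normal D.x_mem q.2⟩
      map_one' := Subtype.ext (by simp)
      map_mul' := fun p q => Subtype.ext (by simp [mul_assoc]) }
  have hφz : φ zQ = zQ := Subtype.ext (mul_inv_eq_iff_eq_mul.2 (mem_cz.1 D.x_mem))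
  have hφ3 : ∀ q, φ (φ (φ q)) = q := fun q => Subtype.ext (by
    show (D.x : G) * (D.x * (D.x * q * (D.x : G)⁻¹) * (D.x : G)⁻¹) * (D.x : G)⁻¹ = q
    rw [show (D.x : G) * (D.x * (D.x * q * (D.x : G)⁻¹) * (D.x : G)⁻¹) * (D.x : G)⁻¹ =
      (D.x : G) ^ 3 * q * ((D.x : G) ^ 3)⁻¹ by simp [pow_succ, mul_assoc], D.x_cubed]
    simp)
  have hzz : (z : G) * z = 1 := involution_sq hz
  have hle : zpowers zQ ≤ (zpowers zQ).comap φ := zpowers_le.2 (by
    rw [mem_comap, hφz]; exact mem_zpowers zQ)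
  let ψ : D.Q ⧸ zpowers zQ →* D.Q ⧸ zpowers zQ := QuotientGroup.map (zpowers zQ) (zpowers zQ) φ hle
  have hψ : ∀ q : D.Q, ψ (QuotientGroup.mk q) = QuotientGroup.mk (φ q) := fun _ => rfl
  have hψ3 : ∀ a, ψ (ψ (ψ a)) = a := fun a => by
    obtain ⟨q, rfl⟩ := QuotientGroup.mk_surjective a
    rw [hψ, hψ, hψ, hφ3]
  have hψfix : ∀ a, ψ a = a → a = 1 := fun a h => by
    obtain ⟨q, rfl⟩ := QuotientGroup.mk_surjective a
    rw [hψ, eq_comm, QuotientGroup.eq] at h
    set n := q⁻¹ * φ q with hn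
    have hq : φ q = q * n := by rw [hn, mul_inv_cancel_left]
    obtain ⟨k, hk⟩ := mem_zpowers_iff.1 h
    have hφn : φ n = n := by rw [← hk, map_zpow, hφz]
    have h3 : n * n * n = 1 := by
      have := hφ3 q
      simp only [hq, map_mul, hφn, mul_assoc, mul_eq_left] at this
      rw [mul_assoc]; exact this
    have h2 : n * n = 1 := by
      rcases zpowers_two (q := (n : G)) hzz ⟨k, by rw [← hk]; simp [zQ]⟩ with e | e
      · exact Subtype.ext (by simp [e])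
      · exact Subtype.ext (by simp [e, hzz])
    rw [h2, one_mul] at h3
    rw [h3, mul_one] at hq
    rw [QuotientGroup.eq_one_iff]
    have := D.fixQ q.2 (mul_inv_eq_iff_eq_mul.1 (congrArg Subtype.val hq)).symm
    obtain ⟨j, hj⟩ := mem_zpowers_iff.1 this
    exact ⟨j, Subtype.ext (by simpa [zQ] using hj)⟩
  have h16 : Nat.card (D.Q ⧸ zpowers zQ) = 16 := by
    have := (zpowers zQ).card_mul_index
    rw [index_eq_card, Nat.card_zpowers, ← Subgroup.orderOf_coe, D.card_Q] at this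
    rw [show orderOf (zQ : G) = 2 from hz] at this
    omega
  have hc := sixteen_comm h16 ψ hψ3 hψfix (QuotientGroup.mk ⟨a, ha⟩) (QuotientGroup.mk ⟨b, hb⟩)
  have h1 : ((⟨a, ha⟩ * ⟨b, hb⟩ * (⟨a, ha⟩ : D.Q)⁻¹ * (⟨b, hb⟩ : D.Q)⁻¹ : D.Q) : D.Q ⧸ zpowers zQ) = 1 := by
    simp only [QuotientGroup.mk_mul, QuotientGroup.mk_inv]
    rw [hc]; group
  obtain ⟨j, hj⟩ := mem_zpowers_iff.1 ((QuotientGroup.eq_one_iff _).1 h1)
  exact mem_zpowers_iff.2 ⟨j, by simpa [zQ] using congrArg Subtype.val hj⟩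

/-- The centre of the kernel. -/
def Zc : Subgroup G := D.Q ⊓ centralizer (D.Q : Set G)

theorem Zc_iff {g : G} : g ∈ D.Zc ↔ g ∈ D.Q ∧ ∀ q ∈ D.Q, q * g = g * q :=
  ⟨fun h => ⟨h.1, fun q hq => mem_centralizer_iff.1 h.2 q hq⟩, fun h => ⟨h.1, mem_centralizer_iff.2 h.2⟩⟩

theorem zZc : z ∈ D.Zc := D.Zc_iff.2 ⟨D.zQ, fun _ hq => mem_cz.1 (D.Q_le hq)⟩

theorem Zc_normal {c g : G} (hc : c ∈ cz z) (hg : g ∈ D.Zc) : c * g * c⁻¹ ∈ D.Zc := by
  obtain ⟨hgQ, hgc⟩ := D.Zc_iff.1 hg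
  refine D.Zc_iff.2 ⟨D.Q_normal hc hgQ, fun q hq => ?_⟩
  have h := hgc _ (D.Q_normal (inv_mem hc) hq)
  rw [inv_inv] at h
  calc q * (c * g * c⁻¹) = c * (c⁻¹ * q * c * g) * c⁻¹ := by group
    _ = _ := by rw [h]; group

theorem center_card : Nat.card (center D.Q) = Nat.card D.Zc := by
  refine Nat.card_congr
    { toFun := fun q => ⟨((q : D.Q) : G), D.Zc_iff.2 ⟨(q : D.Q).2, fun r hr =>
        congrArg Subtype.val (mem_center_iff.1 q.2 ⟨r, hr⟩)⟩⟩
      invFun := fun q => ⟨⟨q.1, (D.Zc_iff.1 q.2).1⟩, mem_center_iff.2 fun r => Subtype.ext ((D.Zc_iff.1 q.2).2 r r.2)⟩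
      left_inv := fun _ => rfl
      right_inv := fun _ => rfl }

theorem extraspecial_of_card (hz : orderOf z = 2) (h : Nat.card D.Zc = 2) : Cfsg.IsExtraspecial 2 D.Q := by
  have hz1 : z ≠ 1 := fun e => by rw [e, orderOf_one] at hz; norm_num at hz
  have hcen : ∀ n ∈ zpowers z, n ∈ D.Zc := fun n hn => zpowers_le.2 D.zZc hn
  refine CfsgLib.Monster.isExtraspecial_of (IsPGroup.of_card (n := 5) (by rw [D.card_Q]; norm_num))
    (D.center_card.trans h) (fun a b => ?_) (fun a => ?_) ?_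
  · exact mem_center_iff.2 fun r => Subtype.ext ((D.Zc_iff.1 (hcen _ (D.comm_mem hz a.2 b.2))).2 r r.2)
  · refine mem_center_iff.2 fun r => Subtype.ext ?_
    set n := (a : G) * r * (a : G)⁻¹ * (r : G)⁻¹ with hn
    have hnz := D.comm_mem hz a.2 r.2
    have hnc := (D.Zc_iff.1 (hcen _ hnz)).2
    have hnn : n * n = 1 := by
      rcases zpowers_two (involution_sq hz) hnz with e | e
      · rw [hn, e, one_mul]
      · rw [hn, e, involution_sq hz]
    have har : (a : G) * r = n * r * a := by rw [hn]; group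
    show (r : G) * (a * a) = a * a * r
    calc (r : G) * (a * a) = n * n * r * a * a := by rw [hnn]; group
      _ = n * (n * r * a) * a := by group
      _ = n * (a * r) * a := by rw [har]
      _ = n * a * r * a := by group
      _ = a * n * r * a := by rw [hnc a a.2]
      _ = a * (n * r * a) := by group
      _ = a * (a * r) := by rw [har]
      _ = _ := by group
  · by_contra hcon
    push Not at hcon
    have hle : D.Q ≤ D.Zc := fun q hq => D.Zc_iff.2 ⟨hq, fun r hr => congrArg Subtype.val (hcon ⟨r, hr⟩ ⟨q, hq⟩)⟩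
    have := Nat.card_le_card_of_injective _ (inclusion_injective hle)
    rw [h, D.card_Q] at this
    omega

end Nine

namespace Counts

variable (H : Counts G)
include H

/-- When the centre is large, the involutions of the kernel form a central subgroup of order 8. -/
theorem exists_V {z : G} (hz : orderOf z = 2) (D : Nine z) (h : Nat.card D.Zc ≠ 2) :
    ∃ V ≤ D.Q, Nat.card V = 8 ∧ (∀ q, q ∈ V ↔ q ∈ D.Q ∧ q * q = 1) ∧ ∀ v ∈ V, ∀ q ∈ D.Q, q * v = v * q := by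
  classical
  haveI : Fact (Nat.Prime 2) := ⟨Nat.prime_two⟩
  have hzz := involution_sq hz
  have hz1 : z ≠ 1 := fun e => by rw [e, orderOf_one] at hz; norm_num at hz
  have hinv : ∀ g, g ∈ D.Zc ↔ (D.x : G) * g * (D.x : G)⁻¹ ∈ D.Zc := fun g =>
    ⟨D.Zc_normal D.x_mem, fun hg => by simpa [mul_assoc] using D.Zc_normal (inv_mem D.x_mem) hg⟩
  have hzp : ∀ K : Subgroup G, z ∈ K → Nat.card (K ⊓ zpowers z : Subgroup G) = 2 := fun K hK => by
    rw [inf_eq_right.2 (zpowers_le.2 hK), Nat.card_zpowers, hz]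
  have hcomm : ∀ {a b : G}, a ∈ D.Zc → b ∈ D.Zc → a * b = b * a := fun {a b} ha hb =>
    (D.Zc_iff.1 hb).2 a (D.Zc_iff.1 ha).1
  obtain ⟨i, hi5, hi⟩ := (Nat.dvd_prime_pow Nat.prime_two).1
    (show Nat.card D.Zc ∣ 2 ^ 5 by rw [show (2 : ℕ) ^ 5 = Nat.card D.Q by rw [D.card_Q]; norm_num]; exact card_dvd_of_le inf_le_left)
  have hZm := D.card_mod hz D.Zc inf_le_left hinv
  rw [hzp _ D.zZc, hi] at hZm
  have hZ : Nat.card D.Zc = 8 ∨ Nat.card D.Zc = 32 := by
    rw [hi] at h ⊢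
    interval_cases i <;> omega
  -- the involutions of the centre
  let V : Subgroup G :=
    { carrier := {q | q ∈ D.Zc ∧ q * q = 1}
      one_mem' := ⟨one_mem _, one_mul 1⟩
      mul_mem' := fun {a b} ha hb => ⟨mul_mem ha.1 hb.1, by
        rw [(show Commute b a from hcomm hb.1 ha.1).mul_mul_mul_comm a b, ha.2, hb.2, one_mul]⟩
      inv_mem' := fun {a} ha => ⟨inv_mem ha.1, by rw [← mul_inv_rev, ha.2, inv_one]⟩ }
  have hVZ : V ≤ D.Zc := fun q hq => hq.1
  have hVQ : V ≤ D.Q := hVZ.trans inf_le_left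
  have hVinv : ∀ g, g ∈ V ↔ (D.x : G) * g * (D.x : G)⁻¹ ∈ V := fun g => by
    refine and_congr (hinv g) ⟨fun h => ?_, fun h => ?_⟩
    · rw [show (D.x : G) * g * (D.x : G)⁻¹ * (D.x * g * (D.x : G)⁻¹) = D.x * (g * g) * (D.x : G)⁻¹ by group, h]
      group
    · have := congrArg (fun t => (D.x : G)⁻¹ * t * D.x) h
      simpa [mul_assoc] using this
  have hzV : z ∈ V := ⟨D.zZc, hzz⟩
  have hVm := D.card_mod hz V hVQ hVinv
  rw [hzp _ hzV] at hVm
  have hV16 := H.elementary_le (E := V) fun e he => he.2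
  obtain ⟨j, hj5, hj⟩ := (Nat.dvd_prime_pow Nat.prime_two).1
    (show Nat.card V ∣ 2 ^ 5 by rw [show (2 : ℕ) ^ 5 = Nat.card D.Q by rw [D.card_Q]; norm_num]; exact card_dvd_of_le hVQ)
  have hV8 : Nat.card V = 8 := by
    have h28 : Nat.card V = 2 ∨ Nat.card V = 8 := by
      rw [hj] at hVm hV16 ⊢
      interval_cases j <;> omega
    refine h28.resolve_left fun h2 => ?_
    let f : D.Zc →* D.Zc :=
      { toFun := fun a => a * a
        map_one' := one_mul 1
        map_mul' := fun a b => (show Commute b a from Subtype.ext (hcomm b.2 a.2)).mul_mul_mul_comm a b }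
    have hker : Nat.card f.ker = 2 := by
      rw [← h2]
      exact Nat.card_congr
        { toFun := fun a => ⟨((a : D.Zc) : G), (a : D.Zc).2, congrArg Subtype.val (MonoidHom.mem_ker.1 a.2 :)⟩
          invFun := fun a => ⟨⟨a.1, a.2.1⟩, MonoidHom.mem_ker.2 (Subtype.ext a.2.2)⟩
          left_inv := fun _ => rfl
          right_inv := fun _ => rfl }
    set R := f.range.map D.Zc.subtype with hR
    have hRc : Nat.card R * 2 = Nat.card D.Zc := by
      rw [hR, card_map_of_injective D.Zc.subtype_injective, ← hker, mul_comm, ← index_ker, card_mul_index]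
    have hRi : ∀ g, g ∈ R ↔ (D.x : G) * g * (D.x : G)⁻¹ ∈ R := by
      have hone : ∀ c ∈ cz z, ∀ g ∈ R, c * g * c⁻¹ ∈ R := by
        rintro c hc _ ⟨_, ⟨a, rfl⟩, rfl⟩
        refine ⟨_, ⟨⟨c * a * c⁻¹, D.Zc_normal hc a.2⟩, rfl⟩, ?_⟩
        show c * (a : G) * c⁻¹ * (c * a * c⁻¹) = c * ((a : G) * a) * c⁻¹
        group
      exact fun g => ⟨hone _ D.x_mem g, fun hg => by simpa [mul_assoc] using hone _ (inv_mem D.x_mem) _ hg⟩
    have hRm := D.card_mod hz R ((map_subtype_le _).trans inf_le_left) hRi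
    have hzR : z ∉ R := fun hzR => by
      rw [hzp _ hzR] at hRm
      rcases hZ with e | e <;> rw [e] at hRc <;> omega
    have hR2 : IsPGroup 2 R := (IsPGroup.of_card (p := 2) (n := 5) (by rw [D.card_Q]; norm_num)).to_le
      ((map_subtype_le _).trans inf_le_left)
    obtain ⟨w, hw⟩ := exists_prime_orderOf_dvd_card' (G := R) 2 (by
      rcases hZ with e | e <;> rw [e] at hRc
      · rw [show Nat.card R = 4 by omega]; norm_num
      · rw [show Nat.card R = 16 by omega]; norm_num)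
    rw [← Subgroup.orderOf_coe] at hw
    have hwV : (w : G) ∈ V := ⟨map_subtype_le _ w.2, by rw [← sq, ← hw, pow_orderOf_eq_one]⟩
    rcases card_two_iff h2 hzV hz1 hwV with e | e
    · rw [e, orderOf_one] at hw; norm_num at hw
    · exact hzR (e ▸ w.2)
  refine ⟨V, hVQ, hV8, fun q => ⟨fun hq => ⟨hVQ hq, hq.2⟩, fun ⟨hq, hq2⟩ => ⟨?_, hq2⟩⟩,
    fun v hv q hq => (D.Zc_iff.1 (hVZ hv)).2 q hq⟩
  rcases hZ with h8 | h32
  swap
  · rw [eq_of_le_of_card_ge (show D.Zc ≤ D.Q from inf_le_left) (show Nat.card D.Q ≤ Nat.card D.Zc by rw [D.card_Q, h32])]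
    exact hq
  -- a non-central involution makes the kernel abelian
  by_contra hqZ
  have hVZ' : V = D.Zc := eq_of_le_of_card_ge hVZ (by rw [hV8, h8])
  set x : G := (D.x : G) with hx
  set a' := x * q * x⁻¹ with ha'
  set a'' := x * a' * x⁻¹ with ha''
  have hqx : a' ∈ D.Q := D.Q_normal D.x_mem hq
  have hqxx : a'' ∈ D.Q := D.Q_normal D.x_mem hqx
  have hinvol : ∀ {b : G}, b * b = 1 → (x * b * x⁻¹) * (x * b * x⁻¹) = 1 := fun {b} hb => by
    rw [show x * b * x⁻¹ * (x * b * x⁻¹) = x * (b * b) * x⁻¹ by group, hb]; group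
  have h2' : a' * a' = 1 := hinvol hq2
  have h2'' : a'' * a'' = 1 := hinvol h2'
  have hback : x * a'' * x⁻¹ = q := by
    rw [ha'', ha', show x * (x * (x * q * x⁻¹) * x⁻¹) * x⁻¹ = x ^ 3 * q * (x ^ 3)⁻¹ by simp [pow_succ, mul_assoc],
      D.x_cubed]
    simp
  set p := q * a' * a'' with hp
  have hpQ : p ∈ D.Q := mul_mem (mul_mem hq hqx) hqxx
  have hpx : x * p * x⁻¹ = a' * a'' * q := by
    rw [hp, show x * (q * a' * a'') * x⁻¹ = x * q * x⁻¹ * (x * a' * x⁻¹) * (x * a'' * x⁻¹) by group, hback]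
  have hpc : p⁻¹ * (x * p * x⁻¹) ∈ D.Zc := by
    rw [hpx]
    have h1 := D.comm_mem hz (inv_mem (mul_mem hqx hqxx)) (inv_mem hq)
    refine zpowers_le.2 D.zZc ?_
    have e : p⁻¹ * (a' * a'' * q) = (a' * a'')⁻¹ * q⁻¹ * (a' * a'')⁻¹⁻¹ * q⁻¹⁻¹ := by rw [hp]; group
    rw [e]; exact h1
  have hpZ : p ∈ D.Zc := by
    haveI : Fact (Nat.Prime 3) := ⟨Nat.prime_three⟩
    have hcong := card_modEq_fixed (p := 3) (n := 1) (x := x) (by rw [pow_one]; exact D.x_cubed)
      (fun g => p⁻¹ * g ∈ D.Zc) fun g => by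
        rw [show p⁻¹ * (x * g * x⁻¹) = (p⁻¹ * (x * p * x⁻¹)) * (x * (p⁻¹ * g) * x⁻¹) by group,
          mul_mem_cancel_left hpc, ← hinv]
    have hcs : Nat.card {g // p⁻¹ * g ∈ D.Zc} = 8 :=
      (Nat.card_congr (Equiv.subtypeEquiv (Equiv.mulLeft p⁻¹) fun _ => Iff.rfl)).trans h8
    rw [hcs] at hcong
    have hne : Nat.card {g // p⁻¹ * g ∈ D.Zc ∧ g * x = x * g} ≠ 0 := fun e => by
      rw [e] at hcong; exact absurd hcong (by decide)
    obtain ⟨⟨⟨g, hg, hgx⟩⟩⟩ := Nat.card_pos_iff.1 (Nat.pos_of_ne_zero hne)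
    have hgQ : g ∈ D.Q := by simpa using mul_mem hpQ hg.1
    have hgZ : g ∈ D.Zc := zpowers_le.2 D.zZc (D.fixQ hgQ hgx)
    simpa using mul_mem hgZ (inv_mem hg)
  have hqa : q * a' = a' * q := by
    have hζ : p * p = 1 := (hVZ'.symm ▸ hpZ : p ∈ V).2
    have hcz : p * a'' = a'' * p := ((D.Zc_iff.1 hpZ).2 a'' hqxx).symm
    have h1 : q * a' = p * a'' := by rw [hp, mul_assoc, h2'', mul_one]
    have h2 : q * a' * (q * a') = 1 := by
      rw [h1, (show Commute a'' p from hcz.symm).mul_mul_mul_comm p a'', hζ, h2'', one_mul]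
    have h3 := inv_eq_of_mul_eq_one_right h2
    rw [mul_inv_rev, inv_eq_of_mul_eq_one_right hq2, inv_eq_of_mul_eq_one_right h2'] at h3
    exact h3.symm
  -- the generated abelian subgroup
  set A := D.Zc ⊔ zpowers q ⊔ zpowers a' with hA
  have hAQ : A ≤ D.Q := sup_le (sup_le inf_le_left (zpowers_le.2 hq)) (zpowers_le.2 hqx)
  have hAx : ∀ g ∈ A, x * g * x⁻¹ ∈ A := by
    have hmap : A ≤ A.comap (MulAut.conj x).toMonoidHom := by
      refine sup_le (sup_le (fun g hg => mem_sup_left (mem_sup_left ((hinv g).1 hg))) (zpowers_le.2 ?_)) (zpowers_le.2 ?_)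
      · exact mem_sup_right (mem_zpowers a')
      · show x * a' * x⁻¹ ∈ A
        rw [← ha'', show a'' = (a'⁻¹ * q⁻¹) * p by rw [hp]; group]
        exact mul_mem (mul_mem (inv_mem (mem_sup_right (mem_zpowers a')))
          (inv_mem (mem_sup_left (mem_sup_right (mem_zpowers q))))) (mem_sup_left (mem_sup_left hpZ))
    exact fun g hg => hmap hg
  have hAiff : ∀ g, g ∈ A ↔ x * g * x⁻¹ ∈ A := fun g => ⟨hAx g, fun hg => by
    have := hAx _ (hAx _ hg)
    rwa [show x * (x * (x * g * x⁻¹) * x⁻¹) * x⁻¹ = x ^ 3 * g * (x ^ 3)⁻¹ by simp [pow_succ, mul_assoc], D.x_cubed,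
      one_mul, inv_one, mul_one] at this⟩
  have hZA : D.Zc ≤ A := le_sup_left.trans le_sup_left
  have hAm := D.card_mod hz A hAQ hAiff
  rw [hzp _ (hZA D.zZc)] at hAm
  obtain ⟨k, hk5, hk⟩ := (Nat.dvd_prime_pow Nat.prime_two).1
    (show Nat.card A ∣ 2 ^ 5 by rw [show (2 : ℕ) ^ 5 = Nat.card D.Q by rw [D.card_Q]; norm_num]; exact card_dvd_of_le hAQ)
  have hA32 : A = D.Q := by
    refine eq_of_le_of_card_ge hAQ ?_
    have hlt : Nat.card D.Zc < Nat.card A := lt_of_le_of_ne (Nat.card_le_card_of_injective _ (inclusion_injective hZA))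
      fun e => hqZ ((eq_of_le_of_card_ge hZA e.ge).symm ▸ mem_sup_left (mem_sup_right (mem_zpowers q)))
    rw [D.card_Q]
    rw [h8, hk] at hlt
    rw [hk] at hAm ⊢
    interval_cases k <;> omega
  refine hqZ (D.Zc_iff.2 ⟨hq, fun r hr => ?_⟩)
  have hc : A ≤ centralizer ({q} : Set G) := sup_le (sup_le
    (fun g hg => mem_centralizer_singleton_iff.2 ((D.Zc_iff.1 hg).2 q hq).symm)
    (zpowers_le.2 (mem_centralizer_singleton_iff.2 rfl))) (zpowers_le.2 (mem_centralizer_singleton_iff.2 hqa.symm))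
  exact mem_centralizer_singleton_iff.1 (hc (hA32.symm ▸ hr))

theorem extraspecial {z : G} (hz : orderOf z = 2) (hC : Nat.card (cz z) = 192) (D : Nine z) :
    Cfsg.IsExtraspecial 2 D.Q := by
  classical
  by_cases h2 : Nat.card D.Zc = 2
  · exact D.extraspecial_of_card hz h2
  exfalso
  haveI : Fact (Nat.Prime 2) := ⟨Nat.prime_two⟩
  obtain ⟨V, hVQ, hV8, hVmem, hVc⟩ := H.exists_V hz D h2
  have hzz := involution_sq hz
  have hz1 : z ≠ 1 := fun e => by rw [e, orderOf_one] at hz; norm_num at hz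
  have hzV : z ∈ V := (hVmem z).2 ⟨D.zQ, hzz⟩
  have hVC : V ≤ cz z := hVQ.trans D.Q_le
  have hVn : ∀ c ∈ cz z, ∀ v ∈ V, c * v * c⁻¹ ∈ V := fun c hc v hv => (hVmem _).2
    ⟨D.Q_normal hc (hVQ hv), by
      rw [show c * v * c⁻¹ * (c * v * c⁻¹) = c * (v * v) * c⁻¹ by group, ((hVmem v).1 hv).2]; group⟩
  have hVab : ∀ v ∈ V, ∀ w ∈ V, v * w = w * v := fun v hv w hw => hVc w hw v (hVQ hv)
  set x : G := (D.x : G) with hx
  -- only `z` is fixed
  have hfix : ∀ v ∈ V, x * v = v * x → v = 1 ∨ v = z := fun v hv h => zpowers_two hzz (D.fixQ (hVQ hv) h.symm)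
  have hsmall : ¬ ∀ v ∈ V, v = 1 ∨ v = z := fun h => by
    have := Nat.card_le_card_of_injective (fun v : V => if (v : G) = 1 then (0 : Fin 2) else 1) (by
      intro a b hab
      by_cases ha : (a : G) = 1 <;> by_cases hb : (b : G) = 1 <;> simp [ha, hb] at hab
      · exact Subtype.ext (ha.trans hb.symm)
      · exact Subtype.ext (((h a a.2).resolve_left ha).trans ((h b b.2).resolve_left hb).symm))
    rw [hV8, Nat.card_fin] at this
    omega
  -- the elements acting trivially modulo `⟨z⟩`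
  let Triv : G → Prop := fun g => g ∈ cz z ∧ ∀ v ∈ V, g * v * g⁻¹ * v⁻¹ ∈ zpowers z
  have htQ : ∀ q ∈ D.Q, Triv q := fun q hq => ⟨D.Q_le hq, fun v hv => by
    rw [hVc v hv q hq, mul_inv_cancel_right, mul_inv_cancel]; exact one_mem _⟩
  have hzfix : ∀ g ∈ cz z, ∀ n ∈ zpowers z, g * n * g⁻¹ = n := fun g hg n hn => by
    obtain ⟨k, rfl⟩ := mem_zpowers_iff.1 hn
    exact mul_inv_eq_iff_eq_mul.2 ((show Commute g z from mem_cz.1 hg).zpow_right k).eq
  have htm : ∀ g h, Triv g → Triv h → Triv (g * h) := fun g h hg hh => ⟨mul_mem hg.1 hh.1, fun v hv => by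
    have h1 := hh.2 v hv
    have h2 := hg.2 v hv
    rw [show g * h * v * (g * h)⁻¹ * v⁻¹ = (g * (h * v * h⁻¹ * v⁻¹) * g⁻¹) * (g * v * g⁻¹ * v⁻¹) by group,
      hzfix g hg.1 _ h1]
    exact mul_mem h1 h2⟩
  have hti : ∀ g, Triv g → Triv g⁻¹ := fun g hg => ⟨inv_mem hg.1, fun v hv => by
    have hv' := hVn g⁻¹ (inv_mem hg.1) v hv
    have h1 := inv_mem (hg.2 _ hv')
    rwa [show (g * (g⁻¹ * v * g⁻¹⁻¹) * g⁻¹ * (g⁻¹ * v * g⁻¹⁻¹)⁻¹)⁻¹ = g⁻¹ * v * g⁻¹⁻¹ * v⁻¹ by group] at h1⟩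
  have htc : ∀ c g, c ∈ cz z → Triv g → Triv (c * g * c⁻¹) := fun c g hc hg =>
    ⟨mul_mem (mul_mem hc hg.1) (inv_mem hc), fun v hv => by
      have h1 := hg.2 _ (hVn c⁻¹ (inv_mem hc) v hv)
      have h2 := hzfix c hc _ h1
      rw [show c * g * c⁻¹ * v * (c * g * c⁻¹)⁻¹ * v⁻¹ =
        c * (g * (c⁻¹ * v * c⁻¹⁻¹) * g⁻¹ * (c⁻¹ * v * c⁻¹⁻¹)⁻¹) * c⁻¹ by group, h2]
      exact h1⟩
  have hxnt : ¬ Triv x := fun ht => hsmall fun v hv => by
    have h := ht.2 v hv
    set n := x * v * x⁻¹ * v⁻¹ with hn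
    have e1 : x * v * x⁻¹ = n * v := by rw [hn]; group
    have hxn : x * n * x⁻¹ = n := hzfix x D.x_mem n h
    have e3 : n * n * n = 1 := by
      have : x * (x * (x * v * x⁻¹) * x⁻¹) * x⁻¹ = n * n * n * v := by
        rw [e1, show x * (n * v) * x⁻¹ = (x * n * x⁻¹) * (x * v * x⁻¹) by group, hxn, e1,
          show x * (n * (n * v)) * x⁻¹ = (x * n * x⁻¹) * (x * n * x⁻¹) * (x * v * x⁻¹) by group, hxn, e1]
        group
      rw [show x * (x * (x * v * x⁻¹) * x⁻¹) * x⁻¹ = x ^ 3 * v * (x ^ 3)⁻¹ by simp [pow_succ, mul_assoc],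
        D.x_cubed, one_mul, inv_one, mul_one] at this
      exact (mul_eq_right.1 this.symm)
    have e4 : n = 1 := by
      rcases zpowers_two hzz h with e | e
      · exact e
      · rw [e, hzz, one_mul] at e3; exact absurd e3 hz1
    refine hfix v hv ?_
    rw [e4, one_mul] at e1
    exact mul_inv_eq_iff_eq_mul.1 e1
  have hcent : ∀ g ∈ cz z, (∀ v ∈ V, g * v = v * g) → g ∈ D.Q := by
    intro g hg hgV
    by_contra hgQ
    have hθ : D.θ ⟨g, hg⟩ ≠ 1 := fun h => hgQ ⟨_, MonoidHom.mem_ker.2 h, rfl⟩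
    have htg : Triv g := ⟨hg, fun v hv => by rw [hgV v hv, mul_inv_cancel_right, mul_inv_cancel]; exact one_mem _⟩
    have hθ3 : D.θ D.x ^ 3 = 1 := by rw [← map_pow, orderOf_dvd_iff_pow_eq_one.1 (dvd_of_eq D.hx), map_one]
    have hlift : ∀ w : cz z, D.θ D.x = D.θ w → Triv (w : G) → False := fun w hw htw => hxnt (by
      have hq : ((D.x * w⁻¹ : cz z) : G) ∈ D.Q :=
        ⟨D.x * w⁻¹, MonoidHom.mem_ker.2 (by rw [map_mul, map_inv]; exact mul_inv_eq_one.2 hw), rfl⟩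
      have := htm _ _ (htQ _ hq) htw
      simpa using this)
    rcases perm_three_normal _ _ hθ hθ3 with e | e | e | ⟨h, e⟩
    · exact D.theta_x e
    · exact hlift _ e htg
    · exact hlift ⟨g, hg⟩⁻¹ (by rw [map_inv]; exact e) (hti g htg)
    · obtain ⟨w, rfl⟩ := D.surj h
      refine hlift (w * ⟨g, hg⟩ * w⁻¹ * (⟨g, hg⟩ : cz z)⁻¹) (by simp [e]) ?_
      exact htm _ _ (htc _ _ w.2 htg) (hti g htg)
  -- the involution attached to a Sylow 2-subgroup
  have hsig : ∀ S : Subgroup G, S ≤ cz z → Nat.card S = 64 → D.Q ≤ S ∧ ∃ c ∈ V, c ≠ 1 ∧ c ≠ z ∧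
      (∀ s ∈ S, c * s = s * c) ∧ ∀ s ∈ S, ∀ v ∈ V, s * v * s⁻¹ * v⁻¹ = 1 ∨ s * v * s⁻¹ * v⁻¹ = c := by
    intro S hSC hS
    have hS2 : IsPGroup 2 S := IsPGroup.of_card (n := 6) (by rw [hS]; norm_num)
    have hQS : D.Q ≤ S := by
      have hp : IsPGroup 2 (D.Q ⊔ S : Subgroup G) := (IsPGroup.of_card (p := 2) (n := 5)
        (by rw [D.card_Q]; norm_num)).to_sup_of_normal_left' hS2 fun s hs =>
          mem_normalizer_iff.2 fun q => D.Q_iff (hSC hs)
      have := Nat.le_of_dvd (by norm_num) (H.card_two_group hp)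
      rw [eq_of_le_of_card_ge (le_sup_right : S ≤ D.Q ⊔ S) (by rw [hS]; exact this)]
      exact le_sup_left
    refine ⟨hQS, ?_⟩
    set T := (S.subgroupOf (cz z)).map D.θ with hT
    have hTd : Nat.card T ∣ 2 := by
      have h6 : Nat.card T ∣ 6 := (card_subgroup_dvd_card T).trans (dvd_of_eq (by rw [Nat.card_perm, Nat.card_fin]; rfl))
      obtain ⟨k, hk⟩ := IsPGroup.iff_card.1 (((hS2.comap_of_injective (cz z).subtype Subtype.val_injective)).map D.θ :
        IsPGroup 2 T)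
      replace hk : Nat.card T = 2 ^ k := hk
      rw [hk] at h6 ⊢
      have := Nat.le_of_dvd (by norm_num) h6
      have hk3 : k < 3 := by
        by_contra hc
        have := Nat.pow_le_pow_right two_pos (not_lt.1 hc)
        omega
      interval_cases k <;> norm_num at h6 <;> norm_num
    obtain ⟨σ, hσS, hσQ⟩ := SetLike.exists_of_lt (lt_of_le_of_ne hQS (fun e => by
      have := D.card_Q; rw [e, hS] at this; omega))
    have hσC := hSC hσS
    have hσT : D.θ ⟨σ, hσC⟩ ∈ T := ⟨⟨σ, hσC⟩, hσS, rfl⟩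
    have hσ1 : D.θ ⟨σ, hσC⟩ ≠ 1 := fun h => hσQ ⟨_, MonoidHom.mem_ker.2 h, rfl⟩
    have hT2 : Nat.card T = 2 := by
      rcases (Nat.dvd_prime Nat.prime_two).1 hTd with e | e
      · rw [Subgroup.card_eq_one] at e; rw [e, mem_bot] at hσT; exact absurd hσT hσ1
      · exact e
    have hσσ : σ * σ ∈ D.Q := by
      refine ⟨⟨σ, hσC⟩ * ⟨σ, hσC⟩, MonoidHom.mem_ker.2 ?_, rfl⟩
      have h := Subgroup.orderOf_dvd_natCard T hσT
      rw [hT2] at h
      rw [map_mul, ← sq]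
      exact orderOf_dvd_iff_pow_eq_one.1 h
    have hSsplit : ∀ s ∈ S, s ∈ D.Q ∨ ∃ q ∈ D.Q, s = σ * q := by
      intro s hs
      rcases card_two_iff hT2 hσT hσ1 (show D.θ ⟨s, hSC hs⟩ ∈ T from ⟨⟨s, hSC hs⟩, hs, rfl⟩) with e | e
      · exact Or.inl ⟨_, MonoidHom.mem_ker.2 e, rfl⟩
      · exact Or.inr ⟨σ⁻¹ * s, ⟨⟨σ, hσC⟩⁻¹ * ⟨s, hSC hs⟩, MonoidHom.mem_ker.2 (by
          rw [map_mul, map_inv, e, inv_mul_cancel]), rfl⟩, by rw [mul_inv_cancel_left]⟩
    let f : V →* V :=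
      { toFun := fun v => ⟨σ * v * σ⁻¹ * (v : G)⁻¹, mul_mem (hVn σ hσC v v.2) (inv_mem v.2)⟩
        map_one' := Subtype.ext (by simp)
        map_mul' := fun a b => Subtype.ext (by
          show σ * ((a : G) * b) * σ⁻¹ * ((a : G) * b)⁻¹ = σ * a * σ⁻¹ * (a : G)⁻¹ * (σ * b * σ⁻¹ * (b : G)⁻¹)
          have h1 := hVab _ (mul_mem (hVn σ hσC b b.2) (inv_mem b.2)) _ (inv_mem a.2)
          calc σ * ((a : G) * b) * σ⁻¹ * ((a : G) * b)⁻¹ = σ * a * σ⁻¹ * (σ * b * σ⁻¹ * (b : G)⁻¹ * (a : G)⁻¹) := by group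
            _ = _ := by rw [h1]; group) }
    have hrk : f.range ≤ f.ker := by
      rintro _ ⟨v, rfl⟩
      refine MonoidHom.mem_ker.2 (Subtype.ext ?_)
      set w := σ * (v : G) * σ⁻¹ with hw
      have hwV : w ∈ V := hVn σ hσC v v.2
      show σ * (w * (v : G)⁻¹) * σ⁻¹ * (w * (v : G)⁻¹)⁻¹ = 1
      have hww : σ * w * σ⁻¹ = v := by
        have h := hVc v v.2 _ hσσ
        rw [hw, show σ * (σ * v * σ⁻¹) * σ⁻¹ = σ * σ * v * (σ * σ)⁻¹ by group, h, mul_inv_cancel_right]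
      have hv' : (v : G)⁻¹ = v := inv_eq_of_mul_eq_one_right ((hVmem _).1 v.2).2
      rw [hv', show σ * (w * v) * σ⁻¹ = σ * w * σ⁻¹ * (σ * v * σ⁻¹) by group, hww, ← hw, hVab v v.2 w hwV,
        mul_inv_cancel]
    have hmul : Nat.card f.ker * Nat.card f.range = 8 := by rw [← index_ker, card_mul_index, hV8]
    have hr1 : Nat.card f.range ≠ 1 := fun h => hσQ (hcent σ hσC fun v hv => by
      have h1 : f ⟨v, hv⟩ ∈ f.range := ⟨_, rfl⟩
      rw [Subgroup.card_eq_one.1 h, mem_bot] at h1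
      have h2 : σ * v * σ⁻¹ * v⁻¹ = 1 := congrArg Subtype.val h1
      exact mul_inv_eq_iff_eq_mul.1 (mul_inv_eq_one.1 h2))
    have hle := Nat.card_le_card_of_injective _ (inclusion_injective hrk)
    have hr2 : Nat.card f.range = 2 := by
      have hpos : 0 < Nat.card f.range := Nat.card_pos
      have : Nat.card f.range ≤ 2 := by
        by_contra hc
        have := Nat.mul_le_mul (show 3 ≤ Nat.card f.ker by omega) (show 3 ≤ Nat.card f.range by omega)
        omega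
      omega
    obtain ⟨c, hc1, -⟩ := (Nat.card_eq_two_iff' (1 : f.range)).1 hr2
    have hcne : (c : V) ≠ 1 := fun e => hc1 (Subtype.ext e)
    have hcv : ∀ v : V, f v = 1 ∨ f v = c := fun v => by
      have := card_two_iff (K := f.range) hr2 c.2 hcne (show f v ∈ f.range from ⟨v, rfl⟩)
      exact this
    refine ⟨((c : V) : G), (c : V).2, fun e => hcne (Subtype.ext e), ?_, ?_, ?_⟩
    · intro hcz
      have htσ : Triv σ := ⟨hσC, fun v hv => by
        rcases hcv ⟨v, hv⟩ with e | e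
        · rw [show σ * v * σ⁻¹ * v⁻¹ = 1 from congrArg Subtype.val e]; exact one_mem _
        · rw [show σ * v * σ⁻¹ * v⁻¹ = ((c : V) : G) from congrArg Subtype.val e, hcz]; exact mem_zpowers z⟩
      have hθ3 : D.θ D.x ^ 3 = 1 := by rw [← map_pow, orderOf_dvd_iff_pow_eq_one.1 (dvd_of_eq D.hx), map_one]
      have hlift : ∀ w : cz z, D.θ D.x = D.θ w → Triv (w : G) → False := fun w hw htw => hxnt (by
        have hq : ((D.x * w⁻¹ : cz z) : G) ∈ D.Q :=
          ⟨D.x * w⁻¹, MonoidHom.mem_ker.2 (by rw [map_mul, map_inv]; exact mul_inv_eq_one.2 hw), rfl⟩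
        have := htm _ _ (htQ _ hq) htw
        simpa using this)
      rcases perm_three_normal _ _ hσ1 hθ3 with e | e | e | ⟨h, e⟩
      · exact D.theta_x e
      · exact hlift _ e htσ
      · exact hlift ⟨σ, hσC⟩⁻¹ (by rw [map_inv]; exact e) (hti σ htσ)
      · obtain ⟨w, rfl⟩ := D.surj h
        refine hlift (w * ⟨σ, hσC⟩ * w⁻¹ * (⟨σ, hσC⟩ : cz z)⁻¹) (by simp [e]) ?_
        exact htm _ _ (htc _ _ w.2 htσ) (hti σ htσ)
    · have hck : (c : V) ∈ f.ker := hrk c.2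
      have hcσ : σ * (c : V) * σ⁻¹ * ((c : V) : G)⁻¹ = 1 := congrArg Subtype.val (MonoidHom.mem_ker.1 hck)
      have hcσ' := mul_inv_eq_iff_eq_mul.1 (mul_inv_eq_one.1 hcσ)
      intro s hs
      rcases hSsplit s hs with h | ⟨q, hq, rfl⟩
      · exact (hVc _ (c : V).2 s h).symm
      · rw [← mul_assoc, ← hcσ', mul_assoc, ← hVc _ (c : V).2 q hq, ← mul_assoc]
    · intro s hs v hv
      rcases hSsplit s hs with h | ⟨q, hq, rfl⟩
      · exact Or.inl (by rw [hVc v hv s h, mul_inv_cancel_right, mul_inv_cancel])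
      · rw [show σ * q * v * (σ * q)⁻¹ * v⁻¹ = σ * (q * v * q⁻¹) * σ⁻¹ * v⁻¹ by group, hVc v hv q hq,
          mul_inv_cancel_right]
        exact (hcv ⟨v, hv⟩).imp (fun e => congrArg Subtype.val e) fun e => congrArg Subtype.val e
  obtain ⟨R, hR⟩ := Sylow.exists_subgroup_card_pow_prime 2 (G := cz z) (n := 6) (by rw [hC]; norm_num)
  set S := R.map (cz z).subtype with hSdef
  have hS : Nat.card S = 64 := by rw [hSdef, card_map_of_injective (cz z).subtype_injective, hR]; norm_num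
  have hSC : S ≤ cz z := map_subtype_le R
  obtain ⟨hQS, c, hcV, hc1, hcz, hcS, hcomm⟩ := hsig S hSC hS
  have hco : orderOf c = 2 := orderOf_eq_prime (by rw [sq]; exact ((hVmem c).1 hcV).2) hc1
  have h64 : 64 ∣ Nat.card (cz c) := hS ▸ card_dvd_of_le fun s hs => mem_cz.2 (hcS s hs).symm
  obtain ⟨g, hg⟩ := isConj_iff.1 ((H.invol_class hz hC hco).resolve_left fun h => by
    rw [h] at h64; norm_num at h64)
  set S' := S.map (MulAut.conj g⁻¹).toMonoidHom with hS'def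
  have hS' : Nat.card S' = 64 := (card_map_of_injective (MulAut.conj g⁻¹).injective).trans hS
  have hzc : g⁻¹ * c * g⁻¹⁻¹ = z := by rw [← hg]; group
  have hS'C : S' ≤ cz z := by
    rintro _ ⟨s, hs, rfl⟩
    refine mem_cz.2 ?_
    rw [← hzc]
    exact ((Commute.conj_iff g⁻¹).2 (show Commute s c from (hcS s hs).symm)).eq
  obtain ⟨hQS', c', hc'V, hc'1, hc'z, -, hcomm'⟩ := hsig S' hS'C hS'
  have hdc : g * c' * g⁻¹ ≠ c := fun e => hc'z (by
    rw [← hzc, ← e]; group)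
  have hW : ∀ v₀ ∈ V, g * v₀ * g⁻¹ ∈ V := by
    intro v₀ hv₀
    obtain ⟨s, hs, he⟩ := hQS' (hVQ hv₀)
    have he' : g⁻¹ * s * g⁻¹⁻¹ = v₀ := he
    have hsw : g * v₀ * g⁻¹ = s := by rw [← he']; group
    rw [hsw]
    have hvs : ∀ v ∈ V, s * v = v * s := by
      intro v hv
      rcases hcomm s hs v hv with e | e
      · exact mul_inv_eq_iff_eq_mul.1 (mul_inv_eq_one.1 e)
      exfalso
      have hv' : g⁻¹ * v * g⁻¹⁻¹ ∈ S' := ⟨v, hQS (hVQ hv), rfl⟩
      have hinv : v * s * v⁻¹ * s⁻¹ = c := by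
        rw [show v * s * v⁻¹ * s⁻¹ = (s * v * s⁻¹ * v⁻¹)⁻¹ by group, e]
        exact inv_eq_of_mul_eq_one_right ((hVmem c).1 hcV).2
      have heq : g * (g⁻¹ * v * g⁻¹⁻¹ * v₀ * (g⁻¹ * v * g⁻¹⁻¹)⁻¹ * v₀⁻¹) * g⁻¹ = c := by
        rw [← hinv, ← hsw]; group
      rcases hcomm' _ hv' v₀ hv₀ with e' | e'
      · rw [e', mul_one, mul_inv_cancel] at heq; exact hc1 heq.symm
      · rw [e'] at heq; exact hdc heq
    have hsq : s * s = 1 := by
      rw [← hsw, show g * v₀ * g⁻¹ * (g * v₀ * g⁻¹) = g * (v₀ * v₀) * g⁻¹ by group, ((hVmem v₀).1 hv₀).2]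
      group
    exact (hVmem s).2 ⟨hcent s (hSC hs) hvs, hsq⟩
  set N := normalizer (V : Set G) with hN
  have hVmap : V.map (MulAut.conj g).toMonoidHom = V := by
    refine eq_of_le_of_card_ge ?_ (card_map_of_injective (MulAut.conj g).injective).ge
    rintro _ ⟨v, hv, rfl⟩
    exact hW v hv
  have hgN : g ∈ N := mem_normalizer_iff.2 fun v => ⟨hW v, fun hv => by
    have hv' : g * v * g⁻¹ ∈ V.map (MulAut.conj g).toMonoidHom := by rw [hVmap]; exact hv
    obtain ⟨w, hw, he⟩ := hv'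
    rwa [← (MulAut.conj g).injective (show MulAut.conj g w = MulAut.conj g v from he)]⟩
  have hCN : cz z ≤ N := fun a ha => mem_normalizer_iff.2 fun v => ⟨hVn a ha v, fun hv => by
    simpa [mul_assoc] using hVn a⁻¹ (inv_mem ha) _ hv⟩
  have horb : Nat.card {w : G // ∃ n ∈ N, n * z * n⁻¹ = w} * 192 = Nat.card N := by
    rw [card_orbit_in, ← hC, mul_comm, ← relIndex_bot_left, ← relIndex_bot_left]
    exact relIndex_mul_relIndex ⊥ _ _ bot_le hCN
  have hO7 : Nat.card {w : G // ∃ n ∈ N, n * z * n⁻¹ = w} ≤ 7 := by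
    haveI := Fintype.ofFinite V
    refine (Nat.card_le_card_of_injective (fun w : {w : G // ∃ n ∈ N, n * z * n⁻¹ = w} => (⟨⟨w.1, by
      obtain ⟨n, hn, e⟩ := w.2
      rw [← e]; exact (mem_normalizer_iff.1 hn z).1 hzV⟩, fun e => by
      obtain ⟨n, hn, e'⟩ := w.2
      have h1 : w.1 = 1 := congrArg Subtype.val e
      rw [h1] at e'
      exact hz1 (conj_eq_one_iff.1 e')⟩ : {v : V // v ≠ 1}))
      fun a b h => Subtype.ext (congrArg (fun t : {v : V // v ≠ 1} => (t.1 : G)) h :)).trans ?_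
    rw [H.card_diff_one V, hV8]
  have hrelc : (cz c).relIndex (cz z) = 3 := by
    have hne : ¬ cz z ≤ cz c := fun h => by
      rcases hfix c hcV (mem_cz.1 (h D.x_mem)) with e | e
      · exact hc1 e
      · exact hcz e
    have hS64 : S ≤ cz c ⊓ cz z := le_inf (fun s hs => mem_cz.2 (hcS s hs).symm) hSC
    have hmul : Nat.card (cz c ⊓ cz z : Subgroup G) * (cz c).relIndex (cz z) = 192 := by
      rw [← hC, ← inf_relIndex_right (cz c) (cz z), ← relIndex_bot_left, ← relIndex_bot_left]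
      exact relIndex_mul_relIndex ⊥ _ _ bot_le inf_le_right
    obtain ⟨k, hk⟩ := hS ▸ card_dvd_of_le hS64
    rw [hk, mul_assoc] at hmul
    have h3 : k * (cz c).relIndex (cz z) = 3 := by omega
    rcases (Nat.dvd_prime Nat.prime_three).1 (Dvd.intro_left k h3) with e | e
    · exact absurd (relIndex_eq_one.1 e) hne
    · exact e
  have hO4 : 4 ≤ Nat.card {w : G // ∃ n ∈ N, n * z * n⁻¹ = w} := by
    have hle := Nat.card_le_card_of_injective
      (fun o : Option {w : G // ∃ a ∈ cz z, a * c * a⁻¹ = w} => (match o with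
        | none => ⟨z, 1, one_mem _, by simp⟩
        | some w => ⟨w.1, by
            obtain ⟨a, ha, e⟩ := w.2
            exact ⟨a * g, mul_mem (hCN ha) hgN, by rw [← e, ← hg]; group⟩⟩ : {w : G // ∃ n ∈ N, n * z * n⁻¹ = w})) (by
      have hne : ∀ w : {w : G // ∃ a ∈ cz z, a * c * a⁻¹ = w}, w.1 ≠ z := fun w hw => by
        obtain ⟨a, ha, e⟩ := w.2
        rw [hw] at e
        refine hcz (mul_left_cancel (a := a) ?_)
        rw [mul_inv_eq_iff_eq_mul.1 e, mem_cz.1 ha]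
      rintro (_ | a) (_ | b) h
      · rfl
      · exact absurd (congrArg Subtype.val h).symm (hne b)
      · exact absurd (congrArg Subtype.val h) (hne a)
      · exact congrArg some (Subtype.ext (congrArg Subtype.val h :)))
    haveI := Fintype.ofFinite {w : G // ∃ a ∈ cz z, a * c * a⁻¹ = w}
    rw [Nat.card_eq_fintype_card, Fintype.card_option, ← Nat.card_eq_fintype_card, card_orbit_in, hrelc] at hle
    exact hle
  have h495 : Nat.card {w : G // ∃ n ∈ N, n * z * n⁻¹ = w} ∣ 495 := by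
    have h := card_subgroup_dvd_card N
    rw [← horb, H.card, show (95040 : ℕ) = 495 * 192 from rfl] at h
    exact Nat.dvd_of_mul_dvd_mul_right (by norm_num) h
  have hO5 : Nat.card {w : G // ∃ n ∈ N, n * z * n⁻¹ = w} = 5 := by
    generalize Nat.card {w : G // ∃ n ∈ N, n * z * n⁻¹ = w} = m at hO4 hO7 h495 ⊢
    interval_cases m <;> first | rfl | norm_num at h495
  haveI : Fact (Nat.Prime 5) := ⟨by norm_num⟩
  obtain ⟨y, hy⟩ := exists_prime_orderOf_dvd_card' (G := N) 5 (by rw [← horb, hO5]; norm_num)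
  rw [← Subgroup.orderOf_coe] at hy
  have hmod := card_modEq_fixed (p := 5) (n := 1) (x := (y : G)) (by rw [pow_one, ← hy, pow_orderOf_eq_one]) (· ∈ V)
    (fun v => mem_normalizer_iff.1 y.2 v)
  rw [show Nat.card {g // g ∈ V ∧ g * (y : G) = y * g} = Nat.card (V ⊓ cz (y : G) : Subgroup G) from
    Nat.card_congr (Equiv.subtypeEquivRight fun g => by rw [mem_inf, mem_cz]), show Nat.card {g // g ∈ V} = 8 from hV8] at hmod
  obtain ⟨i, hi3, hi⟩ := (Nat.dvd_prime_pow Nat.prime_two).1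
    (show Nat.card (V ⊓ cz (y : G) : Subgroup G) ∣ 2 ^ 3 by rw [show (2 : ℕ) ^ 3 = Nat.card V by rw [hV8]; norm_num]; exact card_dvd_of_le inf_le_left)
  rw [hi] at hmod
  have hi' : i = 3 := by unfold Nat.ModEq at hmod; interval_cases i <;> omega
  have hVy : V ⊓ cz (y : G) = V := eq_of_le_of_card_ge inf_le_left (by rw [hi, hi', hV8]; norm_num)
  have hyz : (y : G) ∈ cz z := mem_cz.2 (mem_cz.1 (hVy.symm ▸ hzV : z ∈ V ⊓ cz (y : G)).2).symm
  have := Subgroup.orderOf_dvd_natCard (cz z) hyz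
  rw [hy, hC] at this
  norm_num at this

end Counts

end CfsgLib.M12Nse
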