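import Cfsg.Agent.M12Nse.NineExtra
import Cfsg.Agent.C192.Setup
import Cfsg.Agent.C192.KindBad
import Cfsg.Agent.C192.Kind00
import Cfsg.Agent.C192.T10
import Cfsg.Agent.C192.T11

/-!
# A group with the counts of `M₁₂` is isomorphic to it
-/

set_option autoImplicit false
set_option linter.style.haveILetI false
set_option linter.unusedSectionVars false
set_option maxRecDepth 100000

namespace CfsgLib.M12Nse

open Subgroup CfsgLib.M11Nse CfsgLib.SmallSimple CfsgLib.Coset

/-- The 2-elements of the centralizer have fourth power one. -/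
noncomputable def p4B (m : Nat → Nat → Nat) : Bool := (List.range 192).all fun i => !(CfsgLib.C192.p8B m i) || Nat.beq (m (m i i) (m i i)) 0

theorem p4_10 : p4B CfsgLib.C192.T10.m = true := by decide +kernel

theorem p4_11 : p4B CfsgLib.C192.T11.m = true := by decide +kernel

/-- The involutions lie in the normal subgroup of order 32. -/
theorem invols_01 : ((List.range 192).all fun i =>
    !(CfsgLib.C192.invB CfsgLib.C192.T01.m i) || CfsgLib.C192.nQ1.contains i) = true := by decide +kernel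

variable {G : Type*} [Group G] [Finite G]

theorem pow_four {z : G} {m : Nat → Nat → Nat} {c : Nat} {el : Nat → G} (C : CfsgLib.C192.Cod z m c el)
    (h : p4B m = true) {d : G} (hd : d * z = z * d) (h8 : d ^ 8 = 1) : d ^ 4 = 1 := by
  obtain ⟨i, hi, rfl⟩ := C.surj d hd
  have h1 := C.lt i hi i hi
  have h2 := C.lt _ h1 _ h1
  have h3 := C.lt _ h2 _ h2
  have hp : CfsgLib.C192.p8B m i = true := by
    rw [show el i ^ 8 = ((el i * el i) * (el i * el i)) * ((el i * el i) * (el i * el i)) by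
      simp [pow_succ, mul_assoc], C.mul i hi i hi, C.mul _ h1 _ h1, C.mul _ h2 _ h2, C.eq_one_iff h3] at h8
    simpa [CfsgLib.C192.p8B, Nat.beq_eq] using h8
  have hb := List.all_eq_true.1 h i (List.mem_range.2 hi)
  rw [hp, Bool.not_true, Bool.false_or] at hb
  rw [show el i ^ 4 = (el i * el i) * (el i * el i) by simp [pow_succ, mul_assoc], C.mul i hi i hi,
    C.mul _ h1 _ h1, Nat.eq_of_beq_eq_true hb, C.one]

namespace Counts

variable (H : Counts G)
include H

theorem iso_M12 : Cfsg.Spor.IsoM12 G := by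
  classical
  haveI : Fact (Nat.Prime 2) := ⟨Nat.prime_two⟩
  haveI := H.isSimple
  obtain ⟨z, hz, hC⟩ := H.exists_192
  obtain ⟨D⟩ := H.exists_nine hz hC
  have hX : D.Q ⊓ centralizer (((D.sylow : Subgroup (cz z)).map (cz z).subtype : Subgroup G) : Set G) = zpowers z := by
    refine le_antisymm (fun q hq => D.fixQ hq.1 ?_) (zpowers_le.2 ⟨D.zQ, mem_centralizer_iff.2 ?_⟩)
    · exact (mem_centralizer_iff.1 hq.2 _ ⟨D.x, D.gen ▸ mem_zpowers D.x, rfl⟩).symm
    · rintro _ ⟨g, -, rfl⟩
      exact mem_cz.1 g.2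
  obtain ⟨sw, sq, L, hlen, hrel, hgen, hcard, hzL, -⟩ :=
    CfsgLib.C192.exists_data z hz (cz z) rfl D.θ.ker D.kerCard D.Q rfl (H.extraspecial hz hC D) D.θ D.surj rfl
      D.sylow hX
  have hF : CfsgLib.M12U.Fused z := CfsgLib.M12U.fused_of_simple H.not_comm
  obtain ⟨d, hdC, hd⟩ := H.exists_order_eight (C := cz z) (by rw [hC]; norm_num)
  have hd4 : d ^ 4 ≠ 1 := fun h => by
    have := orderOf_dvd_of_pow_eq_one h
    rw [hd] at this
    norm_num at this
  cases sw <;> cases sq
  · rcases CfsgLib.C192.T00.classify hF hlen hrel hgen hcard hzL with ⟨N, hN, -, -, h8, -⟩ | h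
    · exfalso
      rcases hN.eq_bot_or_eq_top with rfl | rfl
      · rw [card_bot] at h8; norm_num at h8
      · rw [card_top, H.card] at h8; norm_num at h8
    · exact h
  · exfalso
    have C := CfsgLib.C192.T01.cod hlen hrel hgen hcard hzL
    obtain ⟨g, hgc, hgne⟩ : ∃ g : G, Commute z (g * z * g⁻¹) ∧ g * z * g⁻¹ ≠ z := by
      by_contra hcon
      push Not at hcon
      exact hF ⟨hz, hcon⟩
    obtain ⟨h0, hS, -, hb⟩ := CfsgLib.C192.T01.hQ
    have hlt : ∀ i ∈ CfsgLib.C192.nQ1, i < 192 := fun i hi' => by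
      simp only [CfsgLib.C192.closB, List.all_eq_true, Bool.and_eq_true, Nat.blt_eq] at hS
      exact (hS i hi').1
    obtain ⟨i, hi, hinv, he⟩ := C.invol_node hgc.eq.symm
      ((orderOf_eq_of_isConj (isConj_iff.2 ⟨g, rfl⟩)).trans hz)
    have hiQ : i ∈ CfsgLib.C192.nQ1 := by
      have := List.all_eq_true.1 invols_01 i (List.mem_range.2 hi)
      simpa [hinv] using this
    exact hgne (C.no_conj hz hb ⟨i, hiQ, he⟩ hlt (isConj_iff.2 ⟨g, rfl⟩))
  · exact absurd (pow_four (CfsgLib.C192.T10.cod hlen hrel hgen hcard hzL) p4_10 (mem_cz.1 hdC) (by rw [← hd, pow_orderOf_eq_one])) hd4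
  · exact absurd (pow_four (CfsgLib.C192.T11.cod hlen hrel hgen hcard hzL) p4_11 (mem_cz.1 hdC) (by rw [← hd, pow_orderOf_eq_one])) hd4

end Counts

end CfsgLib.M12Nse
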