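import Cfsg.Agent.M12Nse.NineBase

/-!
# The Sylow 2-subgroups are not normal in the centralizer of order 192
-/

set_option autoImplicit false
set_option linter.style.haveILetI false
set_option linter.unusedSectionVars false

namespace CfsgLib.M12Nse

open Subgroup CfsgLib.M11Nse CfsgLib.SmallSimple

variable {G : Type*} [Group G] [Finite G]

/-- Inversion modulo the fixed points. -/
theorem inverted_mod {T : Subgroup G} {w x : G} (hxT : x ∈ T) (hodd : ∀ t ∈ T, t * t = 1 → t = 1)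
    (hw : w * w = 1) (hn : ∀ t ∈ T, w * t * w⁻¹ ∈ T) (hwx : w * x = x * w) (hxc : ∀ t ∈ T, x * t = t * x)
    (hfix : ∀ t ∈ T, w * t = t * w → t ∈ zpowers x) :
    ∀ t ∈ T, ∃ q ∈ zpowers x, w * t * w⁻¹ = t⁻¹ * q := by
  classical
  haveI := Fintype.ofFinite G
  -- the inverted elements
  let J : G → Prop := fun j => j ∈ T ∧ w * j * w⁻¹ = j⁻¹
  have hwi : w⁻¹ = w := inv_eq_of_mul_eq_one_right hw
  have hqT : ∀ q ∈ zpowers x, q ∈ T := fun q hq => zpowers_le.2 hxT hq
  have hqw : ∀ q ∈ zpowers x, w * q * w⁻¹ = q := by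
    rintro q hq
    obtain ⟨k, rfl⟩ := mem_zpowers_iff.1 hq
    exact mul_inv_eq_iff_eq_mul.2 ((show Commute w x from hwx).zpow_right k).eq
  have hqc : ∀ q ∈ zpowers x, ∀ t ∈ T, q * t = t * q := by
    rintro q hq t ht
    obtain ⟨k, rfl⟩ := mem_zpowers_iff.1 hq
    exact ((show Commute x t from hxc t ht).zpow_left k).eq
  have hconj : ∀ a b : G, w * (a * b) * w⁻¹ = w * a * w⁻¹ * (w * b * w⁻¹) := fun a b => by group
  have hwa : ∀ a : G, w * (w * a) = a := fun a => by rw [← mul_assoc, hw, one_mul]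
  let f : {p : G × G // J p.1 ∧ p.2 ∈ zpowers x} → T := fun p => ⟨p.1.1 * p.1.2, mul_mem p.2.1.1 (hqT _ p.2.2)⟩
  have hf : Function.Injective f := by
    rintro ⟨⟨j, q⟩, ⟨hjT, hj⟩, hq⟩ ⟨⟨j', q'⟩, ⟨hj'T, hj'⟩, hq'⟩ h
    have h1 : j * q = j' * q' := congrArg Subtype.val h
    have h2 : j⁻¹ * q = j'⁻¹ * q' := by
      have := congrArg (fun a => w * a * w⁻¹) h1
      simp only [hconj] at this
      rwa [hj, hj', hqw q hq, hqw q' hq'] at this
    set p := q * q'⁻¹ with hp
    have hp' : p ∈ zpowers x := mul_mem hq (inv_mem hq')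
    have e1 : j' = j * p := by rw [hp, ← mul_assoc, h1, mul_inv_cancel_right]
    have e2 : j'⁻¹ = j⁻¹ * p := by rw [hp, ← mul_assoc, h2, mul_inv_cancel_right]
    have e3 : p * p = 1 := by
      have := mul_inv_cancel j'
      rw [e2, e1] at this
      calc p * p = j⁻¹ * (j * p) * p := by group
        _ = j⁻¹ * (p * j) * p := by rw [hqc p hp' j hjT]
        _ = j⁻¹ * p * (j * p) := by group
        _ = 1 := by rw [← e2, ← e1, inv_mul_cancel]
    have hp1 : p = 1 := hodd p (hqT p hp') e3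
    have hqq : q = q' := mul_inv_eq_one.1 (hp ▸ hp1)
    subst hqq
    simp only [Subtype.mk.injEq, Prod.mk.injEq, and_true]
    exact mul_right_cancel h1
  -- the commutators are inverted
  let g : T → {j : G // J j} := fun t => ⟨(t : G)⁻¹ * (w * t * w⁻¹), mul_mem (inv_mem t.2) (hn t t.2), by
    rw [mul_inv_rev, inv_inv]
    simp [mul_assoc, hwi, hwa, hw]⟩
  have hg : Nat.card T ≤ Nat.card {j : G // J j} * Nat.card (zpowers x) := by
    haveI := Fintype.ofFinite T
    rw [Nat.card_eq_fintype_card, ← Finset.card_univ, mul_comm, Nat.card_eq_fintype_card (α := {j : G // J j}),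
      ← Finset.card_univ (α := {j : G // J j})]
    refine Finset.card_le_mul_card_image_of_maps_to (f := g) (fun _ _ => Finset.mem_univ _) _ fun j _ => ?_
    by_cases he : ∃ t, g t = j
    · obtain ⟨t, rfl⟩ := he
      rw [← Fintype.card_subtype, ← Nat.card_eq_fintype_card]
      refine Nat.card_le_card_of_injective (fun s => (⟨(s.1 : G) * (t : G)⁻¹, hfix _ (mul_mem s.1.2 (inv_mem t.2)) ?_⟩ :
        zpowers x)) fun a b h => ?_
      · have h : (s.1 : G)⁻¹ * (w * s.1 * w⁻¹) = (t : G)⁻¹ * (w * t * w⁻¹) := congrArg Subtype.val s.2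
        refine (mul_inv_eq_iff_eq_mul.1 ?_)
        calc w * ((s.1 : G) * (t : G)⁻¹) * w⁻¹ = (s.1 : G) * ((s.1 : G)⁻¹ * (w * s.1 * w⁻¹)) * (w * t * w⁻¹)⁻¹ := by group
          _ = _ := by rw [h]; group
      · exact Subtype.ext (Subtype.ext (mul_right_cancel (congrArg Subtype.val h :)))
    · push Not at he
      rw [Finset.card_eq_zero.2 (Finset.filter_eq_empty_iff.2 fun p _ => he p)]
      exact Nat.zero_le _
  have hdom : Nat.card {p : G × G // J p.1 ∧ p.2 ∈ zpowers x} = Nat.card {j : G // J j} * Nat.card (zpowers x) := by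
    rw [← Nat.card_prod]
    exact Nat.card_congr
      { toFun := fun p => (⟨p.1.1, p.2.1⟩, ⟨p.1.2, p.2.2⟩)
        invFun := fun p => ⟨(p.1.1, p.2.1), p.1.2, p.2.2⟩
        left_inv := fun _ => rfl
        right_inv := fun _ => rfl }
  have hsurj := ((Nat.bijective_iff_injective_and_card f).2 ⟨hf, le_antisymm
    (Nat.card_le_card_of_injective f hf) (hdom ▸ hg)⟩).2
  intro t ht
  obtain ⟨⟨⟨j, q⟩, ⟨hjT, hj⟩, hq⟩, he⟩ := hsurj ⟨t, ht⟩
  have he' : j * q = t := congrArg Subtype.val he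
  refine ⟨q * q, mul_mem hq hq, ?_⟩
  rw [← he', hconj, hj, hqw q hq]
  calc j⁻¹ * q = q⁻¹ * (q * j⁻¹) * q := by group
    _ = q⁻¹ * (j⁻¹ * q) * q := by rw [hqc q hq j⁻¹ (inv_mem hjT)]
    _ = _ := by group

/-- A four-group cannot fix only a subgroup of order 3 with each involution. -/
theorem four_group {T : Subgroup G} {x z v : G} (hxT : x ∈ T) (hT : IsPGroup 3 T) (hz : z * z = 1) (hv : v * v = 1)
    (hzv : z * v = v * z) (hnz : ∀ t ∈ T, z * t * z⁻¹ ∈ T) (hnv : ∀ t ∈ T, v * t * v⁻¹ ∈ T)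
    (hzx : z * x = x * z) (hvx : v * x = x * v) (hxc : ∀ t ∈ T, x * t = t * x)
    (hfz : ∀ t ∈ T, z * t = t * z → t ∈ zpowers x) (hfv : ∀ t ∈ T, v * t = t * v → t ∈ zpowers x)
    (hfzv : ∀ t ∈ T, z * v * t = t * (z * v) → t ∈ zpowers x) : T ≤ zpowers x := by
  intro t ht
  obtain ⟨s, -, hs⟩ : ∃ s : G, s ∈ T ∧ (∀ a ∈ T, a * a = 1 → a = 1) := ⟨1, one_mem T, fun a ha h => by
    obtain ⟨k, hk⟩ := hT ⟨a, ha⟩
    have h2 : orderOf a ∣ 2 := orderOf_dvd_of_pow_eq_one (by rw [sq]; exact h)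
    have h3 : orderOf a ∣ 3 ^ k := orderOf_dvd_of_pow_eq_one (congrArg Subtype.val hk)
    exact orderOf_eq_one_iff.1 (Nat.eq_one_of_dvd_coprimes (Nat.Coprime.pow_right k (by norm_num)) h2 h3)⟩
  obtain ⟨a, ha, ea⟩ := inverted_mod hxT hs hz hnz hzx hxc hfz t ht
  obtain ⟨b, hb, eb⟩ := inverted_mod hxT hs hv hnv hvx hxc hfv t ht
  obtain ⟨c, hc, ec⟩ := inverted_mod hxT hs (w := z * v)
    (by rw [(show Commute v z from hzv.symm).mul_mul_mul_comm z v, hz, hv, one_mul])
    (fun s hs => by rw [show z * v * s * (z * v)⁻¹ = z * (v * s * v⁻¹) * z⁻¹ by group]; exact hnz _ (hnv s hs))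
    ((show Commute z x from hzx).mul_left hvx).eq hxc hfzv t ht
  have hbz : z * b * z⁻¹ = b := by
    obtain ⟨k, rfl⟩ := mem_zpowers_iff.1 hb
    exact mul_inv_eq_iff_eq_mul.2 ((show Commute z x from hzx).zpow_right k).eq
  have e : z * v * t * (z * v)⁻¹ = a⁻¹ * t * b := by
    calc z * v * t * (z * v)⁻¹ = z * (v * t * v⁻¹) * z⁻¹ := by group
      _ = (z * t * z⁻¹)⁻¹ * (z * b * z⁻¹) := by rw [eb]; group
      _ = _ := by rw [ea, hbz]; group
  rw [ec] at e
  have hcomm : a⁻¹ * t = t * a⁻¹ := by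
    obtain ⟨k, rfl⟩ := mem_zpowers_iff.1 ha
    exact (((show Commute x t from hxc t ht).zpow_left k).inv_left).eq
  have h2 : t * t ∈ zpowers x := by
    have : t * t = c * b⁻¹ * a := by
      have h1 : c = t * (t * a⁻¹ * b) := by rw [← hcomm, ← e, mul_inv_cancel_left]
      rw [h1]; group
    rw [this]
    exact mul_mem (mul_mem hc (inv_mem hb)) ha
  obtain ⟨k, hk⟩ := hT ⟨t, ht⟩
  have hk' : t ^ 3 ^ k = 1 := congrArg Subtype.val hk
  obtain ⟨m, hm⟩ : Odd (3 ^ k) := Odd.pow (by decide)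
  have : t = (t * t) ^ (m + 1) := by
    rw [← sq, ← pow_mul, show 2 * (m + 1) = 3 ^ k + 1 by omega, pow_succ, hk', one_mul]
  rw [this]
  exact pow_mem h2 _

namespace Counts

variable (H : Counts G)
include H

theorem no_normal_two {z : G} (hz : orderOf z = 2) (hC : Nat.card (cz z) = 192) (S : Subgroup (cz z)) [S.Normal]
    (hS : Nat.card S = 64) : False := by
  classical
  haveI : Fact (Nat.Prime 2) := ⟨Nat.prime_two⟩
  haveI : Fact (Nat.Prime 3) := ⟨Nat.prime_three⟩
  obtain ⟨P⟩ : Nonempty (Sylow 3 (cz z)) := inferInstance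
  obtain ⟨hP3, -, hN⟩ := H.sylow_three_192 hz hC P
  set N := normalizer ((P : Subgroup (cz z)) : Set (cz z)) with hNdef
  obtain ⟨x₀, hx₀⟩ := exists_prime_orderOf_dvd_card' (G := (P : Subgroup (cz z))) 3 (by rw [hP3])
  rw [← Subgroup.orderOf_coe] at hx₀
  have hPx : zpowers (x₀ : cz z) = (P : Subgroup (cz z)) :=
    eq_of_le_of_card_ge (zpowers_le.2 x₀.2) (by rw [Nat.card_zpowers, hx₀, hP3])
  set x : G := ((x₀ : cz z) : G) with hxdef
  have hx : orderOf x = 3 := by rw [hxdef, Subgroup.orderOf_coe]; exact hx₀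
  have hxz : x * z = z * x := mem_cz.1 (x₀ : cz z).2
  set zC : cz z := ⟨z, self_mem_cz z⟩ with hzC
  have hzc : ∀ g : cz z, g * zC = zC * g := fun g => Subtype.ext (mem_cz.1 g.2)
  have hzo : orderOf zC = 2 := by rw [← Subgroup.orderOf_coe]; exact hz
  obtain ⟨R⟩ : Nonempty (Sylow 2 N) := inferInstance
  have hR4 : Nat.card (R : Subgroup N) = 4 := by
    rw [card_sylow_eq R (k := 2) (m := 3) (by rw [hN]; norm_num) (by norm_num)]; norm_num
  set R' := (R : Subgroup N).map N.subtype with hR'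
  have hR'c : Nat.card R' = 4 := by rw [hR', card_map_of_injective N.subtype_injective, hR4]
  have hR'2 : IsPGroup 2 R' := R.2.map _
  have hzN : zC ∈ N := centralizer_le_normalizer _ (mem_centralizer_iff.2 fun g _ => hzc g)
  have hzR : zC ∈ R' := by
    have hp : IsPGroup 2 ((R : Subgroup N) ⊔ zpowers (⟨zC, hzN⟩ : N) : Subgroup N) :=
      R.2.to_sup_of_normal_left' (IsPGroup.of_card (n := 1) (by
        rw [Nat.card_zpowers, ← Subgroup.orderOf_coe, hzo, pow_one]))
        (zpowers_le.2 (centralizer_le_normalizer _ (mem_centralizer_iff.2 fun g _ => Subtype.ext (hzc g.1))))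
    exact ⟨_, (R.3 hp le_sup_left) ▸ mem_sup_right (mem_zpowers (⟨zC, hzN⟩ : N)), rfl⟩
  -- the 2-part of the normalizer centralizes
  have hSmem : ∀ g : cz z, g ∈ R' → g ∈ S := by
    intro g hg
    obtain ⟨k, hk⟩ := hR'2 ⟨g, hg⟩
    have h1 : orderOf (QuotientGroup.mk' S g) ∣ 2 ^ k :=
      (orderOf_map_dvd _ _).trans (orderOf_dvd_of_pow_eq_one (congrArg Subtype.val hk))
    have h2 : orderOf (QuotientGroup.mk' S g) ∣ 3 := by
      refine (_root_.orderOf_dvd_natCard _).trans (dvd_of_eq ?_)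
      have := S.card_mul_index
      rw [index_eq_card, hS, hC] at this
      omega
    have h3 := Nat.eq_one_of_dvd_coprimes (Nat.Coprime.pow_left k (by norm_num)) h1 h2
    rwa [orderOf_eq_one_iff, ← MonoidHom.mem_ker, QuotientGroup.ker_mk'] at h3
  have hRx : ∀ g : cz z, g ∈ R' → (g : G) * x = x * g := by
    intro g hg
    obtain ⟨g', -, rfl⟩ := (id hg : g ∈ (R : Subgroup N).map N.subtype)
    set c := (N.subtype g') * (x₀ : cz z) * (N.subtype g')⁻¹ * (x₀ : cz z)⁻¹ with hc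
    have hcP : c ∈ (P : Subgroup (cz z)) :=
      mul_mem ((mem_normalizer_iff.1 g'.2 _).1 x₀.2) (inv_mem x₀.2)
    have hcS : c ∈ S := by
      rw [hc, mul_assoc, mul_assoc]
      exact mul_mem (hSmem _ hg) (by
        rw [← mul_assoc]
        exact (inferInstance : S.Normal).conj_mem _ (inv_mem (hSmem _ hg)) _)
    have h3 := Nat.eq_one_of_dvd_coprimes (show Nat.Coprime 3 64 by norm_num)
      (hP3 ▸ Subgroup.orderOf_dvd_natCard _ hcP) (hS ▸ Subgroup.orderOf_dvd_natCard _ hcS)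
    rw [orderOf_eq_one_iff, hc, mul_inv_eq_one, mul_inv_eq_iff_eq_mul] at h3
    exact congrArg Subtype.val h3
  set V := R'.map (cz z).subtype with hV
  have hVc : Nat.card V = 4 := by rw [hV, card_map_of_injective (cz z).subtype_injective, hR'c]
  have hV2 : IsPGroup 2 V := hR'2.map _
  have hVz : V ≤ cz z := map_subtype_le _
  have hVx : V ≤ cz x := by
    rintro _ ⟨g, hg, rfl⟩
    exact mem_cz.2 (hRx g hg)
  have hzV : z ∈ V := ⟨zC, hzR, rfl⟩
  have hsq : ∀ W : Subgroup G, IsPGroup 2 W → W ≤ cz x → ∀ g ∈ W, g * g = 1 := fun W hW hWx g hg => by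
    obtain ⟨k, hk⟩ := hW ⟨g, hg⟩
    exact H.sq_one_of_three hx (mem_cz.1 (hWx hg)) (k := k) (congrArg Subtype.val hk)
  obtain ⟨v, hvV, hv1, hvz⟩ : ∃ v ∈ V, v ≠ 1 ∧ v ≠ z := by
    by_contra hcon
    push Not at hcon
    have hle := Nat.card_le_card_of_injective (fun g : V => if (g : G) = 1 then (0 : Fin 2) else 1) (by
      intro a b hab
      by_cases ha : (a : G) = 1 <;> by_cases hb : (b : G) = 1 <;> simp [ha, hb] at hab
      · exact Subtype.ext (ha.trans hb.symm)
      · exact Subtype.ext ((hcon a a.2 ha).trans (hcon b b.2 hb).symm))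
    rw [hVc, Nat.card_fin] at hle
    omega
  have hz2 : z * z = 1 := hsq V hV2 hVx z hzV
  have hv2 : v * v = 1 := hsq V hV2 hVx v hvV
  have hzv : z * v = v * z := comm_of_sq (hsq V hV2 hVx) hzV hvV
  have hzvV : z * v ∈ V := mul_mem hzV hvV
  have hzv1 : z * v ≠ 1 := fun e => hvz (mul_left_cancel (e.trans hz2.symm))
  have hord : ∀ w ∈ V, w ≠ 1 → orderOf w = 2 := fun w hw h1 => orderOf_eq_prime (by rw [sq]; exact hsq V hV2 hVx w hw) h1
  -- the order of the centralizer of `x`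
  have hmaxV : ∀ W : Subgroup G, IsPGroup 2 W → V ≤ W → W ≤ cz x → Nat.card W ≤ 4 := by
    intro W hW hVW hWx
    have hWz : W ≤ cz z := fun g hg => mem_cz.2 (comm_of_sq (hsq W hW hWx) hg (hVW hzV))
    have hWN : W.subgroupOf (cz z) ≤ N := fun g hg => centralizer_le_normalizer _ (mem_centralizer_iff.2 fun p hp => by
      rw [← hPx] at hp
      obtain ⟨i, rfl⟩ := mem_zpowers_iff.1 hp
      exact Subtype.ext ((show Commute x (g : G) from (mem_cz.1 (hWx hg)).symm).zpow_left i).eq)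
    have hd := card_dvd_of_le hWN
    rw [Nat.card_congr (subgroupOfEquivOfLe hWz).toEquiv, hN] at hd
    obtain ⟨i, hi6, hi⟩ := two_pow_card (H.card_two_group hW)
    rw [hi] at hd ⊢
    interval_cases i <;> norm_num at hd <;> norm_num
  obtain ⟨b, hb1, hb3, hcard⟩ : ∃ b, 1 ≤ b ∧ b ≤ 3 ∧ Nat.card (cz x) = 4 * 3 ^ b := by
    have h3 : 3 ∣ Nat.card (cz x) := hx ▸ Subgroup.orderOf_dvd_natCard _ (self_mem_cz x)
    obtain ⟨h5, h11⟩ := H.not_five_eleven_three hx
    obtain ⟨d2, d3, hd2, hd3, he⟩ := exists_dvd_and_dvd_of_dvd_mul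
      (show Nat.card (cz x) ∣ 2 ^ 6 * 3 ^ 3 from (H.card_eq_two_three h5 h11).trans (by norm_num))
    obtain ⟨i, hi, rfl⟩ := (Nat.dvd_prime_pow Nat.prime_two).1 hd2
    obtain ⟨j, hj, rfl⟩ := (Nat.dvd_prime_pow Nat.prime_three).1 hd3
    obtain ⟨W, hW⟩ := hV2.to_le le_rfl |>.exists_le_sylow
    obtain ⟨W', hW'⟩ := ((hV2.comap_of_injective (cz x).subtype Subtype.val_injective)).exists_le_sylow
    have hW'c : Nat.card (W' : Subgroup (cz x)) = 2 ^ i :=
      card_sylow_eq W' (k := i) (m := 3 ^ j) he (fun h => by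
        have := Nat.Prime.dvd_of_dvd_pow Nat.prime_two h
        norm_num at this)
    have hle : Nat.card ((W' : Subgroup (cz x)).map (cz x).subtype : Subgroup G) ≤ 4 :=
      hmaxV _ (W'.2.map _) (fun g hg => ⟨⟨g, hVx hg⟩, hW' hg, rfl⟩) (map_subtype_le _)
    rw [card_map_of_injective (cz x).subtype_injective, hW'c] at hle
    have h4 : 4 ∣ 2 ^ i * 3 ^ j := he ▸ hVc ▸ card_dvd_of_le hVx
    have hi2 : i = 2 := by
      have : i ≤ 2 := by
        by_contra hc
        have := Nat.pow_le_pow_right two_pos (show 3 ≤ i by omega)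
        omega
      interval_cases i <;> interval_cases j <;> first | rfl | (norm_num at h4; done)
    subst hi2
    refine ⟨j, Nat.one_le_iff_ne_zero.2 fun h0 => ?_, hj, he⟩
    rw [he, h0] at h3
    norm_num at h3
  have hb2 : b ≠ 1 := fun h1 => by
    have hm := (cz x).card_mul_index
    rw [hcard, h1, H.card] at hm
    have hle : (cz x).index ≤ cnt G 3 := by
      rw [← card_conj]
      exact Nat.card_le_card_of_injective (fun w => (⟨w.1, (orderOf_eq_of_isConj w.2).trans hx⟩ :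
        {g : G // orderOf g = 3})) fun a b h => Subtype.ext (congrArg Subtype.val h :)
    rw [H.three_count] at hle
    omega
  -- normal 3-subgroups of `cz x`
  have hbad : ∀ T : Subgroup (cz x), T.Normal → IsPGroup 3 T → (⟨x, self_mem_cz x⟩ : cz x) ∈ T → Nat.card T ≤ 3 := by
    intro T hTn hT3 hxT
    set T' := T.map (cz x).subtype with hT'
    have hnorm : ∀ w ∈ V, ∀ t ∈ T', w * t * w⁻¹ ∈ T' := by
      rintro w hw _ ⟨t, ht, rfl⟩
      exact ⟨⟨w, hVx hw⟩ * t * ⟨w, hVx hw⟩⁻¹, hTn.conj_mem t ht _, rfl⟩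
    have hT'x : x ∈ T' := ⟨_, hxT, rfl⟩
    have hTp : IsPGroup 3 T' := hT3.map _
    have hfix : ∀ w ∈ V, w ≠ 1 → ∀ t ∈ T', w * t = t * w → t ∈ zpowers x := by
      intro w hw hw1 t ht hwt
      have hxF : zpowers x ≤ T' ⊓ cz w := zpowers_le.2 ⟨hT'x, mem_cz.2 (mem_cz.1 (hVx hw)).symm⟩
      obtain ⟨i, hi⟩ := IsPGroup.iff_card.1 (hTp.to_le (inf_le_left : T' ⊓ cz w ≤ T'))
      have hi1 : i ≤ 1 := by
        by_contra hcon
        exact H.no_nine (hord w hw hw1) ((hi ▸ pow_dvd_pow 3 (show 2 ≤ i by omega) :).trans (card_dvd_of_le inf_le_right))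
      rw [eq_of_le_of_card_ge hxF (by rw [hi, Nat.card_zpowers, hx]; exact (Nat.pow_le_pow_right (by norm_num) hi1).trans (by norm_num))]
      exact ⟨ht, mem_cz.2 hwt.symm⟩
    have hxc : ∀ t ∈ T', x * t = t * x := fun t ht => (mem_cz.1 (map_subtype_le T ht)).symm
    have hle := four_group hT'x hTp hz2 hv2 hzv (hnorm z hzV) (hnorm v hvV) (mem_cz.1 (hVx hzV))
      (mem_cz.1 (hVx hvV)) hxc (hfix z hzV fun e => by rw [e, orderOf_one] at hz; norm_num at hz)
      (hfix v hvV hv1) (hfix _ hzvV hzv1)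
    have := Nat.le_of_dvd Nat.card_pos (card_dvd_of_le hle)
    rwa [hT', card_map_of_injective (cz x).subtype_injective, Nat.card_zpowers, hx] at this
  obtain ⟨Q⟩ : Nonempty (Sylow 3 (cz x)) := inferInstance
  have hQc : Nat.card (Q : Subgroup (cz x)) = 3 ^ b :=
    card_sylow_eq Q (k := b) (m := 4) (by rw [hcard, mul_comm]) (by norm_num)
  set xC : cz x := ⟨x, self_mem_cz x⟩ with hxC
  have hxQ : ∀ Q : Sylow 3 (cz x), xC ∈ (Q : Subgroup (cz x)) := fun Q => by
    have hp : IsPGroup 3 ((Q : Subgroup (cz x)) ⊔ zpowers xC : Subgroup (cz x)) :=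
      Q.2.to_sup_of_normal_left' (IsPGroup.of_card (n := 1) (by rw [Nat.card_zpowers, ← Subgroup.orderOf_coe, pow_one]; exact hx))
        (zpowers_le.2 (centralizer_le_normalizer _ (mem_centralizer_iff.2 fun g _ => Subtype.ext (mem_cz.1 g.2))))
    exact (Q.3 hp le_sup_left) ▸ mem_sup_right (mem_zpowers xC)
  have hQidx : (Q : Subgroup (cz x)).index = 4 := by
    have := (Q : Subgroup (cz x)).card_mul_index
    rw [hQc, hcard, mul_comm 4] at this
    exact Nat.eq_of_mul_eq_mul_left (by positivity) this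
  rcases (show b = 2 ∨ b = 3 by omega) with rfl | rfl
  swap
  · -- order 108
    set T := (Q : Subgroup (cz x)).normalCore with hT
    have hxT : xC ∈ T := fun g => by
      rw [show g * xC * g⁻¹ = xC from mul_inv_eq_iff_eq_mul.2 (Subtype.ext (mem_cz.1 g.2))]
      exact hxQ Q
    have hle := hbad T (normalCore_normal _) (Q.2.to_le (normalCore_le _)) hxT
    have hidx : T.index ∣ Nat.factorial 4 := by
      rw [← hQidx, hT, normalCore_eq_ker, index_ker, index_eq_card, ← Nat.card_perm]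
      exact card_subgroup_dvd_card _
    have hle2 := Nat.le_of_dvd (Nat.factorial_pos 4) hidx
    have := T.card_mul_index
    rw [hcard] at this
    have := Nat.mul_le_mul hle (show T.index ≤ 24 from hle2.trans (by decide))
    omega
  -- order 36
  have hn : Nat.card (Sylow 3 (cz x)) = 1 ∨ Nat.card (Sylow 3 (cz x)) = 4 := by
    have hd : Nat.card (Sylow 3 (cz x)) ∣ 2 ^ 2 := by rw [show (2 : ℕ) ^ 2 = 4 from rfl, ← hQidx]; exact Q.card_dvd_index
    have hm : Nat.card (Sylow 3 (cz x)) % 3 = 1 := card_sylow_modEq_one 3 _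
    obtain ⟨i, hi, he⟩ := (Nat.dvd_prime_pow Nat.prime_two).1 hd
    rw [he] at hm ⊢
    interval_cases i <;> omega
  rcases hn with hn | hn
  · haveI := (Nat.card_eq_one_iff_unique.1 hn).1
    have := hbad _ (Sylow.normal_of_subsingleton Q) Q.2 (hxQ Q)
    rw [hQc] at this
    omega
  set NQ := normalizer ((Q : Subgroup (cz x)) : Set (cz x)) with hNQ
  have hNQc : Nat.card NQ ≤ 9 := by
    have : 4 * Nat.card NQ = 4 * 3 ^ 2 := by rw [← hcard, ← hn]; exact CfsgLib.SmallSimple.card_sylow_mul Q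
    omega
  haveI := IsPGroup.isMulCommutative_of_card_eq_prime_sq (p := 3) (G := (Q : Subgroup (cz x))) (by rw [hQc])
  have hNC : NQ ≤ centralizer ((Q : Subgroup (cz x)) : Set (cz x)) := by
    intro g hg
    have e : (Q : Subgroup (cz x)) = NQ := eq_of_le_of_card_ge le_normalizer (by rw [hQc]; exact hNQc)
    exact le_centralizer _ (e.symm ▸ hg)
  have hK := MonoidHom.ker_transferSylow_isComplement' Q hNC
  set K := (MonoidHom.transferSylow Q hNC).ker with hKdef
  have hKc : Nat.card K = 4 := by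
    have h' := hK.card_mul_card
    rw [hQc, hcard] at h'
    omega
  have h3in : nIn z x ≤ 3 := by
    haveI := Fintype.ofFinite K
    refine (Nat.card_le_card_of_injective (fun y : {y : G // IsConj z y ∧ y * x = x * y} => (⟨⟨⟨y.1, mem_cz.2 y.2.2⟩, ?_⟩, ?_⟩ : {k : K // k ≠ 1}))
      fun a b h => Subtype.ext (congrArg (fun k : {k : K // k ≠ 1} => ((k.1 : cz x) : G)) h :)).trans ?_
    · rw [hKdef, MonoidHom.mem_ker, ← orderOf_eq_one_iff]
      have h2 : orderOf (⟨y.1, mem_cz.2 y.2.2⟩ : cz x) = 2 := by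
        rw [← Subgroup.orderOf_coe]; exact (orderOf_eq_of_isConj y.2.1).trans hz
      exact Nat.eq_one_of_dvd_coprimes (show Nat.Coprime 2 (3 ^ 2) by norm_num) (h2 ▸ orderOf_map_dvd _ _)
        (hQc ▸ _root_.orderOf_dvd_natCard _)
    · intro e
      have h1 : y.1 = 1 := congrArg (fun k : K => ((k : cz x) : G)) e
      have := (orderOf_eq_of_isConj y.2.1).trans hz
      rw [h1, orderOf_one] at this; norm_num at this
    · rw [Nat.card_eq_fintype_card, Fintype.card_subtype_compl, Fintype.card_subtype_eq, ← Nat.card_eq_fintype_card, hKc]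
  -- every element of order 3 commutes with at most three conjugates of `z`
  have hall : ∀ g : G, orderOf g = 3 → nIn z g ≤ 3 := by
    intro g hg
    by_cases h0 : ∃ y, IsConj z y ∧ y * g = g * y
    swap
    · rw [show nIn z g = 0 from Nat.card_eq_zero.2 (Or.inl ⟨fun y => h0 ⟨y.1, y.2⟩⟩)]
      exact Nat.zero_le _
    obtain ⟨y, hy, hyg⟩ := h0
    obtain ⟨c, rfl⟩ := isConj_iff.1 hy
    set g' := c⁻¹ * g * c with hg'
    have hg'g : IsConj g g' := isConj_iff.2 ⟨c⁻¹, by rw [inv_inv]⟩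
    have hg'z : g' * z = z * g' := by
      have := congrArg (fun a => c⁻¹ * a * c) hyg
      simp only [hg']
      simpa [mul_assoc] using this.symm
    have hg'3 : orderOf g' = 3 := (orderOf_eq_of_isConj hg'g).trans hg
    rw [← nIn_conj z hg'g]
    obtain ⟨P', hP'⟩ := (IsPGroup.of_card (p := 3) (n := 1) (by
      rw [Nat.card_zpowers, ← Subgroup.orderOf_coe, pow_one]; exact hg'3) :
      IsPGroup 3 (zpowers (⟨g', mem_cz.2 hg'z⟩ : cz z))).exists_le_sylow
    obtain ⟨d, hd⟩ := MulAction.exists_smul_eq (cz z) P P'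
    obtain ⟨p, hp, he⟩ := (hd ▸ hP' (mem_zpowers _) :)
    rw [SetLike.mem_coe, ← hPx] at hp
    obtain ⟨i, rfl⟩ := mem_zpowers_iff.1 hp
    have he' : (d : G) * x ^ i * (d : G)⁻¹ = g' := by
      have := congrArg Subtype.val he
      simpa [hxdef] using this
    rw [nIn_conj z (show IsConj (x ^ i) g' from isConj_iff.2 ⟨d, he'⟩)]
    refine le_trans (Nat.card_le_card_of_injective (fun y => (⟨y.1, y.2.1, ?_⟩ :
      {y : G // IsConj z y ∧ y * x = x * y})) fun a b h => Subtype.ext (congrArg Subtype.val h :)) h3in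
    have hgen : zpowers (x ^ i) = zpowers x := eq_of_le_of_card_ge (zpowers_le.2 (zpow_mem (mem_zpowers x) i)) (by
      rw [Nat.card_zpowers, Nat.card_zpowers, hx, ← orderOf_eq_of_isConj (isConj_iff.2 ⟨d, he'⟩ : IsConj (x ^ i) g'), hg'3])
    obtain ⟨j, hj⟩ := mem_zpowers_iff.1 (hgen.symm ▸ mem_zpowers x : x ∈ zpowers (x ^ i))
    have hc := ((show Commute y.1 (x ^ i) from y.2.2).zpow_right j).eq
    rwa [hj] at hc
  haveI := Fintype.ofFinite {g : G // orderOf g = 3}
  have hpairs : (cz z).index * f3 z ≤ 4400 * 3 := by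
    rw [← card_conj, ← card_pairs (IsConj z) (fun w g => orderOf g = 3 ∧ Commute w g) fun w hw => f3_conj hw,
      show Nat.card {p : G × G // IsConj z p.1 ∧ orderOf p.2 = 3 ∧ Commute p.1 p.2} =
        Nat.card (Σ g : {g : G // orderOf g = 3}, {y : G // IsConj z y ∧ y * g.1 = g.1 * y}) from
      Nat.card_congr
        { toFun := fun p => ⟨⟨p.1.2, p.2.2.1⟩, ⟨p.1.1, p.2.1, p.2.2.2⟩⟩
          invFun := fun s => ⟨(s.2.1, s.1.1), s.2.2.1, s.1.2, s.2.2.2⟩
          left_inv := fun _ => rfl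
          right_inv := fun _ => rfl }, Nat.card_sigma]
    refine (Finset.sum_le_card_nsmul _ _ 3 fun g _ => hall g.1 g.2).trans ?_
    rw [Finset.card_univ, ← Nat.card_eq_fintype_card, smul_eq_mul,
      show Nat.card {g : G // orderOf g = 3} = 4400 from H.three_count]
  rw [H.index_192 hC, H.f3_z hz hC] at hpairs
  omega

end Counts

end CfsgLib.M12Nse
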