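import Mathlib.GroupTheory.FixedPointFree
import Mathlib.GroupTheory.PGroup
import Mathlib.GroupTheory.Perm.Cycle.Type

/-!
# A fixed-point-free automorphism of order 3 of a group of order 16
-/

set_option autoImplicit false
set_option linter.style.haveILetI false
set_option linter.unusedSectionVars false

namespace CfsgLib.M12Nse

open Subgroup

variable {P : Type*} [Group P] [Finite P]

/-- Invariant subgroups under a fixed-point-free automorphism of order 3. -/
theorem card_mod_three (φ : P →* P) (h3 : ∀ a, φ (φ (φ a)) = a) (hfix : ∀ a, φ a = a → a = 1) (K : Subgroup P)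
    (hK : ∀ k ∈ K, φ k ∈ K) : Nat.card K % 3 = 1 := by
  classical
  haveI : Fact (Nat.Prime 3) := ⟨Nat.prime_three⟩
  haveI := Fintype.ofFinite K
  let σ : Equiv.Perm K :=
    { toFun := fun k => ⟨φ k, hK k k.2⟩
      invFun := fun k => ⟨φ (φ k), hK _ (hK k k.2)⟩
      left_inv := fun k => Subtype.ext (h3 k)
      right_inv := fun k => Subtype.ext (h3 k) }
  have hσ : σ ^ 3 ^ 1 = 1 := by
    ext k
    exact h3 k
  have h := Equiv.Perm.card_compl_support_modEq hσ
  have hc : σ.supportᶜ = {1} := by
    ext k
    rw [Finset.mem_compl, Equiv.Perm.mem_support, not_not, Finset.mem_singleton]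
    exact ⟨fun e => Subtype.ext (hfix k (congrArg Subtype.val e)),
      fun e => Subtype.ext (show φ k = k by rw [e, OneMemClass.coe_one, map_one])⟩
  rw [hc, Finset.card_singleton, ← Nat.card_eq_fintype_card] at h
  exact h.symm

/-- Such a group of order 16 is abelian. -/
theorem sixteen_comm (hP : Nat.card P = 16) (φ : P →* P) (h3 : ∀ a, φ (φ (φ a)) = a)
    (hfix : ∀ a, φ a = a → a = 1) (a b : P) : a * b = b * a := by
  classical
  haveI : Fact (Nat.Prime 2) := ⟨Nat.prime_two⟩
  have hPp : IsPGroup 2 P := IsPGroup.of_card (n := 4) (by rw [hP]; norm_num)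
  haveI : Nontrivial P := Finite.one_lt_card_iff_nontrivial.1 (by rw [hP]; norm_num)
  have hsur : ∀ b, ∃ c, φ c = b := fun b => ⟨φ (φ b), h3 b⟩
  have hZinv : ∀ c ∈ center P, φ c ∈ center P := fun c hc => mem_center_iff.2 fun g => by
    obtain ⟨g', rfl⟩ := hsur g
    rw [← map_mul, mem_center_iff.1 hc g', map_mul]
  have hZ1 : 1 < Nat.card (center P) := by
    haveI := hPp.center_nontrivial
    exact Finite.one_lt_card
  obtain ⟨i, hi4, hi⟩ := (Nat.dvd_prime_pow Nat.prime_two).1
    (show Nat.card (center P) ∣ 2 ^ 4 by rw [show (2 : ℕ) ^ 4 = Nat.card P by rw [hP]; norm_num]; exact card_subgroup_dvd_card _)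
  have hm := card_mod_three φ h3 hfix _ hZinv
  by_cases hi4' : i = 4
  · have htop : center P = ⊤ := eq_top_of_card_eq _ (by rw [hi, hi4', hP]; norm_num)
    exact (mem_center_iff.1 (htop ▸ mem_top a : a ∈ center P) b).symm
  exfalso
  have hi2 : Nat.card (center P) = 4 := by
    rw [hi] at hm hZ1 ⊢
    interval_cases i <;> omega
  obtain ⟨c, hc⟩ : ∃ c, c ∉ center P := by
    by_contra hcon
    push Not at hcon
    rw [show center P = ⊤ from eq_top_iff.2 fun g _ => hcon g, card_top, hP] at hi2
    norm_num at hi2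
  -- an element commutes with its image
  have hcc : c * φ c = φ c * c := by
    have hn : (⇑φ)^[3] = _root_.id := funext fun g => h3 g
    let ψ : P →* P := φ.comp φ
    have hψ : (⇑ψ)^[3] = _root_.id := funext fun g => by
      show φ (φ (φ (φ (φ (φ g))))) = g
      rw [h3, h3]
    have hψfix : MonoidHom.FixedPointFree ⇑ψ := fun g hg => hfix g (by
      have h1 : φ (φ g) = g := hg
      have h2 := h3 g
      rwa [h1] at h2)
    have e1 := MonoidHom.FixedPointFree.prod_pow_eq_one (φ := φ) hfix hn c
    have e2 := MonoidHom.FixedPointFree.prod_pow_eq_one (φ := ψ) hψfix hψ c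
    simp [List.range_succ, ψ, h3] at e1 e2
    have e : φ c * φ (φ c) = φ (φ c) * φ c := by
      apply mul_left_cancel (a := c)
      rw [e1, e2]
    have := congrArg (fun t => φ (φ t)) e
    simpa [h3] using this
  set C := centralizer ({c} : Set P) with hCdef
  have hlt : ∀ g, g ∉ center P → Nat.card (centralizer ({g} : Set P)) ≤ 8 := by
    intro g hg
    obtain ⟨j, hj4, hj⟩ := (Nat.dvd_prime_pow Nat.prime_two).1
      (show Nat.card (centralizer ({g} : Set P)) ∣ 2 ^ 4 by
        rw [show (2 : ℕ) ^ 4 = Nat.card P by rw [hP]; norm_num]; exact card_subgroup_dvd_card _)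
    have : j ≠ 4 := fun e => hg (mem_center_iff.2 fun b => by
      have hb : b ∈ centralizer ({g} : Set P) := by
        rw [eq_top_of_card_eq _ (by rw [hj, e, hP]; norm_num : Nat.card (centralizer ({g} : Set P)) = Nat.card P)]
        exact mem_top b
      exact mem_centralizer_singleton_iff.1 hb)
    rw [hj]
    calc 2 ^ j ≤ 2 ^ 3 := Nat.pow_le_pow_right two_pos (by omega)
      _ = 8 := by norm_num
  set K := center P ⊔ zpowers c with hKdef
  have hKC : K ≤ C := sup_le (fun g hg => mem_centralizer_singleton_iff.2 (mem_center_iff.1 hg c).symm)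
    (zpowers_le.2 (mem_centralizer_singleton_iff.2 rfl))
  have hK8 : 8 ≤ Nat.card K := by
    obtain ⟨k, hk⟩ := card_dvd_of_le (show center P ≤ K from le_sup_left)
    have hne : center P ≠ K := fun h => hc (h ▸ mem_sup_right (mem_zpowers c))
    have hk0 : k ≠ 0 := fun h => (Nat.card_pos (α := K)).ne' (by rw [hk, h, mul_zero])
    have hk1 : k ≠ 1 := fun h => hne (eq_of_le_of_card_ge le_sup_left (by rw [hk, h, mul_one]))
    rw [hk, hi2]
    omega
  have hCK : K = C := eq_of_le_of_card_ge hKC ((hlt c hc).trans hK8)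
  have hφc : φ c ∉ center P := fun h => hc (by
    have := hZinv _ (hZinv _ h)
    rwa [h3] at this)
  have hCle : C ≤ centralizer ({φ c} : Set P) := by
    rw [← hCK]
    exact sup_le (fun g hg => mem_centralizer_singleton_iff.2 (mem_center_iff.1 hg (φ c)).symm)
      (zpowers_le.2 (mem_centralizer_singleton_iff.2 hcc))
  have hC8 : Nat.card C = 8 := le_antisymm (hlt c hc) (hCK ▸ hK8)
  have heq : C = centralizer ({φ c} : Set P) := eq_of_le_of_card_ge hCle ((hlt _ hφc).trans hC8.ge)
  have := card_mod_three φ h3 hfix C fun k hk => by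
    rw [heq]
    have h1 := mem_centralizer_singleton_iff.1 hk
    exact mem_centralizer_singleton_iff.2 (by rw [← map_mul, h1, map_mul])
  rw [hC8] at this
  norm_num at this

end CfsgLib.M12Nse
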