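import Cfsg.Agent.M12Nse.NineNormal
import Cfsg.Agent.M12Nse.Sixteen
import Cfsg.Agent.Monster.ExtraBasics

/-!
# The kernel of the action on the three Sylow 2-subgroups
-/

set_option autoImplicit false
set_option linter.style.haveILetI false
set_option linter.unusedSectionVars false

namespace CfsgLib.M12Nse

open Subgroup CfsgLib.M11Nse CfsgLib.SmallSimple

variable {G : Type*} [Group G] [Finite G]

theorem perm_three_normal : ∀ g t : Equiv.Perm (Fin 3), g ≠ 1 → t ^ 3 = 1 →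
    t = 1 ∨ t = g ∨ t = g⁻¹ ∨ (∃ h, t = h * g * h⁻¹ * g⁻¹) := by decide +kernel

theorem perm_three_trivial : ∀ g : Equiv.Perm (Fin 3), (∀ h, g * h = h * g) → g = 1 := by decide +kernel

/-- The action of the centralizer on three points. -/
structure Nine (z : G) where
  θ : cz z →* Equiv.Perm (Fin 3)
  surj : Function.Surjective θ
  kerCard : Nat.card θ.ker = 32
  sylow : Sylow 3 (cz z)
  x : cz z
  hx : orderOf x = 3
  gen : zpowers x = (sylow : Subgroup (cz z))
  zker : (⟨z, self_mem_cz z⟩ : cz z) ∈ θ.ker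
  fix : ∀ q : cz z, q ∈ θ.ker → q * x = x * q → (q : G) ∈ zpowers z

/-- The kernel, as a subgroup of the group. -/
def Nine.Q {z : G} (D : Nine z) : Subgroup G := D.θ.ker.map (cz z).subtype

namespace Nine

variable {z : G} (D : Nine z)

theorem card_Q : Nat.card D.Q = 32 := by
  rw [Q, card_map_of_injective (cz z).subtype_injective, D.kerCard]

theorem Q_le : D.Q ≤ cz z := map_subtype_le _

theorem zQ : z ∈ D.Q := ⟨_, D.zker, rfl⟩

theorem Q_normal {c q : G} (hc : c ∈ cz z) (hq : q ∈ D.Q) : c * q * c⁻¹ ∈ D.Q := by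
  obtain ⟨q', hq', rfl⟩ := hq
  exact ⟨⟨c, hc⟩ * q' * ⟨c, hc⟩⁻¹, (inferInstance : D.θ.ker.Normal).conj_mem _ hq' _, rfl⟩

theorem Q_iff {c g : G} (hc : c ∈ cz z) : g ∈ D.Q ↔ c * g * c⁻¹ ∈ D.Q :=
  ⟨fun h => D.Q_normal hc h, fun h => by simpa [mul_assoc] using D.Q_normal (inv_mem hc) h⟩

theorem x_mem : (D.x : G) ∈ cz z := D.x.2

theorem x_cubed : (D.x : G) ^ 3 = 1 := by
  rw [← D.hx, ← Subgroup.orderOf_coe, pow_orderOf_eq_one]

theorem fixQ {q : G} (hq : q ∈ D.Q) (h : q * (D.x : G) = D.x * q) : q ∈ zpowers z := by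
  obtain ⟨q', hq', rfl⟩ := hq
  exact D.fix q' hq' (Subtype.ext h)

theorem theta_x : D.θ D.x ≠ 1 := by
  intro h
  have h1 := D.fix D.x (MonoidHom.mem_ker.2 h) rfl
  have h2 : orderOf (D.x : G) ∣ orderOf z := by
    obtain ⟨k, hk⟩ := mem_zpowers_iff.1 h1
    rw [← hk, ← Nat.card_zpowers z]
    exact Subgroup.orderOf_dvd_natCard _ (zpow_mem (mem_zpowers z) k)
  have h4 : orderOf (D.x : G) ∣ 32 := D.card_Q ▸ Subgroup.orderOf_dvd_natCard D.Q ⟨D.x, MonoidHom.mem_ker.2 h, rfl⟩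
  rw [Subgroup.orderOf_coe, D.hx] at h4
  norm_num at h4

/-- The congruence for invariant subgroups. -/
theorem card_mod (hz : orderOf z = 2) (K : Subgroup G) (hKQ : K ≤ D.Q)
    (hK : ∀ k, k ∈ K ↔ (D.x : G) * k * (D.x : G)⁻¹ ∈ K) :
    Nat.card K % 3 = Nat.card (K ⊓ zpowers z : Subgroup G) % 3 := by
  haveI : Fact (Nat.Prime 3) := ⟨Nat.prime_three⟩
  have h := card_modEq_fixed (p := 3) (n := 1) (x := (D.x : G)) (by rw [pow_one]; exact D.x_cubed) (· ∈ K) hK
  rw [show Nat.card (K ⊓ zpowers z : Subgroup G) = Nat.card {g // g ∈ K ∧ g * (D.x : G) = D.x * g} from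
    Nat.card_congr (Equiv.subtypeEquivRight fun g => ⟨fun hg => ⟨hg.1, by
      obtain ⟨k, rfl⟩ := mem_zpowers_iff.1 hg.2
      exact ((show Commute z (D.x : G) from (mem_cz.1 D.x_mem).symm).zpow_left k).eq⟩,
      fun hg => ⟨hg.1, D.fixQ (hKQ hg.1) hg.2⟩⟩)]
  exact h

end Nine

namespace Counts

variable (H : Counts G)
include H

theorem exists_nine {z : G} (hz : orderOf z = 2) (hC : Nat.card (cz z) = 192) : Nonempty (Nine z) := by
  classical
  haveI : Fact (Nat.Prime 2) := ⟨Nat.prime_two⟩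
  haveI : Fact (Nat.Prime 3) := ⟨Nat.prime_three⟩
  have hS : ∀ S : Sylow 2 (cz z), Nat.card (S : Subgroup (cz z)) = 64 := fun S => by
    rw [card_sylow_eq S (k := 6) (m := 3) (by rw [hC]; norm_num) (by norm_num)]; norm_num
  obtain ⟨S₀⟩ : Nonempty (Sylow 2 (cz z)) := inferInstance
  have hn3 : Nat.card (Sylow 2 (cz z)) = 3 := by
    have hd : Nat.card (Sylow 2 (cz z)) ∣ 3 := by
      have h1 := (S₀ : Subgroup (cz z)).card_mul_index
      rw [hS, hC] at h1
      exact (show (S₀ : Subgroup (cz z)).index = 3 by omega) ▸ S₀.card_dvd_index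
    refine ((Nat.dvd_prime Nat.prime_three).1 hd).resolve_left fun h1 => ?_
    haveI := (Nat.card_eq_one_iff_unique.1 h1).1
    haveI := Sylow.normal_of_subsingleton S₀
    exact H.no_normal_two hz hC _ (hS S₀)
  obtain ⟨e⟩ : Nonempty (Sylow 2 (cz z) ≃ Fin 3) := ⟨(Finite.equivFin _).trans (finCongr hn3)⟩
  set θ : cz z →* Equiv.Perm (Fin 3) :=
    e.permCongrHom.toMonoidHom.comp (MulAction.toPermHom (cz z) (Sylow 2 (cz z))) with hθ
  have hkerS : ∀ S : Sylow 2 (cz z), θ.ker ≤ (S : Subgroup (cz z)) := by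
    intro S g hg
    have hN : normalizer ((S : Subgroup (cz z)) : Set (cz z)) = (S : Subgroup (cz z)) := by
      refine (eq_of_le_of_card_ge le_normalizer ?_).symm
      have hmul := CfsgLib.SmallSimple.card_sylow_mul S
      rw [hn3, hC] at hmul
      rw [hS]
      omega
    rw [← hN]
    refine Sylow.smul_eq_iff_mem_normalizer.1 ?_
    have h1 : MulAction.toPermHom (cz z) (Sylow 2 (cz z)) g = 1 :=
      e.permCongrHom.injective (by rw [map_one]; exact hg)
    exact congrArg (fun p : Equiv.Perm (Sylow 2 (cz z)) => p S) h1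
  have hker64 : Nat.card θ.ker ≠ 64 := fun h => by
    have heq : ∀ S : Sylow 2 (cz z), θ.ker = (S : Subgroup (cz z)) := fun S =>
      eq_of_le_of_card_ge (hkerS S) (by rw [h, hS])
    haveI : Subsingleton (Sylow 2 (cz z)) := ⟨fun A B => Sylow.ext ((heq A).symm.trans (heq B))⟩
    rw [Nat.card_of_subsingleton S₀] at hn3
    norm_num at hn3
  have hmul : Nat.card θ.ker * Nat.card θ.range = 192 := by
    rw [← hC, ← θ.ker.card_mul_index, index_ker]
  have hr6 : Nat.card θ.range ∣ 6 := by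
    refine (card_subgroup_dvd_card θ.range).trans (dvd_of_eq ?_)
    rw [Nat.card_perm, Nat.card_fin]; rfl
  have hk64 : Nat.card θ.ker ∣ 64 := hS S₀ ▸ card_dvd_of_le (hkerS S₀)
  have hk32 : Nat.card θ.ker = 32 ∧ Nat.card θ.range = 6 := by
    obtain ⟨i, hi6, hi⟩ := (Nat.dvd_prime_pow Nat.prime_two).1 (show Nat.card θ.ker ∣ 2 ^ 6 from hk64)
    have h6 := Nat.le_of_dvd (by norm_num) hr6
    rw [hi] at hmul hker64 ⊢
    interval_cases i <;> omega
  have hsurj : Function.Surjective θ := by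
    rw [← MonoidHom.range_eq_top]
    exact eq_top_of_card_eq _ (by rw [hk32.2, Nat.card_perm, Nat.card_fin]; rfl)
  obtain ⟨P⟩ : Nonempty (Sylow 3 (cz z)) := inferInstance
  obtain ⟨hP3, -, hN⟩ := H.sylow_three_192 hz hC P
  obtain ⟨x, hx⟩ := exists_prime_orderOf_dvd_card' (G := (P : Subgroup (cz z))) 3 (by rw [hP3])
  rw [← Subgroup.orderOf_coe] at hx
  have hgen : zpowers (x : cz z) = (P : Subgroup (cz z)) :=
    eq_of_le_of_card_ge (zpowers_le.2 x.2) (by rw [Nat.card_zpowers, hx, hP3])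
  set zC : cz z := ⟨z, self_mem_cz z⟩ with hzC
  have hzc : ∀ g : cz z, zC * g = g * zC := fun g => Subtype.ext (mem_cz.1 g.2).symm
  have hzker : zC ∈ θ.ker := MonoidHom.mem_ker.2 (perm_three_trivial _ fun h => by
    obtain ⟨g, rfl⟩ := hsurj h
    rw [← map_mul, ← map_mul, hzc])
  set N := normalizer ((P : Subgroup (cz z)) : Set (cz z)) with hNdef
  -- the normalizer maps onto the three points
  have hxk : θ (x : cz z) ≠ 1 := fun h => by
    have h1 := Subgroup.orderOf_dvd_natCard θ.ker (MonoidHom.mem_ker.2 h)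
    rw [hk32.1, hx] at h1
    norm_num at h1
  have hPM : (P : Subgroup (cz z)) ≤ (alternatingGroup (Fin 3)).comap θ := by
    intro w hw
    rw [mem_comap, Equiv.Perm.mem_alternatingGroup]
    have h := orderOf_dvd_iff_pow_eq_one.1 (hP3 ▸ Subgroup.orderOf_dvd_natCard (P : Subgroup (cz z)) hw)
    have h2 : θ w ^ 3 = 1 := by rw [← map_pow, h, map_one]
    have h3 : Equiv.Perm.sign (θ w) ^ 3 = 1 := by rw [← map_pow, h2, map_one]
    rcases Int.units_eq_one_or (Equiv.Perm.sign (θ w)) with e | e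
    · exact e
    · rw [e] at h3; exact absurd h3 (by decide)
  obtain ⟨y, hyN, hy⟩ : ∃ y ∈ N, Equiv.Perm.sign (θ y) = -1 := by
    set M := (alternatingGroup (Fin 3)).comap θ with hM
    haveI : M.Normal := Normal.comap inferInstance θ
    have htop := Sylow.normalizer_sup_eq_top (N := M) (P.subtype hPM)
    rw [Sylow.coe_subtype, Subgroup.map_subgroupOf_eq_of_le hPM] at htop
    by_contra hcon
    push Not at hcon
    have hle : N ≤ M := fun w hw => by
      rw [hM, mem_comap, Equiv.Perm.mem_alternatingGroup]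
      exact (Int.units_eq_one_or _).resolve_right (hcon w hw)
    rw [sup_eq_right.2 hle] at htop
    obtain ⟨w, hw⟩ := hsurj (Equiv.swap 0 1)
    have := (htop ▸ mem_top w : w ∈ M)
    rw [hM, mem_comap, hw, Equiv.Perm.mem_alternatingGroup, Equiv.Perm.sign_swap (by decide)] at this
    exact absurd this (by decide)
  set ψ := θ.comp N.subtype with hψ
  have hψ6 : Nat.card ψ.range = 6 := by
    have hd : Nat.card ψ.range ∣ 6 := by
      refine (card_subgroup_dvd_card ψ.range).trans (dvd_of_eq ?_)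
      rw [Nat.card_perm, Nat.card_fin]; rfl
    have hxN : (x : cz z) ∈ N := le_normalizer x.2
    have h3 : 3 ∣ Nat.card ψ.range := by
      have : orderOf (θ (x : cz z)) = 3 :=
        orderOf_three (by rw [← map_pow, orderOf_dvd_iff_pow_eq_one.1 (dvd_of_eq hx), map_one]) hxk
      have h := Subgroup.orderOf_dvd_natCard ψ.range (show θ (x : cz z) ∈ ψ.range from ⟨⟨x, hxN⟩, rfl⟩)
      rwa [this] at h
    have h2 : 2 ∣ Nat.card ψ.range := by
      have h1 : orderOf (Equiv.Perm.sign (θ y)) = 2 := by rw [hy]; exact orderOf_eq_prime (by decide) (by decide)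
      exact (h1 ▸ orderOf_map_dvd Equiv.Perm.sign (θ y)).trans (Subgroup.orderOf_dvd_natCard ψ.range ⟨⟨y, hyN⟩, rfl⟩)
    exact Nat.dvd_antisymm hd (Nat.Coprime.mul_dvd_of_dvd_of_dvd (by norm_num : Nat.Coprime 2 3) h2 h3)
  have hψk : Nat.card ψ.ker = 2 := by
    have := ψ.ker.card_mul_index
    rw [index_ker, hψ6, hN] at this
    omega
  refine ⟨⟨θ, hsurj, hk32.1, P, x, hx, hgen, hzker, fun q hq hqx => ?_⟩⟩
  have hqN : q ∈ N := centralizer_le_normalizer _ (mem_centralizer_iff.2 fun g hg => by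
    rw [SetLike.mem_coe, ← hgen] at hg
    obtain ⟨i, rfl⟩ := mem_zpowers_iff.1 hg
    exact ((show Commute (x : cz z) q from hqx.symm).zpow_left i).eq)
  have hzN : zC ∈ N := centralizer_le_normalizer _ (mem_centralizer_iff.2 fun g _ => (hzc g).symm)
  have hle : zpowers (⟨zC, hzN⟩ : N) ≤ ψ.ker := zpowers_le.2 (MonoidHom.mem_ker.2 (MonoidHom.mem_ker.1 hzker :))
  have heq := eq_of_le_of_card_ge hle (by
    rw [hψk, Nat.card_zpowers, ← Subgroup.orderOf_coe, ← Subgroup.orderOf_coe]; exact hz.ge)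
  obtain ⟨i, hi⟩ := mem_zpowers_iff.1 (heq.symm ▸ (MonoidHom.mem_ker.2 (MonoidHom.mem_ker.1 hq :) :
    (⟨q, hqN⟩ : N) ∈ ψ.ker))
  exact mem_zpowers_iff.2 ⟨i, (congrArg (fun g : N => ((g : cz z) : G)) hi :)⟩

end Counts

end CfsgLib.M12Nse
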