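import Cfsg.Agent.M12Nse.Basic
import Cfsg.Agent.SmallSimple.OrderBound.Sweep
import Cfsg.Agent.SmallSimple.Basic
import Cfsg.Agent.InvChar.ThreeSixty
import Mathlib.GroupTheory.Transfer

/-!
# Groups of order 720 with 36 Sylow 5-subgroups
-/

set_option autoImplicit false
set_option linter.style.haveILetI false
set_option linter.unusedSectionVars false

namespace CfsgLib.M12Nse

open Subgroup CfsgLib.SmallSimple

universe uX

variable {X : Type uX} [Group X] [Finite X]

theorem no_six : ∀ g : Equiv.Perm (Fin 6), Equiv.Perm.sign g = 1 → g ^ 6 = 1 → g ^ 2 = 1 ∨ g ^ 3 = 1 := by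
  decide +kernel

/-- A simple group of order 360 has no elements of order 6. -/
theorem commute_two_three [IsSimpleGroup X] (h : Nat.card X = 360) {v b : X} (hv : orderOf v = 2)
    (hb : orderOf b = 3) (hc : Commute v b) : False := by
  obtain ⟨e⟩ := CfsgLib.InvChar.iso_alternatingSix h
  have ho : orderOf (v * b) = 6 := by
    rw [hc.orderOf_mul_eq_mul_orderOf_of_coprime (by rw [hv, hb]; norm_num), hv, hb]
  have ho' : orderOf ((e (v * b) : alternatingGroup (Fin 6)) : Equiv.Perm (Fin 6)) = 6 := by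
    rw [Subgroup.orderOf_coe, MulEquiv.orderOf_eq, ho]
  rcases no_six _ (Equiv.Perm.mem_alternatingGroup.1 (e (v * b)).2)
    (orderOf_dvd_iff_pow_eq_one.1 (dvd_of_eq ho')) with h' | h' <;>
  · have := orderOf_dvd_of_pow_eq_one h'
    rw [ho'] at this
    norm_num at this

/-- A subgroup of order prime to 5 normalized by a self-centralizing element of order 5. -/
theorem card_of_normalized {y : X} (hy : orderOf y = 5) (hyc : ∀ v, v * y = y * v → v ∈ zpowers y)
    (hX : Nat.card X ∣ 720) (K : Subgroup X) (h5 : ¬ 5 ∣ Nat.card K) (hn : ∀ g, g ∈ K ↔ y * g * y⁻¹ ∈ K) :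
    Nat.card K = 1 ∨ Nat.card K = 16 := by
  classical
  haveI : Fact (Nat.Prime 5) := ⟨by norm_num⟩
  have key : ∀ q : ℕ, q.Prime → q ^ (Nat.card K).factorization q % 5 = 1 := by
    intro q hq
    haveI := Fact.mk hq
    obtain ⟨Q, hQK, hQc, hQn⟩ := exists_sylow_normalized (p := 5) (q := q) (x := y)
      (by rw [← hy, pow_orderOf_eq_one]) K h5 hn
    have hmod := card_modEq_fixed (p := 5) (n := 1) (x := y) (by rw [pow_one, ← hy, pow_orderOf_eq_one])
      (· ∈ Q) hQn
    have hone : Nat.card {g // g ∈ Q ∧ g * y = y * g} = 1 := by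
      refine Nat.card_eq_one_iff_unique.2 ⟨⟨fun a b => Subtype.ext ?_⟩, ⟨⟨1, one_mem _, by simp⟩⟩⟩
      have : ∀ g : X, g ∈ Q → g * y = y * g → g = 1 := fun g hg hgy => by
        have h1 : orderOf g ∣ 5 := hy ▸ Nat.card_zpowers y ▸ Subgroup.orderOf_dvd_natCard (zpowers y) (hyc g hgy)
        rcases (Nat.dvd_prime (by norm_num)).1 h1 with e | e
        · exact orderOf_eq_one_iff.1 e
        · exact absurd (e ▸ (Subgroup.orderOf_dvd_natCard Q hg).trans (card_dvd_of_le hQK)) h5
      rw [this a a.2.1 a.2.2, this b b.2.1 b.2.2]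
    rw [hone, show Nat.card {g // g ∈ Q} = q ^ (Nat.card K).factorization q from hQc] at hmod
    exact hmod
  have hd : Nat.card K ∣ 2 ^ 4 * 3 ^ 2 := by
    refine Nat.Coprime.dvd_of_dvd_mul_right ((Nat.Prime.coprime_iff_not_dvd (by norm_num : Nat.Prime 5)).2 h5).symm ?_
    exact (card_subgroup_dvd_card K).trans (hX.trans (by norm_num))
  obtain ⟨d2, d3, h2, h3, he⟩ := exists_dvd_and_dvd_of_dvd_mul hd
  obtain ⟨i, hi, rfl⟩ := (Nat.dvd_prime_pow Nat.prime_two).1 h2
  obtain ⟨j, hj, rfl⟩ := (Nat.dvd_prime_pow Nat.prime_three).1 h3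
  have k2 := key 2 Nat.prime_two
  have k3 := key 3 Nat.prime_three
  rw [he, Nat.factorization_mul (by positivity) (by positivity), Finsupp.add_apply,
    Nat.Prime.factorization_pow Nat.prime_two, Nat.Prime.factorization_pow Nat.prime_three] at k2 k3
  rw [Finsupp.single_eq_same, Finsupp.single_eq_of_ne (by norm_num), add_zero] at k2
  rw [Finsupp.single_eq_same, Finsupp.single_eq_of_ne (by norm_num), zero_add] at k3
  rw [he]
  interval_cases i <;> interval_cases j <;> first | omega | (norm_num at k2 k3) | norm_num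

theorem sylow_five_card (hX : Nat.card X = 720 ∨ Nat.card X = 360 ∨ Nat.card X = 180) [Fact (Nat.Prime 5)]
    (P : Sylow 5 X) : Nat.card (P : Subgroup X) = 5 := by
  rcases hX with h | h | h
  · rw [card_sylow_eq P (k := 1) (m := 144) (by rw [h]; norm_num) (by norm_num), pow_one]
  · rw [card_sylow_eq P (k := 1) (m := 72) (by rw [h]; norm_num) (by norm_num), pow_one]
  · rw [card_sylow_eq P (k := 1) (m := 36) (by rw [h]; norm_num) (by norm_num), pow_one]

theorem mem_of_dvd {M : Subgroup X} [M.Normal] (hX : Nat.card X = 720 ∨ Nat.card X = 360 ∨ Nat.card X = 180)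
    (h5 : 5 ∣ Nat.card M) [Fact (Nat.Prime 5)] (P : Sylow 5 X) : (P : Subgroup X) ≤ M := by
  obtain ⟨w, hw⟩ := exists_prime_orderOf_dvd_card' (G := M) 5 h5
  rw [← Subgroup.orderOf_coe] at hw
  obtain ⟨Q, hQ⟩ := (IsPGroup.of_card (n := 1) (by rw [Nat.card_zpowers, hw, pow_one]) :
    IsPGroup 5 (zpowers (w : X))).exists_le_sylow
  have hQM : (Q : Subgroup X) ≤ M := by
    rw [← eq_of_le_of_card_ge hQ (by rw [sylow_five_card hX, Nat.card_zpowers, hw])]
    exact zpowers_le.2 w.2
  obtain ⟨g, hg⟩ := MulAction.exists_smul_eq X Q P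
  rw [← hg]
  rintro _ ⟨t, ht, rfl⟩
  exact (inferInstance : M.Normal).conj_mem t (hQM ht) g

/-- The order of a normal subgroup containing the Sylow 5-subgroups. -/
theorem normal_card {M : Subgroup X} [M.Normal] (hX : Nat.card X = 720 ∨ Nat.card X = 360 ∨ Nat.card X = 180)
    [Fact (Nat.Prime 5)] (hn5 : Nat.card (Sylow 5 X) = 36) (h5 : 5 ∣ Nat.card M) :
    Nat.card (Sylow 5 M) = 36 ∧ (Nat.card M = 180 ∨ Nat.card M = 360 ∨ Nat.card M = 720) := by
  classical
  have hle := fun P : Sylow 5 X => mem_of_dvd hX h5 P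
  let f : Sylow 5 X → Sylow 5 M := fun P => P.subtype (hle P)
  have hf : Function.Bijective f := by
    refine ⟨fun P Q h => Sylow.subtype_injective h, fun Q => ?_⟩
    obtain ⟨P, hP⟩ := Q.2.map M.subtype |>.exists_le_sylow
    refine ⟨P, Sylow.ext ?_⟩
    refine Q.3 (P.subtype (hle P)).2 ?_
    intro t ht
    exact mem_subgroupOf.2 (hP ⟨t, ht, rfl⟩)
  have hn : Nat.card (Sylow 5 M) = 36 := (Nat.card_eq_of_bijective f hf).symm.trans hn5
  refine ⟨hn, ?_⟩
  obtain ⟨Q⟩ : Nonempty (Sylow 5 M) := inferInstance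
  have hmul := CfsgLib.SmallSimple.card_sylow_mul Q
  rw [hn] at hmul
  obtain ⟨P, hP⟩ := hf.2 Q
  have hQc : Nat.card (Q : Subgroup M) = 5 := by
    rw [← hP, Sylow.coe_subtype, Nat.card_congr (subgroupOfEquivOfLe (hle P)).toEquiv, sylow_five_card hX]
  obtain ⟨d, hd⟩ : 5 ∣ Nat.card (normalizer ((Q : Subgroup M) : Set M)) := by
    have := card_dvd_of_le (le_normalizer (H := (Q : Subgroup M)))
    rwa [hQc] at this
  rw [hd] at hmul
  have hMX : Nat.card M ∣ 720 := (card_subgroup_dvd_card M).trans (by rcases hX with h | h | h <;> rw [h] <;> norm_num)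
  rw [← hmul] at hMX ⊢
  have hd4 : d ∣ 4 := Nat.dvd_of_mul_dvd_mul_left (by norm_num : 0 < 180)
    (show 180 * d ∣ 180 * 4 by rw [show 180 * d = 36 * (5 * d) by ring]; exact hMX)
  have hle4 := Nat.le_of_dvd (by norm_num) hd4
  have hd0 : 0 < d := Nat.pos_of_ne_zero (by rintro rfl; simp at hd4)
  interval_cases d <;> first | omega | (norm_num at hd4)

/-- There is no such group of order 180. -/
theorem no_180 {y : X} (hy : orderOf y = 5) (hyc : ∀ v, v * y = y * v → v ∈ zpowers y)
    [Fact (Nat.Prime 5)] (hn5 : Nat.card (Sylow 5 X) = 36) (hX : Nat.card X = 180) : False := by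
  classical
  obtain ⟨P⟩ : Nonempty (Sylow 5 X) := inferInstance
  have hPc := sylow_five_card (Or.inr (Or.inr hX)) P
  have hmul := CfsgLib.SmallSimple.card_sylow_mul P
  rw [hn5, hX] at hmul
  have hNeq : normalizer ((P : Subgroup X) : Set X) = (P : Subgroup X) :=
    (eq_of_le_of_card_ge le_normalizer (by rw [hPc]; omega)).symm
  haveI : IsCyclic (P : Subgroup X) := isCyclic_of_prime_card hPc
  have hNC : normalizer ((P : Subgroup X) : Set X) ≤ centralizer ((P : Subgroup X) : Set X) := by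
    rw [hNeq]
    exact fun w hw => mem_centralizer_iff.2 fun z hz => setLike_mul_comm (S := Subgroup X) hz hw
  have hK := MonoidHom.ker_transferSylow_isComplement' P hNC
  set K := (MonoidHom.transferSylow P hNC).ker
  have hKc : Nat.card K = 36 := by
    have h' := hK.card_mul_card
    rw [hPc, hX] at h'
    omega
  have hKN : K.Normal := MonoidHom.normal_ker _
  rcases card_of_normalized hy hyc (by rw [hX]; norm_num) K (by rw [hKc]; norm_num) (fun g =>
    ⟨fun hg => hKN.conj_mem g hg y, fun hg => by simpa [mul_assoc] using hKN.conj_mem _ hg y⁻¹⟩) with e | e <;>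
  · rw [hKc] at e; norm_num at e

/-- A normal simple subgroup of index 2. -/
theorem exists_simple_360 {y : X} (hy : orderOf y = 5) (hyc : ∀ v, v * y = y * v → v ∈ zpowers y)
    [Fact (Nat.Prime 5)] (hn5 : Nat.card (Sylow 5 X) = 36) (hX : Nat.card X = 720) :
    ∃ M : Subgroup X, M.Normal ∧ Nat.card M = 360 ∧ IsSimpleGroup M := by
  classical
  haveI : Nontrivial X := Finite.one_lt_card_iff_nontrivial.1 (by rw [hX]; norm_num)
  have hncomm : ¬ IsMulCommutative X := fun h => by
    obtain ⟨P⟩ : Nonempty (Sylow 5 X) := inferInstance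
    haveI : (P : Subgroup X).Normal := ⟨fun n hn g => by rw [h.1.comm g n, mul_inv_cancel_right]; exact hn⟩
    haveI := Sylow.unique_of_normal P inferInstance
    rw [Nat.card_unique] at hn5
    norm_num at hn5
  have hnot5 : ∀ M : Subgroup X, M.Normal → ¬ 5 ∣ Nat.card M → M = ⊥ := by
    intro M hM h5
    rcases card_of_normalized hy hyc (by rw [hX]) M h5 (fun g =>
      ⟨fun hg => hM.conj_mem g hg y, fun hg => by simpa [mul_assoc] using hM.conj_mem _ hg y⁻¹⟩) with e | e
    · exact Subgroup.card_eq_one.1 e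
    exfalso
    haveI := hM
    have hq : Nat.card (X ⧸ M) = 45 := by
      have := M.index_mul_card
      rw [index_eq_card, e, hX] at this
      omega
    obtain ⟨P⟩ : Nonempty (Sylow 5 (X ⧸ M)) := inferInstance
    have hPc : Nat.card (P : Subgroup (X ⧸ M)) = 5 := by
      rw [card_sylow_eq P (k := 1) (m := 9) (by rw [hq]; norm_num) (by norm_num), pow_one]
    have hnP : Nat.card (Sylow 5 (X ⧸ M)) = 1 := by
      have h1 := (P : Subgroup (X ⧸ M)).card_mul_index
      rw [hPc, hq] at h1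
      have h2 : Nat.card (Sylow 5 (X ⧸ M)) ∣ 9 := (show (P : Subgroup (X ⧸ M)).index = 9 by omega) ▸ P.card_dvd_index
      have h3 : Nat.card (Sylow 5 (X ⧸ M)) % 5 = 1 := card_sylow_modEq_one 5 _
      have := Nat.le_of_dvd (by norm_num) h2
      interval_cases Nat.card (Sylow 5 (X ⧸ M)) <;> omega
    haveI hPn : (P : Subgroup (X ⧸ M)).Normal := by
      haveI := (Nat.card_eq_one_iff_unique.1 hnP).1
      exact Sylow.normal_of_subsingleton P
    set L := (P : Subgroup (X ⧸ M)).comap (QuotientGroup.mk' M)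
    have hLi : L.index = 9 := by
      rw [index_comap_of_surjective _ (QuotientGroup.mk'_surjective M)]
      have h1 := (P : Subgroup (X ⧸ M)).card_mul_index
      rw [hPc, hq] at h1
      omega
    have hLc : Nat.card L = 80 := by
      have h1 := L.card_mul_index
      rw [hLi, hX] at h1
      omega
    rcases (normal_card (Or.inl hX) hn5 (by rw [hLc]; norm_num : 5 ∣ Nat.card L)).2 with h | h | h <;>
    · rw [hLc] at h; norm_num at h
  have hnsimple : ¬ IsSimpleGroup X := fun hs => by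
    haveI := hs
    rcases CfsgLib.OrderBound.card_of_le hncomm (by rw [hX]; norm_num) with h | h | h | h | h | h <;> rw [hX] at h <;> norm_num at h
  obtain ⟨M, hM, hMb, hMt⟩ : ∃ M : Subgroup X, M.Normal ∧ M ≠ ⊥ ∧ M ≠ ⊤ := by
    by_contra hcon
    push Not at hcon
    exact hnsimple ⟨fun M hM => or_iff_not_imp_left.2 (hcon M hM)⟩
  haveI := hM
  have h5M : 5 ∣ Nat.card M := by
    by_contra h; exact hMb (hnot5 M hM h)
  obtain ⟨hn5M, hc⟩ := normal_card (Or.inl hX) hn5 h5M
  have hyM : y ∈ M := by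
    obtain ⟨P, hP⟩ := (IsPGroup.of_card (n := 1) (by rw [Nat.card_zpowers, hy, pow_one]) :
      IsPGroup 5 (zpowers y)).exists_le_sylow
    exact mem_of_dvd (Or.inl hX) h5M P (hP (mem_zpowers y))
  have hyM' : orderOf (⟨y, hyM⟩ : M) = 5 := by rw [← Subgroup.orderOf_coe]; exact hy
  have hycM : ∀ v : M, v * ⟨y, hyM⟩ = ⟨y, hyM⟩ * v → v ∈ zpowers (⟨y, hyM⟩ : M) := by
    intro v hv
    obtain ⟨k, hk⟩ := mem_zpowers_iff.1 (hyc v (congrArg Subtype.val hv))
    exact mem_zpowers_iff.2 ⟨k, Subtype.ext (by simpa using hk)⟩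
  have hMc : Nat.card M = 360 := by
    rcases hc with h | h | h
    · exact (no_180 hyM' hycM hn5M h).elim
    · exact h
    · exact absurd (eq_top_of_card_eq M (h.trans hX.symm)) hMt
  refine ⟨M, hM, hMc, ?_⟩
  haveI : Nontrivial M := Finite.one_lt_card_iff_nontrivial.1 (by rw [hMc]; norm_num)
  refine ⟨fun K hK => ?_⟩
  haveI := hK
  by_cases h5 : 5 ∣ Nat.card K
  swap
  · left
    rcases card_of_normalized hyM' hycM (by rw [hMc]; norm_num) K h5 (fun g =>
      ⟨fun hg => hK.conj_mem g hg _, fun hg => by simpa [mul_assoc] using hK.conj_mem _ hg (⟨y, hyM⟩ : M)⁻¹⟩)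
      with e | e
    · exact Subgroup.card_eq_one.1 e
    · have := card_subgroup_dvd_card K
      rw [e, hMc] at this
      norm_num at this
  obtain ⟨hn5K, hKc⟩ := normal_card (Or.inr (Or.inl hMc)) hn5M h5
  right
  refine eq_top_of_card_eq K ?_
  rcases hKc with h | h | h
  · exfalso
    obtain ⟨P, hP⟩ := (IsPGroup.of_card (n := 1) (by rw [Nat.card_zpowers, hyM', pow_one]) :
      IsPGroup 5 (zpowers (⟨y, hyM⟩ : M))).exists_le_sylow
    have hyK := mem_of_dvd (Or.inr (Or.inl hMc)) h5 P (hP (mem_zpowers _))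
    refine no_180 (y := (⟨⟨y, hyM⟩, hyK⟩ : K)) (by rw [← Subgroup.orderOf_coe]; exact hyM') (fun v hv => ?_) hn5K h
    obtain ⟨k, hk⟩ := mem_zpowers_iff.1 (hycM v (congrArg Subtype.val hv))
    exact mem_zpowers_iff.2 ⟨k, Subtype.ext (by simpa using hk)⟩
  · rw [h, hMc]
  · have := card_subgroup_dvd_card K
    rw [h, hMc] at this
    norm_num at this

end CfsgLib.M12Nse
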