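import Cfsg.Agent.M12Nse.Local
import Cfsg.Agent.M12Nse.SevenTwenty
import Mathlib.GroupTheory.GroupAction.Quotient

/-!
# The involution centralizing an element of order 5 has centralizer of order 240
-/

set_option autoImplicit false
set_option linter.style.haveILetI false
set_option linter.unusedSectionVars false

namespace CfsgLib.M12Nse

open Subgroup CfsgLib.M11Nse CfsgLib.SmallSimple

section Outer

variable {Q : Type*} [Group Q] [Finite Q]

/-- Two 3-subgroups of Sylow type meet trivially, in a group with a simple subgroup of order 360. -/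
theorem smul_fixed_eq_one {M : Subgroup Q} (hM : Nat.card M = 360) [IsSimpleGroup M] [Fact (Nat.Prime 3)]
    (hle : ∀ P : Sylow 3 Q, (P : Subgroup Q) ≤ M) {P R : Sylow 3 Q} (hPR : R ≠ P) {b : Q}
    (hb : b ∈ (P : Subgroup Q)) (hfix : b • R = R) : b = 1 := by
  have hbN := Sylow.smul_eq_iff_mem_normalizer.1 hfix
  have hbR : b ∈ (R : Subgroup Q) := by
    have hp : IsPGroup 3 ((zpowers b) ⊔ (R : Subgroup Q) : Subgroup Q) :=
      (P.2.to_le (zpowers_le.2 hb)).to_sup_of_normal_right' R.2 (zpowers_le.2 hbN)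
    exact (R.3 hp le_sup_right) ▸ mem_sup_left (mem_zpowers b)
  have hne : P.subtype (hle P) ≠ R.subtype (hle R) := fun h => hPR (Sylow.subtype_injective h).symm
  exact congrArg Subtype.val (CfsgLib.InvChar.eq_one_of_mem_two hM hne (x := ⟨b, hle P hb⟩)
    (mem_subgroupOf.2 hb) (mem_subgroupOf.2 hbR))

theorem card_sylow_three_eq {M : Subgroup Q} (hM : Nat.card M = 360) [IsSimpleGroup M] [Fact (Nat.Prime 3)]
    (hle : ∀ P : Sylow 3 Q, (P : Subgroup Q) ≤ M) : Nat.card (Sylow 3 Q) = 10 := by
  obtain ⟨P0⟩ : Nonempty (Sylow 3 M) := inferInstance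
  rw [← (CfsgLib.InvChar.card_sylow_three hM P0).2.1]
  refine Nat.card_eq_of_bijective (fun P => P.subtype (hle P))
    ⟨fun P R h => Sylow.subtype_injective h, fun R => ?_⟩
  obtain ⟨P, hP⟩ := R.2.map M.subtype |>.exists_le_sylow
  refine ⟨P, Sylow.ext (R.3 (P.subtype (hle P)).2 fun t ht => ?_)⟩
  exact mem_subgroupOf.2 (hP ⟨t, ht, rfl⟩)

/-- Two commuting involutions of a simple group of order 360 do not normalize a Sylow 3-subgroup. -/
theorem no_four_normalizing {M : Subgroup Q} (hM : Nat.card M = 360) [IsSimpleGroup M] {B : Subgroup Q}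
    (hB : Nat.card B = 9) (hBM : B ≤ M) {v w : Q} (hvM : v ∈ M) (hwM : w ∈ M) (hv : orderOf v = 2)
    (hw : orderOf w = 2) (hvw : v ≠ w) (hc : Commute v w) (hvB : v ∈ normalizer (B : Set Q))
    (hwB : w ∈ normalizer (B : Set Q)) : False := by
  haveI : Fact (Nat.Prime 3) := ⟨Nat.prime_three⟩
  haveI := IsPGroup.isMulCommutative_of_card_eq_prime_sq (p := 3) (G := B) (by rw [hB]; norm_num)
  have hnocomm : ∀ t ∈ M, orderOf t = 2 → ∀ b ∈ B, t * b = b * t → b = 1 := by
    intro t htM ht b hb hcb
    by_contra hb1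
    have h9 : orderOf b ∣ 3 ^ 2 := by simpa [hB] using Subgroup.orderOf_dvd_natCard B hb
    obtain ⟨i, hi, hi'⟩ := (Nat.dvd_prime_pow Nat.prime_three).1 h9
    obtain ⟨b', hb'M, hb', hc'⟩ : ∃ b' ∈ M, orderOf b' = 3 ∧ Commute t b' := by
      interval_cases i
      · exact absurd (orderOf_eq_one_iff.1 hi') hb1
      · exact ⟨b, hBM hb, hi', hcb⟩
      · exact ⟨b ^ 3, pow_mem (hBM hb) 3, by rw [orderOf_pow, hi']; norm_num, (show Commute t b from hcb).pow_right 3⟩
    refine commute_two_three hM (v := (⟨t, htM⟩ : M)) (b := (⟨b', hb'M⟩ : M)) ?_ ?_ (Subtype.ext hc'.eq)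
    · rw [← Subgroup.orderOf_coe]; exact ht
    · rw [← Subgroup.orderOf_coe]; exact hb'
  have hinv : ∀ t ∈ M, orderOf t = 2 → t ∈ normalizer (B : Set Q) → ∀ b ∈ B, t * b * t⁻¹ = b⁻¹ := by
    intro t htM ht htB b hb
    have htb := (mem_normalizer_iff.1 htB b).1 hb
    have htt : t * t = 1 := by rw [← sq, ← ht]; exact pow_orderOf_eq_one t
    have hcB : b * (t * b * t⁻¹) = t * b * t⁻¹ * b := setLike_mul_comm (S := Subgroup Q) hb htb
    have hti : t⁻¹ = t := inv_eq_of_mul_eq_one_right htt
    have hfix := hnocomm t htM ht (b * (t * b * t⁻¹)) (mul_mem hb htb) (by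
      rw [hti] at hcB ⊢
      calc t * (b * (t * b * t)) = (t * b * t) * b * t := by group
        _ = b * (t * b * t) * t := by rw [hcB]
        _ = _ := rfl)
    exact (inv_eq_of_mul_eq_one_right hfix).symm
  obtain ⟨b, hb⟩ := exists_prime_orderOf_dvd_card' (G := B) 3 (by rw [hB]; norm_num)
  rw [← Subgroup.orderOf_coe] at hb
  have hvwM : v * w ∈ M := mul_mem hvM hwM
  have hvw2 : orderOf (v * w) = 2 := by
    refine orderOf_eq_prime ?_ fun h => hvw ?_
    · rw [hc.mul_pow, ← hv, pow_orderOf_eq_one, one_mul, hv, ← hw, pow_orderOf_eq_one]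
    · rw [eq_inv_of_mul_eq_one_left h]
      exact inv_eq_of_mul_eq_one_right (by rw [← sq, ← hw]; exact pow_orderOf_eq_one w)
  have h1 : (b : Q) = 1 := by
    refine hnocomm _ hvwM hvw2 b b.2 ?_
    have e1 := hinv w hwM hw hwB b b.2
    have e2 := hinv v hvM hv hvB (b : Q)⁻¹ (inv_mem b.2)
    rw [inv_inv] at e2
    refine mul_inv_eq_iff_eq_mul.1 ?_
    rw [mul_inv_rev, show v * w * (b : Q) * (w⁻¹ * v⁻¹) = v * (w * b * w⁻¹) * v⁻¹ by group, e1, e2]
  rw [h1, orderOf_one] at hb
  norm_num at hb

/-- No involution outside the simple subgroup centralizes a Sylow 3-subgroup. -/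
theorem outer_centralizes {M : Subgroup Q} [M.Normal] (hM : Nat.card M = 360) [IsSimpleGroup M]
    [Fact (Nat.Prime 3)] (hle : ∀ P : Sylow 3 Q, (P : Subgroup Q) ≤ M) {φ : Q} (hφ : φ * φ = 1)
    (P : Sylow 3 Q) (hc : ∀ b ∈ (P : Subgroup Q), φ * b = b * φ) : ∀ m ∈ M, φ * m = m * φ := by
  classical
  have hP9 : Nat.card (P : Subgroup Q) = 9 := by
    rw [← Nat.card_congr (subgroupOfEquivOfLe (hle P)).toEquiv, ← Sylow.coe_subtype P (hle P)]
    exact (CfsgLib.InvChar.card_sylow_three hM _).1
  have h10 := card_sylow_three_eq hM hle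
  have hφP : φ • P = P := Sylow.smul_eq_iff_mem_normalizer.2 (mem_normalizer_iff.2 fun b => by
    constructor
    · intro hb; rw [hc b hb, mul_inv_cancel_right]; exact hb
    · intro hb
      have hi : φ⁻¹ = φ := inv_eq_of_mul_eq_one_right hφ
      have h2 := hc _ hb
      have hb2 : φ * b * φ⁻¹ = b := by
        rw [hi] at h2 ⊢
        calc φ * b * φ = φ * (φ * b * φ * φ) := by
              rw [h2.symm]
              simp only [← mul_assoc, hφ, one_mul]
          _ = b := by simp only [mul_assoc, hφ, mul_one]; rw [← mul_assoc, hφ, one_mul]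
      rwa [hb2] at hb)
  have hfix : ∀ R : Sylow 3 Q, φ • R = R := by
    intro R
    by_cases hR : R = P
    · rw [hR, hφP]
    let f : ↥(P : Subgroup Q) → {S : Sylow 3 Q // S ≠ P} := fun b => ⟨(b : Q) • R, fun h => hR (by
      have hbP : (b : Q) • P = P :=
        Sylow.smul_eq_iff_mem_normalizer.2 (le_normalizer (H := (P : Subgroup Q)) b.2)
      exact smul_left_cancel (b : Q) (h.trans hbP.symm))⟩
    have hf : Function.Injective f := fun a b h => by
      have h' : (a : Q) • R = (b : Q) • R := congrArg Subtype.val h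
      have hba := smul_fixed_eq_one hM hle hR (mul_mem (inv_mem b.2) a.2)
        (by rw [mul_smul, h', inv_smul_smul])
      exact Subtype.ext (inv_mul_eq_one.1 hba).symm
    have hsurj : Function.Surjective f := by
      haveI := Fintype.ofFinite (Sylow 3 Q)
      haveI := Fintype.ofFinite (P : Subgroup Q)
      refine ((Fintype.bijective_iff_injective_and_card f).2 ⟨hf, ?_⟩).2
      rw [Fintype.card_subtype_compl, Fintype.card_subtype_eq, ← Nat.card_eq_fintype_card,
        ← Nat.card_eq_fintype_card, hP9, h10]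
    obtain ⟨b, hb⟩ := hsurj ⟨φ • R, fun h => hR (smul_left_cancel φ (h.trans hφP.symm))⟩
    have hb' : (b : Q) • R = φ • R := congrArg Subtype.val hb
    have h2 : ((b : Q) * b) • R = R := by
      rw [mul_smul, hb', ← mul_smul, ← hc b b.2, mul_smul, hb', ← mul_smul, hφ, one_smul]
    have hb2 := smul_fixed_eq_one hM hle hR (mul_mem b.2 b.2) h2
    have hb1 : (b : Q) = 1 := by
      refine orderOf_eq_one_iff.1 (Nat.dvd_one.1 ?_)
      have := Nat.dvd_gcd (orderOf_dvd_of_pow_eq_one (by rw [pow_two]; exact hb2 : (b : Q) ^ 2 = 1))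
        (hP9 ▸ Subgroup.orderOf_dvd_natCard _ b.2)
      simpa using this
    rw [← hb', hb1, one_smul]
  intro m hm
  set c : Q := φ * m * φ⁻¹ * m⁻¹ with hcdef
  have hcM : c ∈ M := mul_mem ((inferInstance : M.Normal).conj_mem m hm φ) (inv_mem hm)
  have hcfix : ∀ R : Sylow 3 Q, c • R = R := fun R => by
    have e : φ⁻¹ = φ := inv_eq_of_mul_eq_one_right hφ
    rw [hcdef, e, mul_smul, mul_smul, mul_smul, hfix, hfix, smul_inv_smul]
  let K : Subgroup M := { carrier := {g | ∀ R : Sylow 3 Q, (g : Q) • R = R}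
                          one_mem' := fun R => one_smul Q R
                          mul_mem' := fun {a b} ha hb R => by
                            show ((a : Q) * b) • R = R
                            rw [mul_smul, hb, ha]
                          inv_mem' := fun {a} ha R => by
                            show (a : Q)⁻¹ • R = R
                            rw [inv_smul_eq_iff, ha] }
  haveI hK : K.Normal := ⟨fun g hg t R => by
    show ((t : Q) * g * (t : Q)⁻¹) • R = R
    rw [mul_smul, mul_smul, hg, smul_inv_smul]⟩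
  rcases hK.eq_bot_or_eq_top with e | e
  · have : (⟨c, hcM⟩ : M) ∈ K := hcfix
    rw [e, mem_bot] at this
    have hc1 : φ * m * φ⁻¹ * m⁻¹ = 1 := congrArg Subtype.val this
    exact mul_inv_eq_iff_eq_mul.1 (mul_inv_eq_one.1 hc1)
  · exfalso
    have hall : ∀ (g : M) (R : Sylow 3 Q), (g : Q) • R = R := fun g => (e ▸ mem_top g : g ∈ K)
    obtain ⟨R, hR⟩ : ∃ R : Sylow 3 Q, R ≠ P := by
      by_contra hcon
      push Not at hcon
      haveI : Subsingleton (Sylow 3 Q) := ⟨fun a b => (hcon a).trans (hcon b).symm⟩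
      rw [Nat.card_of_subsingleton P] at h10
      norm_num at h10
    obtain ⟨b, hb⟩ := exists_prime_orderOf_dvd_card' (G := (P : Subgroup Q)) 3 (by rw [hP9]; norm_num)
    have := smul_fixed_eq_one hM hle hR b.2 (hall ⟨b, hle P b.2⟩ R)
    rw [← Subgroup.orderOf_coe, this, orderOf_one] at hb
    norm_num at hb

end Outer

variable {G : Type*} [Group G] [Finite G]

namespace Counts

variable (H : Counts G)
include H

theorem index_u {u : G} {c : ℕ} (hc : Nat.card (cz u) = c) : c * (cz u).index = 95040 := by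
  rw [← hc, card_mul_index, H.card]

theorem not_40 {u : G} (hu : orderOf u = 2) (h : Nat.card (cz u) = 40) : False := by
  have := H.invol_split hu
  have := H.index_u h
  omega

theorem not_8640 {u : G} (hu : orderOf u = 2) (hu5 : 5 ∣ Nat.card (cz u)) (h : Nat.card (cz u) = 8640) :
    False := by
  classical
  haveI := H.isSimple
  haveI : Fact (Nat.Prime 5) := ⟨by norm_num⟩
  have hi := H.index_u h
  have huu : u * u = 1 := by rw [← sq, ← hu]; exact pow_orderOf_eq_one u
  obtain ⟨m, hm⟩ := fix_class H.not_comm u huu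
  obtain ⟨y, hy⟩ := exists_prime_orderOf_dvd_card' (G := cz u) 5 hu5
  rw [← Subgroup.orderOf_coe] at hy
  have hyu : (y : G) * u = u * y := mem_cz.1 y.2
  have hmod := card_modEq_fixed (p := 5) (n := 1) (x := (y : G)) (by rw [pow_one, ← hy, pow_orderOf_eq_one])
    (fun x => IsConj u x ∧ x * u = u * x) fun x => by
      have hy' : IsConj x ((y : G) * x * (y : G)⁻¹) := isConj_iff.2 ⟨(y : G), rfl⟩
      refine and_congr ⟨fun h => h.trans hy', fun h => h.trans hy'.symm⟩ ?_
      have hc : (y : G) * u * (y : G)⁻¹ = u := mul_inv_eq_iff_eq_mul.2 hyu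
      constructor
      · intro h
        calc (y : G) * x * (y : G)⁻¹ * u = y * x * (y : G)⁻¹ * (y * u * (y : G)⁻¹) := by rw [hc]
          _ = y * (x * u) * (y : G)⁻¹ := by group
          _ = (y * u * (y : G)⁻¹) * (y * x * (y : G)⁻¹) := by rw [h]; group
          _ = _ := by rw [hc]
      · intro h
        have h' : (y : G) * x * (y : G)⁻¹ * (y * u * (y : G)⁻¹) =
            (y * u * (y : G)⁻¹) * (y * x * (y : G)⁻¹) := by rw [hc]; exact h
        have := congrArg (fun t => (y : G)⁻¹ * t * y) h'
        simpa [mul_assoc] using this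
  have hone : Nat.card {x // (IsConj u x ∧ x * u = u * x) ∧ x * y = y * x} = 1 := by
    obtain ⟨-, w, -, -, huniq⟩ := H.five_centralizer hy
    refine Nat.card_eq_one_iff_unique.2 ⟨⟨fun a b => Subtype.ext ?_⟩, ⟨⟨u, ⟨IsConj.refl u, rfl⟩, hyu.symm⟩⟩⟩
    have key : ∀ x : G, IsConj u x → x * y = y * x → x = w := fun x hx hxy =>
      huniq x ((orderOf_eq_of_isConj hx).trans hu) hxy
    rw [key a a.2.1.1 a.2.2, key b b.2.1.1 b.2.2]
  rw [hone] at hmod
  have hn11 : nIn u u = 11 := by
    have h1 : nIn u u ≤ 11 := by omega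
    have h2 : nIn u u % 5 = 1 := hmod
    omega
  have hall : ∀ x, IsConj u x → x * u = u * x := by
    intro x hx
    by_contra hxu
    haveI := Fintype.ofFinite G
    have h2 : nIn u u < Nat.card {x : G // IsConj u x} := by
      rw [nIn, Nat.card_eq_fintype_card, Nat.card_eq_fintype_card, Fintype.card_subtype, Fintype.card_subtype]
      refine Finset.card_lt_card ((Finset.ssubset_iff_of_subset fun t ht => ?_).2 ⟨x, by simpa using hx, by simp [hxu]⟩)
      simp only [Finset.mem_filter, Finset.mem_univ, true_and] at ht ⊢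
      exact ht.1
    rw [card_conj] at h2
    omega
  have hle : normalClosure ({u} : Set G) ≤ cz u := by
    refine (closure_le _).2 fun x hx => ?_
    obtain ⟨a, ha, hax⟩ := Group.mem_conjugatesOfSet_iff.1 hx
    rw [Set.mem_singleton_iff.1 ha] at hax
    exact mem_cz.2 (hall x hax)
  rcases (normalClosure_normal (s := ({u} : Set G))).eq_bot_or_eq_top with e | e
  · have := subset_normalClosure (Set.mem_singleton u)
    rw [e, SetLike.mem_coe, mem_bot] at this
    rw [this, orderOf_one] at hu
    norm_num at hu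
  · rw [e] at hle
    rw [eq_top_iff.2 hle, card_top, H.card] at h
    norm_num at h

theorem not_1440 {u : G} (hu : orderOf u = 2) (hu5 : 5 ∣ Nat.card (cz u)) (h : Nat.card (cz u) = 1440) :
    False := by
  classical
  haveI : Fact (Nat.Prime 5) := ⟨by norm_num⟩
  haveI : Fact (Nat.Prime 3) := ⟨Nat.prime_three⟩
  set C := cz u with hCdef
  have huC : u ∈ C := self_mem_cz u
  let Z : Subgroup C := zpowers ⟨u, huC⟩
  have hZmem : ∀ t : C, t ∈ Z → (t : G) = 1 ∨ (t : G) = u := by
    intro t ht
    have h2 : orderOf (⟨u, huC⟩ : C) = 2 := by rw [← Subgroup.orderOf_coe]; exact hu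
    rw [mem_zpowers_iff_mem_range_orderOf, h2] at ht
    simp only [Finset.mem_image, Finset.mem_range] at ht
    obtain ⟨k, hk, rfl⟩ := ht
    interval_cases k <;> simp
  haveI hZn : Z.Normal := ⟨fun n hn g => by
    have hc : g * n = n * g := by
      refine Subtype.ext ?_
      rcases hZmem n hn with e | e <;> simp [e]
      exact mem_cz.1 g.2
    rw [hc, mul_inv_cancel_right]; exact hn⟩
  have hZc : Nat.card Z = 2 := by rw [Nat.card_zpowers, ← Subgroup.orderOf_coe]; exact hu
  set π := QuotientGroup.mk' Z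
  have hQ : Nat.card (C ⧸ Z) = 720 := by
    have := Z.index_mul_card
    rw [index_eq_card, hZc, h] at this
    omega
  obtain ⟨y, hy⟩ := exists_prime_orderOf_dvd_card' (G := C) 5 hu5
  have hyG : orderOf (y : G) = 5 := by rw [Subgroup.orderOf_coe]; exact hy
  have hyb : orderOf (π y) = 5 := by
    refine orderOf_eq_prime (by rw [← map_pow, ← hy, pow_orderOf_eq_one, map_one]) fun h1 => ?_
    rcases hZmem y ((QuotientGroup.eq_one_iff y).1 h1) with e | e
    · rw [e, orderOf_one] at hyG; norm_num at hyG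
    · rw [e, hu] at hyG; norm_num at hyG
  have hcomm : ∀ v : C, π v * π y = π y * π v → v * y = y * v := by
    intro v hv
    rw [← map_mul, ← map_mul] at hv
    have hz := hZmem _ (QuotientGroup.eq.1 hv)
    rcases hz with e | e
    · exact Subtype.ext (inv_mul_eq_one.1 (by simpa using e))
    · exfalso
      have e1 : ((y : G) * v) = (v : G) * y * u := by
        have e' : ((v : G) * y)⁻¹ * (y * v) = u := by simpa using e
        rw [← e', mul_inv_cancel_left]
      have e2 : (v : G)⁻¹ * y * v = (y : G) * u := by rw [mul_assoc, e1]; group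
      have ho : orderOf ((y : G) * u) = 10 := by
        rw [(show Commute (y : G) u from mem_cz.1 y.2).orderOf_mul_eq_mul_orderOf_of_coprime
          (by rw [hyG, hu]; norm_num), hyG, hu]
      rw [← e2, orderOf_eq_of_isConj (isConj_iff.2 ⟨(v : G)⁻¹, by rw [inv_inv]⟩), hyG] at ho
      norm_num at ho
  have hyc : ∀ q : C ⧸ Z, q * π y = π y * q → q ∈ zpowers (π y) := by
    intro q hq
    obtain ⟨v, rfl⟩ := QuotientGroup.mk'_surjective Z q
    have hc := hcomm v hq
    have h10 := H.orderOf_commute_five hyG (show (v : G) * y = y * v from congrArg Subtype.val hc)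
    -- split off the part of order 2
    obtain ⟨-, w, -, -, huniq⟩ := H.five_centralizer hyG
    have huw : u = w := huniq u hu (mem_cz.1 y.2).symm
    set v5 : G := (v : G) ^ 5
    have hv5 : v5 = 1 ∨ v5 = u := by
      by_cases h1 : v5 = 1
      · exact Or.inl h1
      right
      rw [huw]
      refine huniq _ (orderOf_eq_prime ?_ h1) ((show Commute (v : G) y from congrArg Subtype.val hc).pow_left 5).eq
      rw [← pow_mul]
      exact orderOf_dvd_iff_pow_eq_one.1 h10
    have hq5 : (π v) ^ 5 = 1 := by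
      rw [← map_pow]
      refine (QuotientGroup.eq_one_iff _).2 ?_
      rcases hv5 with e | e
      · rw [show v ^ 5 = 1 from Subtype.ext e]; exact one_mem _
      · rw [show v ^ 5 = ⟨u, huC⟩ from Subtype.ext e]; exact mem_zpowers _
    obtain ⟨P, hP⟩ := (IsPGroup.of_card (n := 1) (by rw [Nat.card_zpowers, hyb, pow_one]) :
      IsPGroup 5 (zpowers (π y))).exists_le_sylow
    have hPeq : (P : Subgroup (C ⧸ Z)) = zpowers (π y) :=
      (eq_of_le_of_card_ge hP (by rw [sylow_five_card (Or.inl hQ), Nat.card_zpowers, hyb])).symm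
    have hpg : IsPGroup 5 (zpowers (π v)) := fun t => ⟨1, by
      obtain ⟨k, hk⟩ := mem_zpowers_iff.1 t.2
      refine Subtype.ext ?_
      rw [pow_one, Subgroup.coe_pow, ← hk, ← zpow_natCast, ← zpow_mul, mul_comm, zpow_mul, zpow_natCast, hq5,
        one_zpow, OneMemClass.coe_one]⟩
    have hvN : π v ∈ normalizer ((P : Subgroup (C ⧸ Z)) : Set (C ⧸ Z)) := by
      rw [hPeq, zpowers_eq_closure]
      exact (centralizer_le_normalizer _) (by rw [centralizer_closure]; exact mem_centralizer_singleton_iff.2 hq)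
    have hsup := hpg.to_sup_of_normal_right' P.2 (zpowers_le.2 hvN)
    rw [← hPeq]
    exact (P.3 hsup le_sup_right) ▸ mem_sup_left (mem_zpowers _)
  have hn5C : Nat.card (Sylow 5 C) = 36 := by
    obtain ⟨-, -, hN⟩ := H.five_count
    obtain ⟨S, hS⟩ := (IsPGroup.of_card (n := 1) (by rw [Nat.card_zpowers, hy, pow_one]) :
      IsPGroup 5 (zpowers y)).exists_le_sylow
    have hSc : Nat.card (S : Subgroup C) = 5 := by
      rw [card_sylow_eq S (k := 1) (m := 288) (by rw [h]; norm_num) (by norm_num), pow_one]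
    obtain ⟨P, hP⟩ := (S.2.map C.subtype).exists_le_sylow
    have hPeq : (P : Subgroup G) = (S : Subgroup C).map C.subtype :=
      (eq_of_le_of_card_ge hP (by rw [H.sylow_five, card_map_of_injective C.subtype_injective, hSc])).symm
    obtain ⟨-, w, -, -, huniq⟩ := H.five_centralizer hyG
    have huw : u = w := huniq u hu (mem_cz.1 y.2).symm
    have hyP : (y : G) ∈ (P : Subgroup G) := hP ⟨y, hS (mem_zpowers y), rfl⟩
    have hPz : (P : Subgroup G) = zpowers (y : G) :=
      (eq_of_le_of_card_ge (zpowers_le.2 hyP) (by rw [H.sylow_five, Nat.card_zpowers, hyG])).symm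
    have hNu : normalizer ((P : Subgroup G) : Set G) ≤ C := by
      intro g hg
      have hgx : g⁻¹ * y * g ∈ (P : Subgroup G) := by
        have h' := (mem_normalizer_iff.1 (inv_mem hg) (y : G)).1 hyP
        simpa using h'
      rw [hPz] at hgx
      obtain ⟨k, hk⟩ := mem_zpowers_iff.1 hgx
      have hc : Commute u ((y : G) ^ k) := (show Commute u (y : G) from (mem_cz.1 y.2).symm).zpow_right k
      have h1 : g * u * g⁻¹ * y = y * (g * u * g⁻¹) := by
        calc g * u * g⁻¹ * y = g * (u * (g⁻¹ * y * g)) * g⁻¹ := by group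
          _ = g * ((g⁻¹ * y * g) * u) * g⁻¹ := by rw [← hk, hc.eq]
          _ = _ := by group
      exact mem_cz.2 (mul_inv_eq_iff_eq_mul.1
        ((huniq _ (by rw [orderOf_eq_of_isConj (isConj_iff.2 ⟨g, rfl⟩), hu]) h1).trans huw.symm))
    have hNS : Nat.card (normalizer ((S : Subgroup C) : Set C)) = 40 := by
      have hS' : (S : Subgroup C) = (P : Subgroup G).subgroupOf C := by
        rw [hPeq, subgroupOf, comap_map_eq_self_of_injective C.subtype_injective]
      rw [hS', ← subgroupOf_normalizer_eq (by rw [hPeq]; exact map_subtype_le _),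
        Nat.card_congr (subgroupOfEquivOfLe hNu).toEquiv, hN P]
    have hmul := CfsgLib.SmallSimple.card_sylow_mul (G := C) S
    rw [hNS, h] at hmul
    omega
  have hn5 : Nat.card (Sylow 5 (C ⧸ Z)) = 36 := by
    rw [← hn5C]
    refine (Nat.card_eq_of_bijective (fun S : Sylow 5 C => S.mapSurjective (QuotientGroup.mk'_surjective Z))
      ⟨fun S T hST => ?_, Sylow.mapSurjective_surjective (QuotientGroup.mk'_surjective Z) 5⟩).symm
    have hST' : (S : Subgroup C).map π = (T : Subgroup C).map π := congrArg (fun P : Sylow 5 (C ⧸ Z) => (P : Subgroup (C ⧸ Z))) hST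
    refine Sylow.ext (le_antisymm ?_ ?_)
    all_goals intro t ht
    all_goals
      first
        | (have h' : π t ∈ (T : Subgroup C).map π := hST' ▸ ⟨t, ht, rfl⟩
           obtain ⟨t', ht', he⟩ := h'
           have hz := hZmem _ (QuotientGroup.eq.1 he)
           rcases hz with e | e
           · rwa [← show t' = t from Subtype.ext (inv_mul_eq_one.1 (by simpa using e))]
           · exfalso
             have e' : (t : G) = (t' : G) * u := by
               have : (t' : G)⁻¹ * t = u := by simpa using e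
               rw [← this, mul_inv_cancel_left]
             have h5 : ∀ (R : Sylow 5 C) (r : C), r ∈ (R : Subgroup C) → (r : G) ^ 5 = 1 := fun R r hr => by
               have : orderOf r ∣ 5 := by
                 have h1 := Subgroup.orderOf_dvd_natCard _ hr
                 rwa [card_sylow_eq R (k := 1) (m := 288) (by rw [h]; norm_num) (by norm_num), pow_one] at h1
               rw [← Subgroup.coe_pow, orderOf_dvd_iff_pow_eq_one.1 this, OneMemClass.coe_one]
             have hu5' := h5 _ t ht
             rw [e', (show Commute (t' : G) u from mem_cz.1 t'.2).mul_pow, h5 _ t' ht', one_mul] at hu5'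
             have := orderOf_dvd_of_pow_eq_one hu5'
             rw [hu] at this
             norm_num at this)
        | (have h' : π t ∈ (S : Subgroup C).map π := hST'.symm ▸ ⟨t, ht, rfl⟩
           obtain ⟨t', ht', he⟩ := h'
           have hz := hZmem _ (QuotientGroup.eq.1 he)
           rcases hz with e | e
           · rwa [← show t' = t from Subtype.ext (inv_mul_eq_one.1 (by simpa using e))]
           · exfalso
             have e' : (t : G) = (t' : G) * u := by
               have : (t' : G)⁻¹ * t = u := by simpa using e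
               rw [← this, mul_inv_cancel_left]
             have h5 : ∀ (R : Sylow 5 C) (r : C), r ∈ (R : Subgroup C) → (r : G) ^ 5 = 1 := fun R r hr => by
               have : orderOf r ∣ 5 := by
                 have h1 := Subgroup.orderOf_dvd_natCard _ hr
                 rwa [card_sylow_eq R (k := 1) (m := 288) (by rw [h]; norm_num) (by norm_num), pow_one] at h1
               rw [← Subgroup.coe_pow, orderOf_dvd_iff_pow_eq_one.1 this, OneMemClass.coe_one]
             have hu5' := h5 _ t ht
             rw [e', (show Commute (t' : G) u from mem_cz.1 t'.2).mul_pow, h5 _ t' ht', one_mul] at hu5'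
             have := orderOf_dvd_of_pow_eq_one hu5'
             rw [hu] at this
             norm_num at this)
  obtain ⟨M, hMn, hM, hMs⟩ := exists_simple_360 hyb hyc hn5 hQ
  haveI := hMn
  haveI := hMs
  have hMi : M.index = 2 := by
    have := M.card_mul_index
    rw [hM, hQ] at this
    omega
  have hle : ∀ P : Sylow 3 (C ⧸ Z), (P : Subgroup (C ⧸ Z)) ≤ M := by
    intro P b hb
    have h9 : Nat.card (P : Subgroup (C ⧸ Z)) = 9 := by
      rw [card_sylow_eq P (k := 2) (m := 80) (by rw [hQ]; norm_num) (by norm_num)]; norm_num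
    obtain ⟨e, he⟩ : ∃ e, b = (b ^ e) * (b ^ e) := ⟨5, by
      rw [← pow_add, show 5 + 5 = 9 + 1 from rfl, pow_succ,
        orderOf_dvd_iff_pow_eq_one.1 (h9 ▸ Subgroup.orderOf_dvd_natCard _ hb), one_mul]⟩
    rw [he]
    exact mul_self_mem_of_index_two hMi _
  -- the orbits of `C` on the other conjugates of `u`
  have hidx : (cz u).index = 66 := by
    have := H.index_u h
    omega
  have h5stab : ∀ x : G, IsConj u x → x ≠ u → ¬ 5 ∣ Nat.card (cz x ⊓ C : Subgroup G) := by
    intro x hx hxu h5
    obtain ⟨t, ht⟩ := exists_prime_orderOf_dvd_card' (G := (cz x ⊓ C : Subgroup G)) 5 h5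
    rw [← Subgroup.orderOf_coe] at ht
    obtain ⟨-, w, -, -, huniq⟩ := H.five_centralizer ht
    exact hxu ((huniq x ((orderOf_eq_of_isConj hx).trans hu) (mem_cz.1 t.2.1).symm).trans
      (huniq u hu (mem_cz.1 t.2.2).symm).symm)
  have hrel : ∀ x : G, (cz x).relIndex C * Nat.card (cz x ⊓ C : Subgroup G) = 1440 := fun x => by
    rw [← inf_relIndex_right, ← h, relIndex, ← (( cz x ⊓ C).subgroupOf C).index_mul_card,
      Nat.card_congr (subgroupOfEquivOfLe (inf_le_right : cz x ⊓ C ≤ C)).toEquiv]
  have key : ∀ x : G, IsConj u x → x ≠ u → 9 ∣ Nat.card (cz x ⊓ C : Subgroup G) →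
      (cz x).relIndex C ≤ 65 → (cz x).relIndex C = 40 := by
    intro x hx hxu h9 h65
    have hxo : orderOf x = 2 := (orderOf_eq_of_isConj hx).trans hu
    set K : Subgroup G := cz x ⊓ C with hK
    obtain ⟨B, hB⟩ := Sylow.exists_subgroup_card_pow_prime 3 (G := K) (n := 2) (by norm_num; exact h9)
    set BC : Subgroup C := (B.map K.subtype).subgroupOf C with hBC
    have hBle : B.map K.subtype ≤ C := (map_subtype_le B).trans inf_le_right
    have hBc : Nat.card BC = 9 := by
      rw [hBC, Nat.card_congr (subgroupOfEquivOfLe hBle).toEquiv, card_map_of_injective K.subtype_injective, hB]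
      norm_num
    have hinjB : ∀ b ∈ BC, π b = 1 → b = 1 := by
      intro b hb h1
      rcases hZmem b ((QuotientGroup.eq_one_iff b).1 h1) with e | e
      · exact Subtype.ext e
      · exfalso
        have : orderOf b ∣ 9 := hBc ▸ Subgroup.orderOf_dvd_natCard BC hb
        rw [← Subgroup.orderOf_coe, e, hu] at this
        norm_num at this
    have hBb : Nat.card (BC.map π) = 9 := by
      rw [← hBc]
      refine (Nat.card_eq_of_bijective (fun b : BC => (⟨π b, b, b.2, rfl⟩ : BC.map π)) ⟨fun a b hab => ?_, ?_⟩).symm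
      · have hab' : π (a : C) = π (b : C) := congrArg Subtype.val hab
        have := hinjB _ (mul_mem (inv_mem a.2) b.2) (by rw [map_mul, map_inv, hab', inv_mul_cancel])
        exact Subtype.ext (inv_mul_eq_one.1 this)
      · rintro ⟨_, b, hb, rfl⟩; exact ⟨⟨b, hb⟩, rfl⟩
    let P0 : Sylow 3 (C ⧸ Z) := Sylow.ofCard (BC.map π) (by
      rw [hBb, hQ, show (720 : ℕ) = 3 ^ 2 * 80 by norm_num,
        Nat.factorization_mul (by norm_num) (by norm_num), Finsupp.add_apply,
        Nat.Prime.factorization_pow (by norm_num), Finsupp.single_eq_same,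
        Nat.factorization_eq_zero_of_not_dvd (by norm_num)]
      norm_num)
    -- `x` does not commute with `u`
    have hxC : x ∉ C := by
      intro hxC
      set φ := π ⟨x, hxC⟩
      have hφ : φ * φ = 1 := by
        rw [← map_mul, show (⟨x, hxC⟩ : C) * ⟨x, hxC⟩ = 1 from Subtype.ext (by
          show x * x = 1
          rw [← sq, ← hxo]; exact pow_orderOf_eq_one x), map_one]
      have hφ1 : φ ≠ 1 := fun h1 => by
        rcases hZmem _ ((QuotientGroup.eq_one_iff _).1 h1) with e | e
        · simp only at e; rw [e, orderOf_one] at hxo; norm_num at hxo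
        · exact hxu e
      have hcB : ∀ b ∈ (P0 : Subgroup (C ⧸ Z)), φ * b = b * φ := by
        rintro _ ⟨b, hb, rfl⟩
        rw [← map_mul, ← map_mul]
        refine congrArg π (Subtype.ext ?_)
        obtain ⟨t, -, ht⟩ := mem_subgroupOf.1 hb
        show x * (b : G) = (b : G) * x
        rw [← ht]
        exact (mem_cz.1 t.2.1).symm
      by_cases hφM : φ ∈ M
      · obtain ⟨b, hb⟩ := exists_prime_orderOf_dvd_card' (G := BC.map π) 3 (by rw [hBb]; norm_num)
        refine commute_two_three hM (v := (⟨φ, hφM⟩ : M)) (b := (⟨b, hle P0 b.2⟩ : M)) ?_ ?_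
          (Subtype.ext (hcB b b.2))
        · rw [← Subgroup.orderOf_coe]
          exact orderOf_eq_prime (by rw [sq, hφ]) hφ1
        · rw [← Subgroup.orderOf_coe]; rw [← Subgroup.orderOf_coe] at hb; exact hb
      · have hcM := outer_centralizes hM hle hφ P0 hcB
        have hyM : π y ∈ M := by
          obtain ⟨P, hP⟩ := (IsPGroup.of_card (n := 1) (by rw [Nat.card_zpowers, hyb, pow_one]) :
            IsPGroup 5 (zpowers (π y))).exists_le_sylow
          exact mem_of_dvd (Or.inl hQ) (by rw [hM]; norm_num) P (hP (mem_zpowers _))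
        have h1 := Subgroup.orderOf_dvd_natCard _ (hyc φ (hcM _ hyM))
        rw [Nat.card_zpowers, hyb, orderOf_eq_prime (by rw [sq, hφ]) hφ1] at h1
        norm_num at h1
    have huK : u ∉ K := fun hu' => hxC (mem_cz.2 (mem_cz.1 hu'.1).symm)
    -- 2-elements of `K` are involutions
    obtain ⟨b0, hb0⟩ := exists_prime_orderOf_dvd_card' (G := K) 3 (dvd_trans (by norm_num) h9)
    rw [← Subgroup.orderOf_coe] at hb0
    set r := u * x with hr
    have hcr : ∀ g ∈ K, g * r = r * g := fun g hg => by
      rw [hr, ← mul_assoc, mem_cz.1 hg.2, mul_assoc, mem_cz.1 hg.1, mul_assoc]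
    have huu : u * u = 1 := by rw [← sq, ← hu]; exact pow_orderOf_eq_one u
    have hxx : x * x = 1 := by rw [← sq, ← hxo]; exact pow_orderOf_eq_one x
    have hr2 : r * r ≠ 1 := fun h2 => hxC (mem_cz.2 (by
      have h3 := eq_inv_of_mul_eq_one_left h2
      rw [hr, mul_inv_rev, inv_eq_of_mul_eq_one_right huu, inv_eq_of_mul_eq_one_right hxx] at h3
      exact h3.symm))
    obtain ⟨x0, hx0, hx0c⟩ : ∃ x0 : G, orderOf x0 = 3 ∧ ∀ g ∈ K, g * x0 = x0 * g := by
      have hpw : ∀ e, ∀ g ∈ K, g * r ^ e = r ^ e * g := fun e g hg => ((show Commute g r from hcr g hg).pow_right e).eq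
      rcases H.order_mem r with e | e | e | e | e | e | e | e | e
      · exact absurd (orderOf_eq_one_iff.1 e) (fun h1 => hr2 (by rw [h1, mul_one]))
      · exact absurd (by rw [← sq, ← e]; exact pow_orderOf_eq_one r) hr2
      · exact ⟨r, e, hcr⟩
      · exact absurd (H.sq_one_of_three hb0 (hcr b0 b0.2).symm (k := 2) (by rw [← pow_orderOf_eq_one r, e]; rfl)) hr2
      · have := H.orderOf_commute_five e (hcr b0 b0.2)
        rw [hb0] at this; norm_num at this
      · exact ⟨r ^ 2, by rw [orderOf_pow, e]; norm_num, hpw 2⟩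
      · exact absurd (H.sq_one_of_three hb0 (hcr b0 b0.2).symm (k := 3) (by rw [← pow_orderOf_eq_one r, e]; rfl)) hr2
      · have := H.orderOf_commute_five (show orderOf (r ^ 2) = 5 by rw [orderOf_pow, e]; norm_num) (hpw 2 b0 b0.2)
        rw [hb0] at this; norm_num at this
      · haveI : Fact (Nat.Prime 11) := ⟨by norm_num⟩
        have := H.orderOf_of_commute e (hcr b0 b0.2)
        rw [hb0] at this; norm_num at this
    -- the image in the quotient
    set KC : Subgroup C := K.subgroupOf C with hKC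
    have hKCc : Nat.card KC = Nat.card K := Nat.card_congr (subgroupOfEquivOfLe inf_le_right).toEquiv
    have hinjK : ∀ g ∈ KC, π g = 1 → g = 1 := fun g hg h1 => by
      rcases hZmem g ((QuotientGroup.eq_one_iff g).1 h1) with e | e
      · exact Subtype.ext e
      · exact absurd (e ▸ mem_subgroupOf.1 hg : u ∈ K) huK
    have hKb : Nat.card (KC.map π) = Nat.card K := by
      rw [← hKCc]
      refine (Nat.card_eq_of_bijective (fun b : KC => (⟨π b, b, b.2, rfl⟩ : KC.map π)) ⟨fun a b hab => ?_, ?_⟩).symm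
      · have hab' : π (a : C) = π (b : C) := congrArg Subtype.val hab
        have := hinjK _ (mul_mem (inv_mem a.2) b.2) (by rw [map_mul, map_inv, hab', inv_mul_cancel])
        exact Subtype.ext (inv_mul_eq_one.1 this)
      · rintro ⟨_, b, hb, rfl⟩; exact ⟨⟨b, hb⟩, rfl⟩
    set D := KC.map π ⊓ M with hD
    have hDK : Nat.card K ≤ 2 * Nat.card D := by
      have h1 : (M.subgroupOf (KC.map π)).index ≤ 2 := by
        rw [← hMi]
        exact Nat.le_of_dvd (by rw [hMi]; norm_num) (relIndex_dvd_index_of_normal M (KC.map π))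
      have h2 := (M.subgroupOf (KC.map π)).index_mul_card
      rw [← hKb, ← h2]
      have h3 : Nat.card (M.subgroupOf (KC.map π)) = Nat.card D := by
        rw [← inf_subgroupOf_left, Nat.card_congr (subgroupOfEquivOfLe (inf_le_left)).toEquiv]
      rw [h3]
      exact Nat.mul_le_mul_right _ h1
    have hKd : Nat.card K ∣ 288 := by
      have h1 : Nat.card K ∣ 1440 := h ▸ card_dvd_of_le inf_le_right
      exact Nat.Coprime.dvd_of_dvd_mul_left ((Nat.Prime.coprime_iff_not_dvd (by norm_num)).2 (h5stab x hx hxu)).symm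
        (show Nat.card K ∣ 5 * 288 from h1)
    have hDle : Nat.card D ≤ 18 := by
      by_contra hlt
      have hDd : Nat.card D ∣ 288 := by
        refine dvd_trans ?_ hKd
        rw [← hKb]; exact card_dvd_of_le inf_le_left
      have hBD : BC.map π ≤ D := le_inf (map_mono (fun b hb => by
        obtain ⟨t, -, ht⟩ := mem_subgroupOf.1 hb
        exact mem_subgroupOf.2 (ht ▸ t.2))) (hle P0)
      obtain ⟨c, hc⟩ : 9 ∣ Nat.card D := hBb ▸ card_dvd_of_le hBD
      rw [hc] at hDd hlt
      have hc32 : c ∣ 32 := Nat.dvd_of_mul_dvd_mul_left (by norm_num : 0 < 9) (by simpa using hDd)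
      have h4 : 4 ∣ c := by
        obtain ⟨i, hi, rfl⟩ := (Nat.dvd_prime_pow Nat.prime_two).1 (show c ∣ 2 ^ 5 by simpa using hc32)
        obtain ⟨j, rfl⟩ := Nat.exists_eq_add_of_le (show 2 ≤ i by
          by_contra hlt'; interval_cases i <;> norm_num at hlt)
        rw [pow_add]; exact dvd_mul_right _ _
      have h5D : ¬ 5 ∣ Nat.card D := fun h5 => by
        have := h5.trans (hc ▸ hDd)
        norm_num at this
      haveI : Fact (Nat.Prime 2) := ⟨Nat.prime_two⟩
      obtain ⟨V, hV⟩ := Sylow.exists_subgroup_card_pow_prime 2 (G := D) (n := 2) (by rw [hc]; exact dvd_mul_of_dvd_right h4 9)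
      -- `D` normalizes the Sylow subgroup
      have hDN : ∀ g ∈ D, g • P0 = P0 := by
        intro g hg
        by_contra hne
        have h10 : 10 ≤ Nat.card {R : Sylow 3 (C ⧸ Z) // ∃ d ∈ D, d • P0 = R} := by
          let f : Option (BC.map π) → {R : Sylow 3 (C ⧸ Z) // ∃ d ∈ D, d • P0 = R} := fun o =>
            match o with
            | none => ⟨P0, 1, one_mem _, one_smul _ _⟩
            | some b => ⟨(b : C ⧸ Z) • g • P0, (b : C ⧸ Z) * g, mul_mem (hBD b.2) hg, mul_smul _ _ _⟩
          have hf : Function.Injective f := by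
            intro a b hab
            have hfix : ∀ c : BC.map π, (c : C ⧸ Z) • P0 = P0 := fun c =>
              Sylow.smul_eq_iff_mem_normalizer.2 (le_normalizer c.2)
            rcases a with _ | a <;> rcases b with _ | b
            · rfl
            · exact absurd (smul_left_cancel (b : C ⧸ Z) ((congrArg Subtype.val hab).symm.trans (hfix b).symm)) hne
            · exact absurd (smul_left_cancel (a : C ⧸ Z) ((congrArg Subtype.val hab).trans (hfix a).symm)) hne
            · have h' : (a : C ⧸ Z) • g • P0 = (b : C ⧸ Z) • g • P0 := congrArg Subtype.val hab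
              have := smul_fixed_eq_one hM hle hne (mul_mem (inv_mem b.2) a.2) (by rw [mul_smul, h', inv_smul_smul])
              exact congrArg some (Subtype.ext (inv_mul_eq_one.1 this).symm)
          have := Nat.card_le_card_of_injective f hf
          rwa [Finite.card_option, hBb] at this
        have horb : Nat.card {R : Sylow 3 (C ⧸ Z) // ∃ d ∈ D, d • P0 = R} ∣ Nat.card D := by
          rw [← (MulAction.stabilizer D P0).index_mul_card]
          refine dvd_mul_of_dvd_left (dvd_of_eq ?_) _
          rw [MulAction.index_stabilizer, ← Nat.card_coe_set_eq]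
          exact Nat.card_congr (Equiv.subtypeEquivRight fun R => ⟨fun ⟨d, hd, e⟩ => ⟨⟨d, hd⟩, e⟩,
            fun ⟨⟨d, hd⟩, e⟩ => ⟨d, hd, e⟩⟩)
        have h10' : Nat.card {R : Sylow 3 (C ⧸ Z) // ∃ d ∈ D, d • P0 = R} ≤ 10 := by
          rw [← card_sylow_three_eq hM hle]
          exact Finite.card_subtype_le _
        rw [le_antisymm h10' h10] at horb
        exact h5D ((by norm_num : 5 ∣ 10).trans horb)
      have hVinv : ∀ v : V, ((v : D) : C ⧸ Z) * ((v : D) : C ⧸ Z) = 1 := by
        intro v
        obtain ⟨g, hg, hgv⟩ := (v : D).2.1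
        have h4' : (v : D) ^ 4 = 1 := by
          have h' : v ^ Nat.card V = 1 := pow_card_eq_one'
          rw [hV] at h'
          exact congrArg Subtype.val h'
        have hg4 : g ^ 4 = 1 := hinjK _ (pow_mem hg 4) (by
          rw [map_pow, hgv, ← Subgroup.coe_pow, h4', OneMemClass.coe_one])
        have := H.sq_one_of_three hx0 (hx0c _ (mem_subgroupOf.1 hg)) (k := 2)
          (by rw [← Subgroup.coe_pow]; exact congrArg Subtype.val hg4)
        rw [← hgv, ← map_mul, show g * g = 1 from Subtype.ext this, map_one]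
      haveI : Nontrivial V := Finite.one_lt_card_iff_nontrivial.1 (by rw [hV]; norm_num)
      obtain ⟨v, hv⟩ := exists_ne (1 : V)
      obtain ⟨w, hw, hw1⟩ : ∃ w : V, w ≠ v ∧ w ≠ 1 := by
        by_contra hcon
        push Not at hcon
        have hle2 : Nat.card V ≤ Nat.card Bool := by
          refine Nat.card_le_card_of_injective (fun t : V => decide (t = 1)) fun a b hab => ?_
          by_cases ha : a = 1 <;> by_cases hb : b = 1 <;> simp [ha, hb] at hab
          · rw [ha, hb]
          · rw [Decidable.byContradiction fun h => ha (hcon a h), Decidable.byContradiction fun h => hb (hcon b h)]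
        rw [hV] at hle2; simp at hle2
      have hord : ∀ t : V, t ≠ 1 → orderOf ((t : D) : C ⧸ Z) = 2 := fun t ht =>
        orderOf_eq_prime (by rw [sq]; exact hVinv t) fun e => ht (Subtype.ext (Subtype.ext e))
      refine no_four_normalizing hM hBb (hle P0) (v : D).2.2 (w : D).2.2 (hord v hv) (hord w hw1)
        (fun e => hw (Subtype.ext (Subtype.ext e.symm))) ?_
        (Sylow.smul_eq_iff_mem_normalizer.1 (hDN _ (v : D).2)) (Sylow.smul_eq_iff_mem_normalizer.1 (hDN _ (w : D).2))
      have hvw := hVinv (v * w)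
      rw [Subgroup.coe_mul, Subgroup.coe_mul] at hvw
      have h3 := eq_inv_of_mul_eq_one_left hvw
      rw [mul_inv_rev, inv_eq_of_mul_eq_one_right (hVinv v), inv_eq_of_mul_eq_one_right (hVinv w)] at h3
      exact h3
    have hmul := hrel x
    rw [← hK] at hmul
    obtain ⟨c, hc⟩ := h9
    rw [hc] at hmul hKd hDK
    have hc4 : c ≤ 4 := by omega
    have hc32 : c ∣ 32 := Nat.dvd_of_mul_dvd_mul_left (by norm_num : 0 < 9) (by simpa using hKd)
    interval_cases c <;> omega
  have hsub : ∀ P : G → Prop, (∀ g, P g → IsConj u g ∧ g ≠ u) → (∀ c ∈ C, ∀ g, P g → P (c * g * c⁻¹)) →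
      ¬ 15 ∣ Nat.card {g // P g} → ∃ g, P g ∧ 9 ∣ Nat.card (cz g ⊓ C : Subgroup G) := by
    intro P hP hinv h15
    by_contra hcon
    push Not at hcon
    refine h15 (dvd_card_of_orbits C P 15 hinv fun g hg => ?_)
    have hm := hrel g
    have h3 := hcon g hg
    have h5 := h5stab g (hP g hg).1 (hP g hg).2
    have hp5 : 5 ∣ (cz g).relIndex C := ((Nat.prime_iff.1 (by norm_num : Nat.Prime 5)).dvd_or_dvd
      (show 5 ∣ (cz g).relIndex C * Nat.card (cz g ⊓ C : Subgroup G) by rw [hm]; norm_num)).resolve_right h5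
    have hp3 : 3 ∣ (cz g).relIndex C := by
      by_contra h'
      refine h3 (Nat.Coprime.dvd_of_dvd_mul_left ?_ (show 9 ∣ (cz g).relIndex C * _ by rw [hm]; norm_num))
      exact ((Nat.Prime.coprime_iff_not_dvd Nat.prime_three).2 h').pow_left 2
    exact Nat.Coprime.mul_dvd_of_dvd_of_dvd (by norm_num : Nat.Coprime 3 5) hp3 hp5
  have hinv0 : ∀ c ∈ C, ∀ g, (IsConj u g ∧ g ≠ u) → (IsConj u (c * g * c⁻¹) ∧ c * g * c⁻¹ ≠ u) := by
    intro c hc g hg
    refine ⟨hg.1.trans (isConj_iff.2 ⟨c, rfl⟩), fun e => hg.2 ?_⟩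
    have := congrArg (fun t => c⁻¹ * t * c) e
    simp [mul_assoc] at this
    rw [this, ← mem_cz.1 hc, inv_mul_cancel_left]
  have h65 : Nat.card {g : G // IsConj u g ∧ g ≠ u} = 65 := by
    have h1 : Nat.card {g : G // IsConj u g} = 66 := by rw [card_conj, hidx]
    haveI := Fintype.ofFinite G
    rw [Nat.card_eq_fintype_card, Fintype.card_subtype] at h1 ⊢
    rw [show (Finset.univ.filter fun g : G => IsConj u g ∧ g ≠ u) = (Finset.univ.filter fun g => IsConj u g).erase u by
      ext g; simp [and_comm], Finset.card_erase_of_mem (Finset.mem_filter.2 ⟨Finset.mem_univ _, IsConj.refl u⟩), h1]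
  obtain ⟨x, hx, hx9⟩ := hsub _ (fun g hg => hg) hinv0 (by rw [h65]; norm_num)
  set O : G → Prop := fun t => ∃ c ∈ C, c * x * c⁻¹ = t with hO
  haveI := Fintype.ofFinite G
  have hsplit : Nat.card {g : G // IsConj u g ∧ g ≠ u} =
      Nat.card {t // O t} + Nat.card {g : G // (IsConj u g ∧ g ≠ u) ∧ ¬ O g} := by
    rw [Nat.card_eq_fintype_card, Nat.card_eq_fintype_card, Nat.card_eq_fintype_card, Fintype.card_subtype,
      Fintype.card_subtype, Fintype.card_subtype, ← Finset.card_filter_add_card_filter_not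
        (s := Finset.univ.filter fun g => IsConj u g ∧ g ≠ u) O, Finset.filter_filter, Finset.filter_filter]
    congr 1
    refine congrArg Finset.card (Finset.filter_congr fun t _ => ?_)
    exact ⟨fun h => h.2, fun h => ⟨by obtain ⟨c, hc, rfl⟩ := h; exact hinv0 c hc x hx, h⟩⟩
  rw [h65, card_orbit_in] at hsplit
  have h40 := key x hx.1 hx.2 hx9 (by omega)
  rw [h40] at hsplit
  have hinv1 : ∀ c ∈ C, ∀ g, ((IsConj u g ∧ g ≠ u) ∧ ¬ O g) →
      ((IsConj u (c * g * c⁻¹) ∧ c * g * c⁻¹ ≠ u) ∧ ¬ O (c * g * c⁻¹)) := by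
    intro c hc g hg
    refine ⟨hinv0 c hc g hg.1, fun ⟨d, hd, e⟩ => hg.2 ⟨c⁻¹ * d, mul_mem (inv_mem hc) hd, ?_⟩⟩
    have := congrArg (fun t => c⁻¹ * t * c) e
    simpa [mul_assoc] using this
  obtain ⟨x', hx', hx'9⟩ := hsub _ (fun g hg => hg.1) hinv1 (by
    rw [show Nat.card {g : G // (IsConj u g ∧ g ≠ u) ∧ ¬ O g} = 25 by omega]; norm_num)
  have hle' : (cz x').relIndex C ≤ 25 := by
    rw [← card_orbit_in, show (25 : ℕ) = Nat.card {g : G // (IsConj u g ∧ g ≠ u) ∧ ¬ O g} by omega]
    refine Nat.card_le_card_of_injective (fun t : {t // ∃ c ∈ C, c * x' * c⁻¹ = t} =>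
      (⟨t.1, by obtain ⟨c, hc, e⟩ := t.2; rw [← e]; exact hinv1 c hc x' hx'⟩ :
        {g : G // (IsConj u g ∧ g ≠ u) ∧ ¬ O g})) fun a b hab => Subtype.ext (congrArg Subtype.val hab :)
  have := key x' hx'.1.1 hx'.1.2 hx'9 (by omega)
  omega

/-- The class of involutions centralizing elements of order 5. -/
theorem exists_u_240 : ∃ u : G, orderOf u = 2 ∧ Nat.card (cz u) = 240 ∧ (cz u).index = 396 := by
  obtain ⟨u, hu, hu5⟩ := H.exists_u
  rcases H.card_cz_u hu hu5 with h | h | h | h
  · have := H.index_u h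
    exact ⟨u, hu, h, by omega⟩
  · exact (H.not_1440 hu hu5 h).elim
  · exact (H.not_8640 hu hu5 h).elim
  · exact (H.not_40 hu h).elim

end Counts

end CfsgLib.M12Nse
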