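import Cfsg.Agent.M12Nse.Faithful
import Cfsg.Agent.M12Nse.U
import Cfsg.Agent.Invol.BaerSuzuki

/-!
# No involution has a centralizer of order 1728
-/

set_option autoImplicit false
set_option linter.style.haveILetI false
set_option linter.unusedSectionVars false

namespace CfsgLib.M12Nse

open Subgroup CfsgLib.M11Nse CfsgLib.SmallSimple

variable {G : Type*} [Group G] [Finite G]

/-- The order of an element of a subgroup of exponent three. -/
theorem orderOf_three {g : G} (h : g ^ 3 = 1) (h1 : g ≠ 1) : orderOf g = 3 :=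
  ((Nat.dvd_prime Nat.prime_three).1 (orderOf_dvd_of_pow_eq_one h)).resolve_left
    fun e => h1 (orderOf_eq_one_iff.1 e)

/-- A commuting involution added to an elementary abelian 2-group. -/
theorem elementary_insert {E : Subgroup G} (hE : ∀ e ∈ E, e * e = 1) {z : G} (hz : z * z = 1)
    (hc : ∀ e ∈ E, e * z = z * e) (hzE : z ∉ E) :
    ∃ E' : Subgroup G, (∀ e ∈ E', e * e = 1) ∧ 2 * Nat.card E ≤ Nat.card E' ∧ z ∈ E' ∧ E ≤ E' := by
  have hn : zpowers z ≤ normalizer (E : Set G) := zpowers_le.2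
    (centralizer_le_normalizer _ (mem_centralizer_iff.2 fun e he => hc e he))
  refine ⟨E ⊔ zpowers z, fun e he => ?_, ?_, mem_sup_right (mem_zpowers z), le_sup_left⟩
  · rw [← SetLike.mem_coe, coe_mul_of_right_le_normalizer_left _ _ hn] at he
    obtain ⟨a, ha, _, ⟨i, rfl⟩, rfl⟩ := Set.mem_mul.1 he
    have h : Commute a (z ^ i) := (show Commute a z from hc a ha).zpow_right i
    rw [h.symm.mul_mul_mul_comm a, hE a ha, one_mul, ← zpow_add, ← two_mul, zpow_mul, zpow_two, hz, one_zpow]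
  · obtain ⟨k, hk⟩ := card_dvd_of_le (show E ≤ E ⊔ zpowers z from le_sup_left)
    have hne : E ≠ E ⊔ zpowers z := fun h => hzE (h ▸ mem_sup_right (mem_zpowers z))
    have hk0 : k ≠ 0 := fun h => (Nat.card_pos (α := (E ⊔ zpowers z : Subgroup G))).ne' (by rw [hk, h, mul_zero])
    have hk1 : k ≠ 1 := fun h => hne (eq_of_le_of_card_ge le_sup_left (by rw [hk, h, mul_one]))
    rw [hk, mul_comm 2]
    exact Nat.mul_le_mul_left _ (by omega)

namespace Counts

variable (H : Counts G)
include H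

theorem card_cz_invol {w : G} (hw : orderOf w = 2) : Nat.card (cz w) = 240 ∨ Nat.card (cz w) ∣ 1728 := by
  by_cases h5 : 5 ∣ Nat.card (cz w)
  · obtain ⟨u, hu, hu240, -⟩ := H.exists_u_240
    exact Or.inl ((card_cz_conj (H.isConj_of_five hu hw (by rw [hu240]; norm_num) h5)).trans hu240)
  · exact Or.inr (H.card_eq_two_three h5 (H.invol_ne hw))

/-- The subgroup of elements of exponent two in a 2-part. -/
theorem two_part_le {L : Subgroup G} (h : ∀ g ∈ L, ∀ k, g ^ 2 ^ k = 1 → g * g = 1) : ¬ 32 ∣ Nat.card L := by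
  haveI : Fact (Nat.Prime 2) := ⟨Nat.prime_two⟩
  intro h32
  obtain ⟨R, hR⟩ := Sylow.exists_subgroup_card_pow_prime 2 (G := L) (n := 5) (by norm_num; exact h32)
  have hle := H.elementary_le (E := R.map L.subtype) fun e he => by
    obtain ⟨r, hr, rfl⟩ := he
    obtain ⟨k, hk⟩ := IsPGroup.of_card hR ⟨r, hr⟩
    exact h r r.2 k (by simpa [Subtype.ext_iff] using hk)
  rw [card_map_of_injective L.subtype_injective, hR] at hle
  norm_num at hle

theorem no_1728' {z : G} (hz : orderOf z = 2) (hC : Nat.card (cz z) = 1728) : False := by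
  classical
  haveI : Fact (Nat.Prime 2) := ⟨Nat.prime_two⟩
  haveI : Fact (Nat.Prime 3) := ⟨Nat.prime_three⟩
  haveI := H.isSimple
  obtain ⟨A, hAC, hA, hAn⟩ := H.exists_A hz (self_mem_cz z) (fun g hg => mem_cz.1 hg)
    (by rw [hC]; norm_num) (by rw [hC]; norm_num) (by rw [hC])
  have hidx : (cz z).index = 55 := by
    have := (cz z).card_mul_index
    rw [hC, H.card] at this
    omega
  have hz2 : z * z = 1 := by rw [← sq, ← hz, pow_orderOf_eq_one]
  have hzi : z⁻¹ = z := inv_eq_of_mul_eq_one_right hz2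
  have hzcore : z ∉ Cfsg.pCore 2 G := by
    intro hmem
    obtain ⟨hn, hp⟩ := CfsgLib.Solvable.pCore_spec (p := 2) (G := G)
    rcases hn.eq_bot_or_eq_top with e | e
    · rw [e, mem_bot] at hmem
      rw [hmem, orderOf_one] at hz; norm_num at hz
    · have := H.card_two_group hp
      rw [e, card_top, H.card] at this
      norm_num at this
  obtain ⟨x, hx1, hodd, hinv⟩ := CfsgLib.Invol.exists_inverted_odd z hz hzcore
  obtain ⟨m, hm⟩ := hodd
  set y := x ^ (m + 1) with hy
  have hyy : y * y = x := by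
    rw [hy, ← pow_add, show m + 1 + (m + 1) = orderOf x + 1 by omega, pow_succ, pow_orderOf_eq_one, one_mul]
  have hzy : z * y * z⁻¹ = y⁻¹ := by rw [hy, ← conj_pow, hinv, inv_pow]
  set z' := y⁻¹ * z * y with hz'
  have hzz' : IsConj z z' := isConj_iff.2 ⟨y⁻¹, by rw [inv_inv]⟩
  have hz'e : z' = z * x := by
    have e : y⁻¹ * z = z * y := by rw [← hzy, mul_assoc, inv_mul_cancel, mul_one]
    rw [hz', e, mul_assoc, hyy]
  have hne : z' ≠ z := fun e => hx1 (by rwa [hz'e, mul_eq_left] at e)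
  set D := cz z ⊓ cz z' with hD
  have hDx : D ≤ cz x := fun g hg => mem_cz.2 (by
    have h1 : Commute g z := mem_cz.1 hg.1
    have h2 : Commute g (z * x) := hz'e ▸ mem_cz.1 hg.2
    have h3 := h1.mul_right h2
    rwa [← mul_assoc, hz2, one_mul] at h3)
  have horbit : (cz z').relIndex (cz z) ≤ 54 := by
    rw [← card_orbit_in]
    have hcl : Nat.card {w : G // IsConj z w ∧ w ≠ z} + 1 = 55 := by
      haveI := Fintype.ofFinite G
      rw [← hidx, ← card_conj, Nat.card_eq_fintype_card, Nat.card_eq_fintype_card, Fintype.card_subtype,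
        Fintype.card_subtype]
      rw [show (Finset.univ.filter fun w : G => IsConj z w) =
        insert z (Finset.univ.filter fun w => IsConj z w ∧ w ≠ z) by
          ext w
          simp only [Finset.mem_filter, Finset.mem_univ, true_and, Finset.mem_insert]
          exact ⟨fun h => (em (w = z)).imp_right fun hw => ⟨h, hw⟩,
            fun h => h.elim (fun hw => hw ▸ IsConj.refl z) And.left⟩, Finset.card_insert_of_notMem (by simp)]
    have := Nat.card_le_card_of_injective
      (fun w : {w : G // ∃ c ∈ cz z, c * z' * c⁻¹ = w} => (⟨w.1, by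
        obtain ⟨c, hc, e⟩ := w.2
        refine ⟨hzz'.trans (isConj_iff.2 ⟨c, e⟩), fun hwz => hne ?_⟩
        rw [hwz] at e
        have hcz : c * z * c⁻¹ = z := mul_inv_eq_iff_eq_mul.2 (mem_cz.1 hc)
        exact mul_left_cancel (mul_right_cancel (e.trans hcz.symm))⟩ : {w : G // IsConj z w ∧ w ≠ z}))
      fun a b h => Subtype.ext (congrArg Subtype.val h :)
    omega
  have hprod : (cz z').relIndex (cz z) * Nat.card D = 1728 := by
    rw [hD, ← hC, ← inf_relIndex_right (cz z') (cz z), inf_comm (cz z') (cz z), mul_comm,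
      ← relIndex_bot_left, ← relIndex_bot_left]
    exact relIndex_mul_relIndex ⊥ _ _ bot_le inf_le_left
  have hD32 : 32 ≤ Nat.card D := by
    by_contra h
    have := Nat.mul_le_mul horbit (show Nat.card D ≤ 31 by omega)
    omega
  have hx3 : orderOf x = 3 := by
    have hod : ¬ 2 ∣ orderOf x := by omega
    have hle := Nat.card_le_card_of_injective _ (inclusion_injective hDx)
    rcases H.order_mem x with e | e | e | e | e | e | e | e | e <;> rw [e] at hod <;>
      try omega
    · exact absurd (orderOf_eq_one_iff.1 e) hx1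
    · rw [(H.five_centralizer e).1] at hle; omega
    · haveI : Fact (Nat.Prime 11) := ⟨by norm_num⟩
      rw [H.eleven_centralizer e] at hle; omega
  have hzx : ¬ z * x = x * z := fun h => by
    rw [h, mul_inv_cancel_right] at hinv
    have h2 : x ^ 2 = 1 := by rw [sq]; nth_rw 2 [hinv]; exact mul_inv_cancel x
    have := orderOf_dvd_of_pow_eq_one h2
    rw [hx3] at this; norm_num at this
  have h9 : 9 ∣ Nat.card D := by
    have hd : Nat.card D ∣ 2 ^ 6 * 3 ^ 3 := (hC ▸ card_dvd_of_le inf_le_left).trans (by norm_num)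
    obtain ⟨d2, d3, hd2, hd3, he⟩ := exists_dvd_and_dvd_of_dvd_mul hd
    obtain ⟨i, hi, rfl⟩ := (Nat.dvd_prime_pow Nat.prime_two).1 hd2
    obtain ⟨j, hj, rfl⟩ := (Nat.dvd_prime_pow Nat.prime_three).1 hd3
    by_contra h9
    have hj1 : j ≤ 1 := by
      by_contra hj2
      exact h9 (he ▸ Dvd.dvd.mul_left (pow_dvd_pow 3 (by omega : 2 ≤ j)) _)
    have hi4 : 4 ≤ i := by
      by_contra hi3
      have h1 : 2 ^ i ≤ 2 ^ 3 := Nat.pow_le_pow_right two_pos (by omega)
      have h2 : 3 ^ j ≤ 3 ^ 1 := Nat.pow_le_pow_right (by norm_num) hj1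
      have := Nat.mul_le_mul h1 h2
      rw [← he] at this
      omega
    obtain ⟨R, hR⟩ := Sylow.exists_subgroup_card_pow_prime 2 (G := D) (n := 4)
      (he ▸ Dvd.dvd.mul_right (pow_dvd_pow 2 hi4) _)
    set E := R.map D.subtype with hE
    have hEsq : ∀ e ∈ E, e * e = 1 := by
      rintro _ ⟨r, hr, rfl⟩
      obtain ⟨k, hk⟩ := IsPGroup.of_card hR ⟨r, hr⟩
      exact H.sq_one_of_three hx3 (mem_cz.1 (hDx r.2)) (k := k) (by simpa [Subtype.ext_iff] using hk)
    obtain ⟨E', hE', hcard, -, -⟩ := elementary_insert hEsq hz2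
      (fun e he => mem_cz.1 (map_subtype_le R he).1) fun h => hzx (mem_cz.1 (hDx (map_subtype_le R h)))
    have := H.elementary_le hE'
    rw [hE, card_map_of_injective D.subtype_injective, hR] at hcard
    omega
  obtain ⟨R, hR⟩ := Sylow.exists_subgroup_card_pow_prime 3 (G := D) (n := 2) (by norm_num; exact h9)
  set B := R.map D.subtype with hB
  have hBc : Nat.card B = 9 := by rw [hB, card_map_of_injective D.subtype_injective, hR]; norm_num
  have hBD : B ≤ D := map_subtype_le R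
  have hB3 : ∀ b ∈ B, b ^ 3 = 1 := fun b hb => H.three_pow (k := 2)
    (orderOf_dvd_iff_pow_eq_one.1 (by simpa [hBc] using Subgroup.orderOf_dvd_natCard B hb))
  haveI := IsPGroup.isMulCommutative_of_card_eq_prime_sq (p := 3) (G := B) (by rw [hBc]; norm_num)
  -- the Sylow 3-subgroups are abelian
  have hab : ∀ P : Subgroup G, IsPGroup 3 P → ∀ a ∈ P, ∀ b ∈ P, a * b = b * a := by
    have hn : zpowers x ≤ normalizer (B : Set G) := zpowers_le.2
      (centralizer_le_normalizer _ (mem_centralizer_iff.2 fun e he => mem_cz.1 (hDx (hBD he))))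
    set T := B ⊔ zpowers x with hT
    have hTmem : ∀ t ∈ T, ∃ b ∈ B, ∃ i : ℤ, b * x ^ i = t := fun t ht => by
      rw [← SetLike.mem_coe, hT, coe_mul_of_right_le_normalizer_left _ _ hn] at ht
      obtain ⟨a, ha, _, ⟨i, rfl⟩, rfl⟩ := Set.mem_mul.1 ht
      exact ⟨a, ha, i, rfl⟩
    have hcom : ∀ s ∈ T, ∀ t ∈ T, s * t = t * s := fun s hs t ht => by
      obtain ⟨b, hb, i, rfl⟩ := hTmem s hs
      obtain ⟨c, hc, j, rfl⟩ := hTmem t ht
      have hbc : Commute b c := setLike_mul_comm (S := Subgroup G) hb hc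
      have hbx : Commute b x := mem_cz.1 (hDx (hBD hb))
      have hcx : Commute c x := mem_cz.1 (hDx (hBD hc))
      exact ((hbc.mul_right (hbx.zpow_right j)).mul_left
        ((hcx.symm.zpow_left i).mul_right ((Commute.refl x).zpow_zpow i j))).eq
    have hT3 : IsPGroup 3 T := fun t => ⟨1, Subtype.ext (by
      obtain ⟨b, hb, i, hi⟩ := hTmem t t.2
      rw [SubmonoidClass.coe_pow, pow_one, ← hi, OneMemClass.coe_one,
        ((show Commute b x from mem_cz.1 (hDx (hBD hb))).zpow_right i).mul_pow, hB3 b hb, one_mul,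
        ← zpow_natCast, ← zpow_mul, mul_comm, zpow_mul, zpow_natCast, ← hx3, pow_orderOf_eq_one, one_zpow])⟩
    obtain ⟨P₀, hP₀⟩ := hT3.exists_le_sylow
    have h27 : T = (P₀ : Subgroup G) := by
      refine eq_of_le_of_card_ge hP₀ ?_
      obtain ⟨i, hi, he⟩ := (Nat.dvd_prime_pow Nat.prime_three).1
        (show Nat.card T ∣ 3 ^ 3 by rw [show (3 : ℕ) ^ 3 = 27 from rfl, ← H.card_sylow_three P₀]; exact card_dvd_of_le hP₀)
      have hlt : Nat.card B < Nat.card T := lt_of_le_of_ne (Nat.le_of_dvd Nat.card_pos (card_dvd_of_le le_sup_left))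
        fun e => hzx (mem_cz.1 (hBD (eq_of_le_of_card_ge le_sup_left e.ge ▸ mem_sup_right (mem_zpowers x))).1).symm
      rw [H.card_sylow_three, he]
      rw [hBc, he] at hlt
      interval_cases i <;> norm_num at hlt <;> norm_num
    intro P hP a ha b hb
    obtain ⟨Q, hQ⟩ := hP.exists_le_sylow
    obtain ⟨g, hg⟩ := MulAction.exists_smul_eq G P₀ Q
    obtain ⟨a', ha', hae⟩ := (hg ▸ hQ ha :)
    obtain ⟨b', hb', hbe⟩ := (hg ▸ hQ hb :)
    rw [← hae, ← hbe]
    show g * a' * g⁻¹ * (g * b' * g⁻¹) = g * b' * g⁻¹ * (g * a' * g⁻¹)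
    calc g * a' * g⁻¹ * (g * b' * g⁻¹) = g * (a' * b') * g⁻¹ := by group
      _ = _ := by rw [hcom a' (h27 ▸ ha') b' (h27 ▸ hb')]; group
  -- all 3-elements of `C` centralize `A`
  have hA3 : ∀ a ∈ A, a ^ 3 = 1 := fun a ha => H.three_pow (k := 2)
    (orderOf_dvd_iff_pow_eq_one.1 (by simpa [hA] using Subgroup.orderOf_dvd_natCard A ha))
  have hAp : IsPGroup 3 A := IsPGroup.of_card (n := 2) (by rw [hA]; norm_num)
  have hA27 : ∀ S : Subgroup G, S ≤ cz z → Nat.card S = 27 → A ≤ S := by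
    intro S hS hS27
    have hSn : S ≤ normalizer (A : Set G) := fun s hs => mem_normalizer_iff.2 fun g => ⟨hAn s (hS hs) g, fun hg => by
      simpa [mul_assoc] using hAn s⁻¹ (inv_mem (hS hs)) _ hg⟩
    have hp : IsPGroup 3 (A ⊔ S : Subgroup G) :=
      hAp.to_sup_of_normal_left' (IsPGroup.of_card (n := 3) (by rw [hS27]; norm_num)) hSn
    obtain ⟨P, hP⟩ := hp.exists_le_sylow
    rw [eq_of_le_of_card_ge (le_sup_right.trans hP) (by rw [H.card_sylow_three, hS27])]
    exact le_sup_left.trans hP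
  set K := cz z ⊓ centralizer (A : Set G) with hK
  have hSK : ∀ S : Subgroup G, S ≤ cz z → Nat.card S = 27 → S ≤ K := fun S hS hS27 s hs =>
    ⟨hS hs, mem_centralizer_iff.2 fun a ha => hab S (IsPGroup.of_card (n := 3) (by rw [hS27]; norm_num)) a
      (hA27 S hS hS27 ha) s hs⟩
  obtain ⟨R3, hR3⟩ := Sylow.exists_subgroup_card_pow_prime 3 (G := cz z) (n := 3) (by rw [hC]; norm_num)
  set S₀ := R3.map (cz z).subtype with hS₀
  have hS₀c : Nat.card S₀ = 27 := by rw [hS₀, card_map_of_injective (cz z).subtype_injective, hR3]; norm_num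
  have hS₀C : S₀ ≤ cz z := map_subtype_le R3
  have hS₀K := hSK S₀ hS₀C hS₀c
  have hzK : z ∈ K := ⟨self_mem_cz z, mem_centralizer_iff.2 fun a ha => mem_cz.1 (hAC ha)⟩
  have hK32 : ¬ 32 ∣ Nat.card K := H.two_part_le fun g hg k hk => by
    obtain ⟨a, ha⟩ := exists_prime_orderOf_dvd_card' (G := A) 3 (by rw [hA]; norm_num)
    rw [← Subgroup.orderOf_coe] at ha
    exact H.sq_one_of_three ha (mem_centralizer_iff.1 hg.2 a a.2).symm hk
  obtain ⟨jj, hj, hKc⟩ : ∃ j, j ≤ 4 ∧ Nat.card K = 27 * 2 ^ j := by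
    obtain ⟨c, hc⟩ : 27 ∣ Nat.card K := hS₀c ▸ card_dvd_of_le hS₀K
    have hd : Nat.card K ∣ 27 * 2 ^ 6 := (hC ▸ card_dvd_of_le (inf_le_left : K ≤ cz z)).trans (by norm_num)
    rw [hc] at hd
    obtain ⟨j, hj6, rfl⟩ := (Nat.dvd_prime_pow Nat.prime_two).1 (Nat.dvd_of_mul_dvd_mul_left (by norm_num) hd)
    refine ⟨j, ?_, hc⟩
    by_contra hj5
    exact hK32 (hc ▸ Dvd.dvd.mul_left (pow_dvd_pow 2 (show 5 ≤ j by omega)) 27)
  let toSyl : ∀ S : Subgroup G, S ≤ K → Nat.card S = 27 → Sylow 3 K := fun S hS h27 => Sylow.ofCard (S.subgroupOf K) (by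
    rw [Nat.card_congr (subgroupOfEquivOfLe hS).toEquiv, h27, hKc,
      Nat.factorization_mul (by norm_num) (by positivity), Finsupp.add_apply,
      show (27 : ℕ) = 3 ^ 3 from rfl, Nat.Prime.factorization_pow Nat.prime_three, Finsupp.single_eq_same,
      Nat.Prime.factorization_pow Nat.prime_two, Finsupp.single_eq_of_ne (by norm_num), add_zero])
  let P := toSyl S₀ hS₀K hS₀c
  have hPeq : (P : Subgroup K) = S₀.subgroupOf K := rfl
  have hPc : Nat.card (P : Subgroup K) = 27 := by
    rw [hPeq, Nat.card_congr (subgroupOfEquivOfLe hS₀K).toEquiv, hS₀c]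
  have hidxP : (P : Subgroup K).index = 2 ^ jj := by
    have := (P : Subgroup K).card_mul_index
    rw [hPc, hKc] at this
    exact Nat.eq_of_mul_eq_mul_left (by norm_num) this
  have hdvd := hidxP ▸ P.card_dvd_index
  have hmod : Nat.card (Sylow 3 K) % 3 = 1 := card_sylow_modEq_one 3 K
  obtain ⟨i, hij, hi⟩ := (Nat.dvd_prime_pow Nat.prime_two).1 hdvd
  have hn1 : Nat.card (Sylow 3 K) ≠ 1 := fun h1 => by
    refine H.sylow_three_large hC hS₀c fun c hc s hs => ?_
    have hle : S₀.map (MulAut.conj c).toMonoidHom ≤ cz z := by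
      rintro _ ⟨t, ht, rfl⟩
      exact mul_mem (mul_mem hc (hS₀C ht)) (inv_mem hc)
    have hc27 : Nat.card (S₀.map (MulAut.conj c).toMonoidHom : Subgroup G) = 27 :=
      (card_map_of_injective (MulAut.conj c).injective).trans hS₀c
    haveI := (Nat.card_eq_one_iff_unique.1 h1).1
    have heq := congrArg (fun Q : Sylow 3 K => (Q : Subgroup K).map K.subtype)
      (Subsingleton.elim (toSyl _ (hSK _ hle hc27) hc27) P)
    have heq' : ((S₀.map (MulAut.conj c).toMonoidHom).subgroupOf K).map K.subtype =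
        (S₀.subgroupOf K).map K.subtype := heq
    rw [map_subgroupOf_eq_of_le (hSK _ hle hc27), map_subgroupOf_eq_of_le hS₀K] at heq'
    exact heq' ▸ ⟨s, hs, rfl⟩
  have hn16 : Nat.card (Sylow 3 K) ≠ 16 := fun h16 => by
    have hmul := CfsgLib.SmallSimple.card_sylow_mul P
    rw [h16, hKc] at hmul
    set N := normalizer ((P : Subgroup K) : Set K) with hN
    have h27 : 27 ∣ Nat.card N := hPc ▸ card_dvd_of_le le_normalizer
    have h2 : 2 ∣ Nat.card N := by
      have hzN : (⟨z, hzK⟩ : K) ∈ N := by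
        refine mem_normalizer_iff.2 fun g => ?_
        have hgz : (⟨z, hzK⟩ : K) * g * (⟨z, hzK⟩ : K)⁻¹ = g :=
          mul_inv_eq_iff_eq_mul.2 (Subtype.ext (mem_cz.1 g.2.1).symm)
        rw [hgz]
      have := Subgroup.orderOf_dvd_natCard N hzN
      rwa [← Subgroup.orderOf_coe, hz] at this
    have h54 : 54 ∣ Nat.card N := Nat.Coprime.mul_dvd_of_dvd_of_dvd (by norm_num : Nat.Coprime 27 2) h27 h2
    have := Nat.le_of_dvd Nat.card_pos h54
    have : 2 ^ jj ≤ 2 ^ 4 := Nat.pow_le_pow_right two_pos hj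
    omega
  have hn4 : Nat.card (Sylow 3 K) = 4 := by
    have : i ≤ 4 := le_trans hij hj
    rw [hi] at hmod hn1 hn16 ⊢
    interval_cases i <;> omega
  -- at most 80 elements of order 3 centralize `z`
  have hex : ∀ g : {g : G // (orderOf g = 3 ∧ Commute z g) ∧ g ∉ A},
      ∃ (hgK : g.1 ∈ K) (Q : Sylow 3 K), (⟨g.1, hgK⟩ : K) ∈ (Q : Subgroup K) := by
    rintro ⟨g, ⟨hg, hgz⟩, -⟩
    obtain ⟨Q, hQ⟩ := (IsPGroup.of_card (n := 1) (by rw [Nat.card_zpowers, ← Subgroup.orderOf_coe]; simpa using hg) :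
      IsPGroup 3 (zpowers (⟨g, mem_cz.2 hgz.eq.symm⟩ : cz z))).exists_le_sylow
    have hQ27 : Nat.card ((Q : Subgroup (cz z)).map (cz z).subtype : Subgroup G) = 27 := by
      rw [card_map_of_injective (cz z).subtype_injective,
        card_sylow_eq Q (k := 3) (m := 64) (by rw [hC]; norm_num) (by norm_num)]
      norm_num
    have hgQ : g ∈ (Q : Subgroup (cz z)).map (cz z).subtype := ⟨_, hQ (mem_zpowers _), rfl⟩
    have hgK := hSK _ (map_subtype_le _) hQ27 hgQ
    exact ⟨hgK, toSyl _ (hSK _ (map_subtype_le _) hQ27) hQ27, hgQ⟩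
  choose hgK FQ hFQ using hex
  have hout : ∀ Q : Sylow 3 K, Nat.card {g : (Q : Subgroup K) // ((g : K) : G) ∉ A} = 18 := by
    intro Q
    haveI := Fintype.ofFinite (Q : Subgroup K)
    have hQc : Nat.card (Q : Subgroup K) = 27 := by
      rw [card_sylow_eq Q (k := 3) (m := 2 ^ jj) (by rw [hKc]; norm_num) (fun h => by
        have := Nat.Prime.dvd_of_dvd_pow Nat.prime_three h
        norm_num at this)]
      norm_num
    have hQ27 : Nat.card ((Q : Subgroup K).map K.subtype : Subgroup G) = 27 := by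
      rw [card_map_of_injective K.subtype_injective, hQc]
    have hAQ := hA27 _ ((map_subtype_le _).trans inf_le_left) hQ27
    have hin : Nat.card {g : (Q : Subgroup K) // ((g : K) : G) ∈ A} = 9 := by
      rw [← hA]
      refine Nat.card_eq_of_bijective (fun g => (⟨((g.1 : K) : G), g.2⟩ : A)) ⟨fun a b h => ?_, fun a => ?_⟩
      · exact Subtype.ext (Subtype.ext (Subtype.ext (congrArg (fun t : A => (t : G)) h :)))
      · obtain ⟨k, hk, he⟩ := hAQ a.2
        exact ⟨⟨⟨k, hk⟩, show (k : G) ∈ A by rw [show (k : G) = a from he]; exact a.2⟩, Subtype.ext he⟩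
    rw [Nat.card_eq_fintype_card, Fintype.card_subtype_compl, ← Nat.card_eq_fintype_card,
      ← Nat.card_eq_fintype_card, hin, hQc]
  have hf3 : f3 z ≤ 80 := by
    haveI := Fintype.ofFinite G
    haveI := Fintype.ofFinite (Sylow 3 K)
    have hsplit : f3 z = Nat.card {g : G // (orderOf g = 3 ∧ Commute z g) ∧ g ∈ A} +
        Nat.card {g : G // (orderOf g = 3 ∧ Commute z g) ∧ g ∉ A} := by
      rw [f3, Nat.card_eq_fintype_card, Nat.card_eq_fintype_card, Nat.card_eq_fintype_card, Fintype.card_subtype,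
        Fintype.card_subtype, Fintype.card_subtype, ← Finset.card_filter_add_card_filter_not
          (s := Finset.univ.filter fun g => orderOf g = 3 ∧ Commute z g) (fun g => g ∈ A),
        Finset.filter_filter, Finset.filter_filter]
    have h1 : Nat.card {g : G // (orderOf g = 3 ∧ Commute z g) ∧ g ∈ A} ≤ 8 := by
      haveI := Fintype.ofFinite A
      refine (Nat.card_le_card_of_injective (fun g => (⟨⟨g.1, g.2.2⟩, fun e => by
        have h1 : g.1 = 1 := congrArg Subtype.val e
        have := g.2.1.1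
        rw [h1, orderOf_one] at this; norm_num at this⟩ : {a : A // a ≠ 1}))
        fun a b h => Subtype.ext (congrArg (fun t : {a : A // a ≠ 1} => (t.1 : G)) h)).trans ?_
      rw [Nat.card_eq_fintype_card, Fintype.card_subtype_compl, Fintype.card_subtype_eq,
        ← Nat.card_eq_fintype_card, hA]
    have h2 : Nat.card {g : G // (orderOf g = 3 ∧ Commute z g) ∧ g ∉ A} ≤ 4 * 18 := by
      refine (Nat.card_le_card_of_injective (fun g => (⟨FQ g, ⟨⟨⟨g.1, hgK g⟩, hFQ g⟩, g.2.2⟩⟩ :
        Σ Q : Sylow 3 K, {g : (Q : Subgroup K) // ((g : K) : G) ∉ A}))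
        fun a b h => Subtype.ext (congrArg
          (fun t : Σ Q : Sylow 3 K, {g : (Q : Subgroup K) // ((g : K) : G) ∉ A} => ((t.2.1 : K) : G)) h)).trans ?_
      rw [Nat.card_sigma, Finset.sum_const_nat (m := 18) (fun Q _ => hout Q), Finset.card_univ,
        ← Nat.card_eq_fintype_card, hn4]
    omega
  -- every element of order 3 centralizes a conjugate of `z`, one of them two
  have hw : ∀ g : {g : G // orderOf g = 3}, ∃ w, IsConj z w ∧ Commute w g.1 := by
    rintro ⟨g, hg⟩
    obtain ⟨Q, hQ⟩ := (IsPGroup.of_card (n := 1) (by rw [Nat.card_zpowers, hg, pow_one]) :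
      IsPGroup 3 (zpowers g)).exists_le_sylow
    obtain ⟨Q₀, hQ₀⟩ := (IsPGroup.of_card (n := 3) (by rw [hS₀c]; norm_num) : IsPGroup 3 S₀).exists_le_sylow
    have hQ₀e : S₀ = (Q₀ : Subgroup G) := eq_of_le_of_card_ge hQ₀ (by rw [H.card_sylow_three, hS₀c])
    obtain ⟨c, hc⟩ := MulAction.exists_smul_eq G Q₀ Q
    obtain ⟨t, ht, he⟩ := (hc ▸ hQ (mem_zpowers g) :)
    have htz : Commute z t := (mem_cz.1 (hS₀C (hQ₀e.symm ▸ ht))).symm
    refine ⟨c * z * c⁻¹, isConj_iff.2 ⟨c, rfl⟩, ?_⟩
    show Commute (c * z * c⁻¹) g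
    rw [show g = c * t * c⁻¹ from he.symm]
    exact (Commute.conj_iff c).2 htz
  choose W hWc hWg using hw
  obtain ⟨b, hb⟩ := exists_prime_orderOf_dvd_card' (G := B) 3 (by rw [hBc]; norm_num)
  rw [← Subgroup.orderOf_coe] at hb
  have hbD := hBD b.2
  obtain ⟨w₂, hw₂c, hw₂b, hw₂ne⟩ : ∃ w₂, IsConj z w₂ ∧ Commute w₂ (b : G) ∧ w₂ ≠ W ⟨b, hb⟩ := by
    by_cases e : W ⟨b, hb⟩ = z
    · exact ⟨z', hzz', (mem_cz.1 hbD.2).symm, fun h => hne (h.trans e)⟩
    · exact ⟨z, IsConj.refl z, (mem_cz.1 hbD.1).symm, fun h => e h.symm⟩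
  haveI := Fintype.ofFinite {g : G // orderOf g = 3}
  have hpairs := card_pairs (IsConj z) (fun w g => orderOf g = 3 ∧ Commute w g) fun w hw => f3_conj hw
  rw [card_conj, hidx] at hpairs
  have hinj := Nat.card_le_card_of_injective
    (fun o : Option {g : G // orderOf g = 3} => (match o with
      | none => ⟨(w₂, (b : G)), hw₂c, hb, hw₂b⟩
      | some g => ⟨(W g, g.1), hWc g, g.2, hWg g⟩ :
        {p : G × G // IsConj z p.1 ∧ orderOf p.2 = 3 ∧ Commute p.1 p.2})) (by
      rintro (_ | g) (_ | g') h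
      · rfl
      · exfalso
        have h1 := congrArg (fun p : {p : G × G // IsConj z p.1 ∧ orderOf p.2 = 3 ∧ Commute p.1 p.2} => p.1) h
        simp only [Prod.mk.injEq] at h1
        exact hw₂ne (by rw [h1.1]; congr 1; exact Subtype.ext h1.2.symm)
      · exfalso
        have h1 := congrArg (fun p : {p : G × G // IsConj z p.1 ∧ orderOf p.2 = 3 ∧ Commute p.1 p.2} => p.1) h
        simp only [Prod.mk.injEq] at h1
        exact hw₂ne (by rw [← h1.1]; congr 1; exact Subtype.ext h1.2)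
      · have h1 := congrArg (fun p : {p : G × G // IsConj z p.1 ∧ orderOf p.2 = 3 ∧ Commute p.1 p.2} => p.1.2) h
        exact congrArg some (Subtype.ext h1))
  have h4 : Nat.card {g : G // orderOf g = 3} = 4400 := H.three_count
  rw [Nat.card_eq_fintype_card, Fintype.card_option, ← Nat.card_eq_fintype_card, h4, hpairs] at hinj
  omega

/-- No involution centralizes a subgroup of order 1728. -/
theorem no_1728 {z : G} (hz : orderOf z = 2) (hC : 1728 ∣ Nat.card (cz z)) : False := by
  rcases H.card_cz_invol hz with h | h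
  · rw [h] at hC; norm_num at hC
  · exact H.no_1728' hz (Nat.dvd_antisymm h hC)

end Counts

end CfsgLib.M12Nse
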