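import Cfsg.Agent.M12Nse.Five
import Cfsg.Agent.FGSB.FrobeniusRoots
import Mathlib.GroupTheory.SpecificGroups.Cyclic
import Mathlib.NumberTheory.Divisors

/-!
# The element orders
-/

set_option autoImplicit false
set_option linter.style.haveILetI false
set_option linter.unusedSectionVars false

namespace CfsgLib.M12Nse

open Subgroup CfsgLib.M11Nse

variable {G : Type*} [Group G] [Finite G]

theorem totient_dvd_cnt (n : ℕ) : Nat.totient n ∣ cnt G n := by
  classical
  haveI := Fintype.ofFinite G
  rw [cnt, Nat.card_eq_fintype_card, Fintype.card_subtype,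
    Finset.card_eq_sum_card_fiberwise (f := fun g : G => zpowers g) (t := Finset.univ) fun _ _ => Finset.mem_univ _]
  refine Finset.dvd_sum fun Z _ => ?_
  by_cases hZ : ∃ g, orderOf g = n ∧ zpowers g = Z
  · obtain ⟨g, hg, rfl⟩ := hZ
    refine dvd_of_eq ?_
    haveI := Fintype.ofFinite (zpowers g)
    rw [← IsCyclic.card_orderOf_eq_totient (α := zpowers g)
      (show n ∣ Fintype.card (zpowers g) by rw [← Nat.card_eq_fintype_card, Nat.card_zpowers, hg]),
      Finset.filter_filter]
    refine Finset.card_bij (fun h _ => (h : G)) (fun h hh => ?_) (fun _ _ _ _ e => Subtype.ext e) fun h hh => ?_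
    · rw [Finset.mem_filter] at hh ⊢
      have ho : orderOf (h : G) = n := by rw [Subgroup.orderOf_coe]; exact hh.2
      exact ⟨Finset.mem_univ _, ho, eq_of_le_of_card_ge (zpowers_le.2 h.2)
        (by rw [Nat.card_zpowers, Nat.card_zpowers, ho, hg])⟩
    · rw [Finset.mem_filter] at hh
      refine ⟨⟨h, hh.2.2 ▸ mem_zpowers h⟩, ?_, rfl⟩
      rw [Finset.mem_filter]
      exact ⟨Finset.mem_univ _, by rw [← Subgroup.orderOf_coe]; exact hh.2.1⟩
  · push Not at hZ
    rw [Finset.card_eq_zero.2]
    · exact dvd_zero _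
    · rw [Finset.filter_eq_empty_iff]
      intro x hx
      exact hZ x (Finset.mem_filter.1 hx).2

theorem exists_orderOf_dvd {n d : ℕ} {g : G} (hg : orderOf g = n) (hd : d ∣ n) : ∃ h : G, orderOf h = d := by
  obtain ⟨e, rfl⟩ := hd
  rcases Nat.eq_zero_or_pos e with rfl | he
  · exact absurd (orderOf_pos g) (by rw [hg, mul_zero]; exact lt_irrefl 0)
  exact ⟨g ^ e, by rw [orderOf_pow' g he.ne', hg, Nat.gcd_mul_left_left, Nat.mul_div_cancel _ he]⟩

namespace Counts

variable (H : Counts G)
include H

theorem two_count : cnt G 2 = 891 := by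
  classical
  haveI := H.isSimple
  obtain ⟨u, hu⟩ : ∃ u : G, orderOf u = 2 := by
    haveI : Fact (Nat.Prime 2) := ⟨Nat.prime_two⟩
    exact exists_prime_orderOf_dvd_card' 2 (by rw [H.card]; norm_num)
  have hodd : 2 ∣ cnt G 2 + 1 := by
    have h := CfsgLib.FrobRoots.gcd_dvd_card_pow_eq_one G 2
    rw [H.card, show Nat.gcd 2 95040 = 2 from rfl] at h
    refine h.trans (dvd_of_eq ?_)
    haveI := Fintype.ofFinite G
    rw [cnt, Nat.card_eq_fintype_card, Nat.card_eq_fintype_card, Fintype.card_subtype, Fintype.card_subtype]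
    rw [show (Finset.univ.filter fun x : G => x ^ 2 = 1) = insert 1 (Finset.univ.filter fun x => orderOf x = 2) by
      ext x
      simp only [Finset.mem_filter, Finset.mem_univ, true_and, Finset.mem_insert]
      constructor
      · intro h2
        rcases (Nat.dvd_prime Nat.prime_two).1 (orderOf_dvd_of_pow_eq_one h2) with e | e
        exacts [Or.inl (orderOf_eq_one_iff.1 e), Or.inr e]
      · rintro (rfl | e)
        · exact one_pow 2
        · rw [← e]; exact pow_orderOf_eq_one x, Finset.card_insert_of_notMem (by simp)]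
  rcases H.cases 2 with h | h | h | h | h | h | h | h <;> rw [h] at hodd
  all_goals try omega
  exfalso
  obtain ⟨hs, -⟩ := Nat.card_eq_one_iff_unique.1 (show Nat.card {g : G // orderOf g = 2} = 1 from h)
  have hc : u ∈ center G := mem_center_iff.2 fun g => by
    have := congrArg Subtype.val (hs.elim ⟨g * u * g⁻¹, by
      rw [orderOf_eq_of_isConj (isConj_iff.2 ⟨g, rfl⟩), hu]⟩ ⟨u, hu⟩)
    exact mul_inv_eq_iff_eq_mul.1 this
  rcases (inferInstance : (center G).Normal).eq_bot_or_eq_top with e | e
  · rw [e, mem_bot] at hc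
    rw [hc, orderOf_one] at hu
    norm_num at hu
  · exact H.not_comm ⟨⟨fun a b => (mem_center_iff.1 (e ▸ mem_top a) b).symm⟩⟩

theorem three_dvd : 3 ∣ cnt G 3 + 1 := by
  classical
  have h := CfsgLib.FrobRoots.gcd_dvd_card_pow_eq_one G 3
  rw [H.card, show Nat.gcd 3 95040 = 3 from rfl] at h
  refine h.trans (dvd_of_eq ?_)
  haveI := Fintype.ofFinite G
  rw [cnt, Nat.card_eq_fintype_card, Nat.card_eq_fintype_card, Fintype.card_subtype, Fintype.card_subtype]
  rw [show (Finset.univ.filter fun x : G => x ^ 3 = 1) = insert 1 (Finset.univ.filter fun x => orderOf x = 3) by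
    ext x
    simp only [Finset.mem_filter, Finset.mem_univ, true_and, Finset.mem_insert]
    constructor
    · intro h2
      rcases (Nat.dvd_prime Nat.prime_three).1 (orderOf_dvd_of_pow_eq_one h2) with e | e
      exacts [Or.inl (orderOf_eq_one_iff.1 e), Or.inr e]
    · rintro (rfl | e)
      · exact one_pow 3
      · rw [← e]; exact pow_orderOf_eq_one x, Finset.card_insert_of_notMem (by simp)]

theorem three_count : cnt G 3 = 4400 := by
  have hd := H.three_dvd
  haveI : Fact (Nat.Prime 3) := ⟨Nat.prime_three⟩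
  obtain ⟨x, hx⟩ := exists_prime_orderOf_dvd_card' (G := G) 3 (by rw [H.card]; norm_num)
  have h55 : 55 ∣ cnt G 3 := by
    refine dvd_card_of_index (fun g h hgh hg => (orderOf_eq_of_isConj hgh).trans hg) fun g hg => ?_
    have hne : g ≠ 1 := fun h => by rw [h, orderOf_one] at hg; norm_num at hg
    have h11 := H.not_eleven_dvd hne (by omega)
    have h5 : ¬ 5 ∣ Nat.card (cz g) := fun h => by
      have := H.five_dvd_cz h
      rw [hg] at this
      norm_num at this
    have hm := (cz g).card_mul_index
    rw [H.card] at hm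
    have h1 : 11 ∣ (cz g).index := ((Nat.prime_iff.1 (by norm_num : Nat.Prime 11)).dvd_or_dvd
      (show 11 ∣ Nat.card (cz g) * (cz g).index by rw [hm]; norm_num)).resolve_left h11
    have h2 : 5 ∣ (cz g).index := ((Nat.prime_iff.1 (by norm_num : Nat.Prime 5)).dvd_or_dvd
      (show 5 ∣ Nat.card (cz g) * (cz g).index by rw [hm]; norm_num)).resolve_left h5
    exact Nat.Coprime.mul_dvd_of_dvd_of_dvd (by norm_num : Nat.Coprime 5 11) h2 h1
  have hpos := cnt_pos hx
  rcases H.cases 3 with h | h | h | h | h | h | h | h <;> rw [h] at hd h55 hpos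
  all_goals omega

/-- The element orders and counts. -/
theorem spectrum : (∀ g : G, orderOf g ∈ ({1, 2, 3, 4, 5, 6, 8, 10, 11} : Finset ℕ)) ∧
    cnt G 6 = 23760 ∧ ∃ d : G, orderOf d = 8 := by
  classical
  haveI := Fintype.ofFinite G
  haveI : Fact (Nat.Prime 11) := ⟨by norm_num⟩
  haveI : Fact (Nat.Prime 5) := ⟨by norm_num⟩
  set S : Finset ℕ := Finset.univ.image (orderOf : G → ℕ) with hSdef
  have hmemS : ∀ {n}, n ∈ S ↔ ∃ g : G, orderOf g = n := by simp [hSdef]
  have hsumP : ∀ p : ℕ → Prop, ∀ [DecidablePred p],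
      Nat.card {g : G // p (orderOf g)} = ∑ n ∈ S.filter p, cnt G n := by
    intro p _
    rw [Nat.card_eq_fintype_card, Fintype.card_subtype,
      Finset.card_eq_sum_card_fiberwise (f := fun g : G => orderOf g) (t := S.filter p) fun g hg => ?_]
    · refine Finset.sum_congr rfl fun n hn => ?_
      rw [cnt, Nat.card_eq_fintype_card, Fintype.card_subtype, Finset.filter_filter]
      congr 1
      ext g
      simp only [Finset.mem_filter, Finset.mem_univ, true_and] at hn ⊢
      exact ⟨fun h => h.2, fun h => ⟨h ▸ hn.2, h⟩⟩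
    · simp only [Finset.coe_filter, Set.mem_setOf_eq, Finset.mem_univ, true_and] at hg ⊢
      exact ⟨hmemS.2 ⟨g, rfl⟩, hg⟩
  set E : Finset ℕ := {1, 2, 3, 5, 10, 11} with hE
  set R := S.filter (fun n => n ∉ E) with hR
  have hmemR : ∀ {n}, n ∈ R ↔ n ∈ S ∧ n ∉ E := by simp [hR]
  -- the values outside `E`
  have hval : ∀ n ∈ R, cnt G n = 4400 ∨ cnt G n = 5940 ∨ cnt G n = 23760 := by
    intro n hn
    obtain ⟨hnS, hnE⟩ := hmemR.1 hn
    obtain ⟨g₀, hg₀⟩ := hmemS.1 hnS
    simp only [hE, Finset.mem_insert, Finset.mem_singleton, not_or] at hnE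
    have h55 : 55 ∣ cnt G n := by
      refine dvd_card_of_index (fun g h hgh hg => (orderOf_eq_of_isConj hgh).trans hg) fun g hg => ?_
      have hne : g ≠ 1 := fun h => by rw [h, orderOf_one] at hg; omega
      have h11 := H.not_eleven_dvd hne (by omega)
      have h5 : ¬ 5 ∣ Nat.card (cz g) := fun h => by
        have := H.five_dvd_cz h
        rw [hg] at this
        have := Nat.mem_divisors.2 ⟨this, (by norm_num : (10 : ℕ) ≠ 0)⟩
        rw [show (10 : ℕ).divisors = {1, 2, 5, 10} by decide] at this
        simp only [Finset.mem_insert, Finset.mem_singleton] at this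
        omega
      have hm := (cz g).card_mul_index
      rw [H.card] at hm
      have h1 : 11 ∣ (cz g).index := ((Nat.prime_iff.1 (by norm_num : Nat.Prime 11)).dvd_or_dvd
        (show 11 ∣ Nat.card (cz g) * (cz g).index by rw [hm]; norm_num)).resolve_left h11
      have h2 : 5 ∣ (cz g).index := ((Nat.prime_iff.1 (by norm_num : Nat.Prime 5)).dvd_or_dvd
        (show 5 ∣ Nat.card (cz g) * (cz g).index by rw [hm]; norm_num)).resolve_left h5
      exact Nat.Coprime.mul_dvd_of_dvd_of_dvd (by norm_num : Nat.Coprime 5 11) h2 h1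
    have hpos := cnt_pos hg₀
    rcases H.cases n with h | h | h | h | h | h | h | h <;> rw [h] at h55 hpos
    all_goals omega
  -- the sum outside `E`
  have hEsum : ∑ n ∈ R, cnt G n = 53460 := by
    have htot := hsumP (fun _ => True)
    rw [Nat.card_congr (Equiv.subtypeUnivEquiv fun _ => trivial), H.card, Finset.filter_true_of_mem (fun _ _ => trivial),
      ← Finset.sum_filter_add_sum_filter_not S (fun n => n ∈ E)] at htot
    have hin : S.filter (fun n => n ∈ E) = E := by
      ext n
      simp only [Finset.mem_filter, and_iff_right_iff_imp]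
      intro hn
      simp only [hE, Finset.mem_insert, Finset.mem_singleton] at hn
      refine hmemS.2 (exists_of_cnt (G := G) ?_)
      rcases hn with rfl | rfl | rfl | rfl | rfl | rfl
      · rw [cnt_one]; norm_num
      · rw [H.two_count]; norm_num
      · rw [H.three_count]; norm_num
      · rw [H.five_count.2.1]; norm_num
      · rw [H.ten_count]; norm_num
      · rw [cnt_prime (fun P => H.sylow_eleven P), H.eleven_count.1]; norm_num
    rw [hin, ← hR, hE, Finset.sum_insert (by decide), Finset.sum_insert (by decide), Finset.sum_insert (by decide),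
      Finset.sum_insert (by decide), Finset.sum_insert (by decide), Finset.sum_singleton, cnt_one, H.two_count,
      H.three_count, H.five_count.2.1, H.ten_count, cnt_prime (fun P => H.sylow_eleven P), H.eleven_count.1] at htot
    omega
  -- no value 4400
  have hunit : ∀ n ∈ R, cnt G n = 5940 ∨ cnt G n = 23760 := by
    intro n hn
    rcases hval n hn with h | h | h
    · exfalso
      have hrest : ∀ T : Finset ℕ, T ⊆ R → ∃ A B, ∑ m ∈ T, cnt G m = 220 * (20 * A + 27 * B) := by
        intro T hT
        induction T using Finset.induction_on with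
        | empty => exact ⟨0, 0, by simp⟩
        | insert m T hm ih =>
          obtain ⟨A, B, hAB⟩ := ih ((Finset.subset_insert m T).trans hT)
          rw [Finset.sum_insert hm, hAB]
          rcases hval m (hT (Finset.mem_insert_self m T)) with e | e | e <;> rw [e]
          exacts [⟨A + 1, B, by ring⟩, ⟨A, B + 1, by ring⟩, ⟨A, B + 4, by ring⟩]
      obtain ⟨A, B, hAB⟩ := hrest (R.erase n) (Finset.erase_subset n R)
      rw [← Finset.sum_erase_add R _ hn, hAB, h] at hEsum
      have : 20 * A + 27 * B = 223 := by omega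
      omega
    · exact Or.inl h
    · exact Or.inr h
  have hd5940 : ∀ T : Finset ℕ, T ⊆ R → 5940 ∣ ∑ m ∈ T, cnt G m := fun T hT =>
    Finset.dvd_sum fun m hm => by rcases hunit m (hT hm) with e | e <;> rw [e] <;> norm_num
  -- Frobenius at 64 and 192
  set R64 := R.filter (· ∣ 64) with hR64
  set R192 := R.filter (fun n => n ∣ 192 ∧ ¬ n ∣ 64) with hR192
  set R0 := R.filter (fun n => ¬ n ∣ 192) with hR0
  have hsplit : ∑ n ∈ R64, cnt G n + ∑ n ∈ R192, cnt G n + ∑ n ∈ R0, cnt G n = 53460 := by
    rw [← hEsum, ← Finset.sum_filter_add_sum_filter_not R (fun n => n ∣ 192),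
      ← Finset.sum_filter_add_sum_filter_not (R.filter fun n => n ∣ 192) (fun n => n ∣ 64)]
    congr 1
    congr 1 <;> refine Finset.sum_congr ?_ fun _ _ => rfl <;> ext n <;>
      simp only [hR64, hR192, Finset.mem_filter]
    · exact ⟨fun h => ⟨⟨h.1, dvd_trans h.2 (by norm_num)⟩, h.2⟩, fun h => ⟨h.1.1, h.2⟩⟩
    · exact ⟨fun h => ⟨⟨h.1, h.2.1⟩, h.2.2⟩, fun h => ⟨h.1.1, h.1.2, h.2⟩⟩
  have hfrob : ∀ N : ℕ, N ∣ 95040 → N ∣ ∑ n ∈ S.filter (· ∣ N), cnt G n := by
    intro N hN
    have h := CfsgLib.FrobRoots.gcd_dvd_card_pow_eq_one G N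
    rw [H.card, Nat.gcd_eq_left hN] at h
    refine h.trans (dvd_of_eq ?_)
    rw [← hsumP]
    exact Nat.card_congr (Equiv.subtypeEquivRight fun g => orderOf_dvd_iff_pow_eq_one.symm)
  have h64 : ∑ n ∈ S.filter (· ∣ 64), cnt G n = 892 + ∑ n ∈ R64, cnt G n := by
    rw [← Finset.sum_filter_add_sum_filter_not (S.filter (· ∣ 64)) (fun n => n ∈ E), Finset.filter_filter,
      Finset.filter_filter]
    congr 1
    · rw [show S.filter (fun n => n ∣ 64 ∧ n ∈ E) = {1, 2} from ?_, Finset.sum_pair (by norm_num), cnt_one,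
        H.two_count]
      ext n
      simp only [hE, Finset.mem_filter, Finset.mem_insert, Finset.mem_singleton]
      constructor
      · rintro ⟨-, hd, rfl | rfl | rfl | rfl | rfl | rfl⟩ <;> first | omega | (norm_num at hd)
      · rintro (rfl | rfl)
        · exact ⟨hmemS.2 ⟨1, orderOf_one⟩, by norm_num, by norm_num⟩
        · exact ⟨hmemS.2 (exists_of_cnt (by rw [H.two_count]; norm_num)), by norm_num, by norm_num⟩
    · refine Finset.sum_congr ?_ fun _ _ => rfl
      ext n
      simp only [hR64, Finset.mem_filter, hmemR]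
      exact ⟨fun h => ⟨⟨h.1, h.2.2⟩, h.2.1⟩, fun h => ⟨h.1.1, h.2, h.1.2⟩⟩
  have h192 : ∑ n ∈ S.filter (· ∣ 192), cnt G n = 5292 + ∑ n ∈ R64, cnt G n + ∑ n ∈ R192, cnt G n := by
    rw [← Finset.sum_filter_add_sum_filter_not (S.filter (· ∣ 192)) (fun n => n ∈ E), Finset.filter_filter,
      Finset.filter_filter, add_assoc]
    congr 1
    · rw [show S.filter (fun n => n ∣ 192 ∧ n ∈ E) = {1, 2, 3} from ?_, Finset.sum_insert (by decide),
        Finset.sum_pair (by norm_num), cnt_one, H.two_count, H.three_count]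
      · norm_num
      ext n
      simp only [hE, Finset.mem_filter, Finset.mem_insert, Finset.mem_singleton]
      constructor
      · rintro ⟨-, hd, rfl | rfl | rfl | rfl | rfl | rfl⟩ <;> first | omega | (norm_num at hd)
      · rintro (rfl | rfl | rfl)
        · exact ⟨hmemS.2 ⟨1, orderOf_one⟩, by norm_num, by norm_num⟩
        · exact ⟨hmemS.2 (exists_of_cnt (by rw [H.two_count]; norm_num)), by norm_num, by norm_num⟩
        · exact ⟨hmemS.2 (exists_of_cnt (by rw [H.three_count]; norm_num)), by norm_num, by norm_num⟩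
    · rw [← Finset.sum_filter_add_sum_filter_not (S.filter fun n => n ∣ 192 ∧ n ∉ E) (fun n => n ∣ 64)]
      congr 1 <;> refine Finset.sum_congr ?_ fun _ _ => rfl <;> ext n <;>
        simp only [hR64, hR192, Finset.mem_filter, hmemR]
      · exact ⟨fun h => ⟨⟨h.1.1, h.1.2.2⟩, h.2⟩, fun h => ⟨⟨h.1.1, dvd_trans h.2 (by norm_num), h.1.2⟩, h.2⟩⟩
      · exact ⟨fun h => ⟨⟨h.1.1, h.1.2.2⟩, h.1.2.1, h.2⟩, fun h => ⟨⟨h.1.1, h.2.1, h.1.2⟩, h.2.2⟩⟩
  obtain ⟨i, hi⟩ := hd5940 R64 (Finset.filter_subset _ _)
  obtain ⟨a, ha⟩ := hd5940 R192 (Finset.filter_subset _ _)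
  obtain ⟨o, ho⟩ := hd5940 R0 (Finset.filter_subset _ _)
  have f64 := hfrob 64 (by norm_num)
  have f192 := hfrob 192 (by norm_num)
  rw [h64, hi] at f64
  rw [h192, hi, ha] at f192
  rw [hi, ha, ho] at hsplit
  have hi5 : i = 5 := by omega
  have ha4 : a = 4 := by omega
  have ho0 : o = 0 := by omega
  subst hi5 ha4 ho0
  have hpos : ∀ n ∈ R, 5940 ≤ cnt G n := fun n hn => by rcases hunit n hn with e | e <;> omega
  have hall : ∀ n ∈ R, n ∣ 192 := by
    intro n hn
    by_contra h
    have hle := Finset.single_le_sum (fun m _ => Nat.zero_le (cnt G m))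
      (show n ∈ R0 from Finset.mem_filter.2 ⟨hn, h⟩)
    rw [ho] at hle
    have := hpos n hn
    omega
  have hclosed : ∀ {n d}, n ∈ R → d ∣ n → d ∉ E → d ∈ R := fun {n d} hn hd hdE => by
    obtain ⟨g, hg⟩ := hmemS.1 (hmemR.1 hn).1
    exact hmemR.2 ⟨hmemS.2 (exists_orderOf_dvd hg hd), hdE⟩
  have hdiv : ∀ n ∈ R, n ∈ ({4, 6, 8, 12, 16, 24, 32, 48, 64, 96, 192} : Finset ℕ) := by
    intro n hn
    have h1 := Nat.mem_divisors.2 ⟨hall n hn, (by norm_num : (192 : ℕ) ≠ 0)⟩
    have h2 := (hmemR.1 hn).2
    rw [show (192 : ℕ).divisors = {1, 2, 3, 4, 6, 8, 12, 16, 24, 32, 48, 64, 96, 192} by decide +kernel] at h1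
    simp only [hE, Finset.mem_insert, Finset.mem_singleton] at h1 h2 ⊢
    omega
  have h16 : ∀ n ∈ R, ¬ 16 ∣ n := by
    intro n hn hd
    have h16R := hclosed hn hd (by simp [hE])
    have h4R := hclosed hn (dvd_trans (by norm_num : 4 ∣ 16) hd) (by simp [hE])
    have h8R := hclosed hn (dvd_trans (by norm_num : 8 ∣ 16) hd) (by simp [hE])
    have hsub : ({4, 8, 16} : Finset ℕ) ⊆ R64 := by
      intro m hm
      simp only [Finset.mem_insert, Finset.mem_singleton] at hm
      rcases hm with rfl | rfl | rfl <;> refine Finset.mem_filter.2 ⟨by assumption, by norm_num⟩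
    have hle := Finset.sum_le_sum_of_subset (f := cnt G) hsub
    rw [Finset.sum_insert (by decide), Finset.sum_pair (by norm_num), hi] at hle
    have h8 := totient_dvd_cnt (G := G) 16
    rw [show Nat.totient 16 = 8 by decide] at h8
    have := hpos 4 h4R
    have := hpos 8 h8R
    rcases hunit 16 h16R with e | e <;> omega
  have h24 : ∀ n ∈ R, ¬ 24 ∣ n := by
    intro n hn hd
    have h24R := hclosed hn hd (by simp [hE])
    have h6R := hclosed hn (dvd_trans (by norm_num : 6 ∣ 24) hd) (by simp [hE])
    have hsub : ({6, 24} : Finset ℕ) ⊆ R192 := by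
      intro m hm
      simp only [Finset.mem_insert, Finset.mem_singleton] at hm
      rcases hm with rfl | rfl <;> refine Finset.mem_filter.2 ⟨by assumption, by norm_num, by norm_num⟩
    have hle := Finset.sum_le_sum_of_subset (f := cnt G) hsub
    rw [Finset.sum_pair (by norm_num), ha] at hle
    have h8 := totient_dvd_cnt (G := G) 24
    rw [show Nat.totient 24 = 8 by decide] at h8
    have := hpos 6 h6R
    rcases hunit 24 h24R with e | e <;> omega
  have hR' : ∀ n ∈ R, n = 4 ∨ n = 6 ∨ n = 8 ∨ n = 12 := by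
    intro n hn
    have h := hdiv n hn
    have := h16 n hn
    have := h24 n hn
    simp only [Finset.mem_insert, Finset.mem_singleton] at h
    omega
  have h6sub : R192 ⊆ {6, 12} := by
    intro n hn
    obtain ⟨hnR, -, h64'⟩ := Finset.mem_filter.1 hn
    rcases hR' n hnR with rfl | rfl | rfl | rfl <;> first | (simp; done) | (norm_num at h64')
  have h6R : 6 ∈ R := by
    by_contra h6
    have : R192 = ∅ := Finset.eq_empty_of_forall_notMem fun n hn => by
      have hnR := (Finset.mem_filter.1 hn).1
      have := h6sub hn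
      simp only [Finset.mem_insert, Finset.mem_singleton] at this
      rcases this with rfl | rfl
      · exact h6 hnR
      · exact h6 (hclosed hnR (by norm_num) (by simp [hE]))
    rw [this, Finset.sum_empty] at ha
    omega
  have h12 : 12 ∉ R := by
    intro h12
    have he : R192 = {6, 12} := Finset.Subset.antisymm h6sub fun n hn => by
      simp only [Finset.mem_insert, Finset.mem_singleton] at hn
      rcases hn with rfl | rfl <;> exact Finset.mem_filter.2 ⟨by assumption, by norm_num, by norm_num⟩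
    rw [he, Finset.sum_pair (by norm_num)] at ha
    rcases hunit 6 h6R with e | e <;> rcases hunit 12 h12 with e' | e' <;> omega
  have h6 : cnt G 6 = 23760 := by
    have he : R192 = {6} := Finset.eq_singleton_iff_unique_mem.2
      ⟨Finset.mem_filter.2 ⟨h6R, by norm_num, by norm_num⟩, fun n hn => by
        have := h6sub hn
        simp only [Finset.mem_insert, Finset.mem_singleton] at this
        rcases this with rfl | rfl
        · rfl
        · exact absurd (Finset.mem_filter.1 hn).1 h12⟩
    rw [he, Finset.sum_singleton] at ha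
    omega
  refine ⟨fun g => ?_, h6, ?_⟩
  · by_cases hg : orderOf g ∈ E
    · simp only [hE, Finset.mem_insert, Finset.mem_singleton] at hg ⊢
      omega
    · have hgR : orderOf g ∈ R := hmemR.2 ⟨hmemS.2 ⟨g, rfl⟩, hg⟩
      have := hR' _ hgR
      simp only [Finset.mem_insert, Finset.mem_singleton]
      rcases this with e | e | e | e
      · omega
      · omega
      · omega
      · exact absurd (e ▸ hgR) h12
  · by_contra h8
    have he : R64 ⊆ {4} := fun n hn => by
      obtain ⟨hnR, hd⟩ := Finset.mem_filter.1 hn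
      rcases hR' n hnR with rfl | rfl | rfl | rfl
      · simp
      · norm_num at hd
      · exact absurd (hmemS.1 (hmemR.1 hnR).1) h8
      · norm_num at hd
    have hle := Finset.sum_le_sum_of_subset (f := cnt G) he
    rw [Finset.sum_singleton, hi] at hle
    rcases H.cases 4 with e | e | e | e | e | e | e | e <;> omega

end Counts

end CfsgLib.M12Nse
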