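import Cfsg.Agent.M12Nse.One

/-!
# No involution has a centralizer of order 576
-/

set_option autoImplicit false
set_option linter.style.haveILetI false
set_option linter.unusedSectionVars false

namespace CfsgLib.M12Nse

open Subgroup CfsgLib.M11Nse CfsgLib.SmallSimple

variable {G : Type*} [Group G] [Finite G]

theorem split_card {α : Type*} [Finite α] (P Q : α → Prop) :
    Nat.card {a // P a} = Nat.card {a // P a ∧ Q a} + Nat.card {a // P a ∧ ¬ Q a} := by
  classical
  haveI := Fintype.ofFinite α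
  rw [Nat.card_eq_fintype_card, Nat.card_eq_fintype_card, Nat.card_eq_fintype_card, Fintype.card_subtype,
    Fintype.card_subtype, Fintype.card_subtype,
    ← Finset.card_filter_add_card_filter_not (s := Finset.univ.filter fun a => P a) Q,
    Finset.filter_filter, Finset.filter_filter]

/-- Removing one class from an invariant set. -/
theorem peel {P : G → Prop} (hP : ∀ g h, IsConj g h → P g → P h) {g : G} (hg : P g) :
    Nat.card {w // P w} = (cz g).index + Nat.card {w // P w ∧ ¬ IsConj g w} := by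
  rw [split_card P (IsConj g), ← card_conj g]
  congr 1
  exact Nat.card_congr (Equiv.subtypeEquivRight fun w => ⟨fun h => h.2, fun h => ⟨hP g w h hg, h⟩⟩)

/-- Removing one class from the commuting pairs of an invariant set with elements of order 3. -/
theorem peel_pairs {P : G → Prop} (hP : ∀ g h, IsConj g h → P g → P h) {g : G} (hg : P g) :
    Nat.card {p : G × G // P p.1 ∧ orderOf p.2 = 3 ∧ Commute p.1 p.2} = (cz g).index * f3 g +
      Nat.card {p : G × G // (P p.1 ∧ ¬ IsConj g p.1) ∧ orderOf p.2 = 3 ∧ Commute p.1 p.2} := by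
  rw [split_card _ (fun p : G × G => IsConj g p.1), ← card_conj g,
    ← card_pairs (IsConj g) (fun w x => orderOf x = 3 ∧ Commute w x) fun w hw => f3_conj hw]
  congr 1
  · exact Nat.card_congr (Equiv.subtypeEquivRight fun p => ⟨fun h => ⟨h.2, h.1.2⟩, fun h => ⟨⟨hP g p.1 h.1 hg, h.2⟩, h.1⟩⟩)
  · exact Nat.card_congr (Equiv.subtypeEquivRight fun p => ⟨fun h => ⟨⟨h.1.1, h.2⟩, h.1.2⟩, fun h => ⟨⟨h.1.1, h.2⟩, h.1.2⟩⟩)

/-- A set with no elements has no pairs. -/
theorem pairs_empty {P : G → Prop} (h : Nat.card {w // P w} = 0) :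
    Nat.card {p : G × G // P p.1 ∧ orderOf p.2 = 3 ∧ Commute p.1 p.2} = 0 := by
  rcases Nat.card_eq_zero.1 h with he | hi
  · haveI : IsEmpty {p : G × G // P p.1 ∧ orderOf p.2 = 3 ∧ Commute p.1 p.2} :=
      ⟨fun p => he.false ⟨p.1.1, p.2.1⟩⟩
    exact Nat.card_of_isEmpty
  · exact absurd hi (not_infinite_iff_finite.2 inferInstance)

theorem sup_three_le {C A : Subgroup G} {x : G} (hA : IsPGroup 3 A) (hAC : A ≤ C)
    (hn : ∀ c ∈ C, ∀ a ∈ A, c * a * c⁻¹ ∈ A) (hxC : x ∈ C) (hx : orderOf x = 3) :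
    IsPGroup 3 (A ⊔ zpowers x : Subgroup G) ∧ A ⊔ zpowers x ≤ C := by
  refine ⟨hA.to_sup_of_normal_left' (IsPGroup.of_card (n := 1) (by rw [Nat.card_zpowers, hx, pow_one]))
    (zpowers_le.2 (mem_normalizer_iff.2 fun g => ⟨hn x hxC g, fun hg => ?_⟩)), sup_le hAC (zpowers_le.2 hxC)⟩
  simpa [mul_assoc] using hn x⁻¹ (inv_mem hxC) _ hg

namespace Counts

variable (H : Counts G)
include H

/-- The orders of centralizers of the involutions outside the class with centralizer of order 240. -/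
theorem other {u w : G} (hu : orderOf u = 2) (hu240 : Nat.card (cz u) = 240) (hw : orderOf w = 2)
    (hne : ¬ IsConj u w) : ∃ k, Nat.card (cz w) * k = 1728 ∧ (cz w).index = 55 * k ∧ k ≠ 1 ∧ k ≠ 5 := by
  rcases H.card_cz_invol hw with h | h
  · exact absurd (H.isConj_of_five hu hw (by rw [hu240]; norm_num) (by rw [h]; norm_num)) hne
  obtain ⟨k, hk⟩ := h
  refine ⟨k, hk.symm, ?_, fun h1 => H.no_1728' hw (by rw [hk, h1, mul_one]), fun h5 => by rw [h5] at hk; omega⟩
  have hm := (cz w).card_mul_index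
  rw [H.card] at hm
  refine Nat.eq_of_mul_eq_mul_left (Nat.card_pos (α := cz w)) ?_
  rw [hm, mul_comm 55, ← mul_assoc, ← hk] -- 95040 = 55 * 1728
  rfl


theorem f3_u {u : G} (hu : orderOf u = 2) (h240 : Nat.card (cz u) = 240) : f3 u = 20 := by
  classical
  haveI : Fact (Nat.Prime 3) := ⟨Nat.prime_three⟩
  have hidx : (cz u).index = 396 := by
    have := (cz u).card_mul_index
    rw [h240, H.card] at this
    omega
  have hsix := H.six_split hu
  rw [hidx] at hsix
  have h55 : 55 ∣ Nat.card {p : G × G // (orderOf p.1 = 2 ∧ ¬ IsConj u p.1) ∧ orderOf p.2 = 3 ∧ Commute p.1 p.2} := by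
    have key : ∀ n (P : G → Prop), (∀ g h, IsConj g h → P g → P h) → (∀ g, P g → orderOf g = 2 ∧ ¬ IsConj u g) →
        Nat.card {w // P w} = n → 55 ∣ Nat.card {p : G × G // P p.1 ∧ orderOf p.2 = 3 ∧ Commute p.1 p.2} := by
      intro n
      induction n using Nat.strong_induction_on with
      | _ n ih =>
        intro P hP hPu hn
        by_cases h0 : n = 0
        · rw [pairs_empty (hn.trans h0)]; exact dvd_zero _
        obtain ⟨⟨g, hg⟩⟩ : Nonempty {w // P w} := (Nat.card_pos_iff.1 (by omega)).1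
        obtain ⟨k, -, hi, -, -⟩ := H.other hu h240 (hPu g hg).1 (hPu g hg).2
        rw [peel_pairs hP hg, hi]
        refine Nat.dvd_add (dvd_mul_of_dvd_left (dvd_mul_right 55 k) _) ?_
        have hlt : Nat.card {w // P w ∧ ¬ IsConj g w} < n := by
          have := peel hP hg
          have : 0 < (cz g).index := Nat.pos_of_ne_zero index_ne_zero_of_finite
          omega
        exact ih _ hlt _ (fun a b hab ha => ⟨hP a b hab ha.1, fun h => ha.2 (h.trans hab.symm)⟩)
          (fun a ha => hPu a ha.1) rfl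
    exact key _ _ (fun g h hgh hg => ⟨(orderOf_eq_of_isConj hgh).trans hg.1, fun h' => hg.2 (h'.trans hgh.symm)⟩)
      (fun g hg => hg) rfl
  have hP : ∀ P : Sylow 3 (cz u), Nat.card (P : Subgroup (cz u)) = 3 := fun P => by
    rw [card_sylow_eq P (k := 1) (m := 80) (by rw [h240]; norm_num) (by norm_num), pow_one]
  have hf : f3 u = Nat.card (Sylow 3 (cz u)) * 2 := (f3_eq u).trans (cnt_prime hP)
  obtain ⟨P⟩ : Nonempty (Sylow 3 (cz u)) := inferInstance
  have hd : Nat.card (Sylow 3 (cz u)) ∣ 80 := by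
    have h1 := (P : Subgroup (cz u)).card_mul_index
    rw [hP, h240] at h1
    exact (show (P : Subgroup (cz u)).index = 80 by omega) ▸ P.card_dvd_index
  have hm : Nat.card (Sylow 3 (cz u)) % 3 = 1 := card_sylow_modEq_one 3 _
  have hmem := Nat.mem_divisors.2 ⟨hd, (by norm_num : (80 : ℕ) ≠ 0)⟩
  rw [show (80 : ℕ).divisors = {1, 2, 4, 5, 8, 10, 16, 20, 40, 80} by decide +kernel] at hmem
  simp only [Finset.mem_insert, Finset.mem_singleton] at hmem
  omega

/-- Frobenius's congruence for the elements of order 3 of a centralizer. -/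
theorem f3_dvd {w : G} {j : ℕ} (hj : 3 ^ j ∣ Nat.card (cz w)) : 3 ^ j ∣ f3 w + 1 := by
  classical
  have h := CfsgLib.FrobRoots.gcd_dvd_card_pow_eq_one (cz w) (3 ^ j)
  rw [Nat.gcd_eq_left hj] at h
  rcases Nat.eq_zero_or_pos j with rfl | hj0
  · simp
  refine h.trans (dvd_of_eq ?_)
  haveI := Fintype.ofFinite (cz w)
  rw [f3_eq, cnt, Nat.card_eq_fintype_card, Nat.card_eq_fintype_card, Fintype.card_subtype, Fintype.card_subtype]
  rw [show (Finset.univ.filter fun x : cz w => x ^ 3 ^ j = 1) =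
    insert 1 (Finset.univ.filter fun x => orderOf x = 3) by
      ext x
      simp only [Finset.mem_filter, Finset.mem_univ, true_and, Finset.mem_insert]
      constructor
      · intro hx
        have h3 : (x : G) ^ 3 = 1 := H.three_pow (k := j) (by simpa using congrArg Subtype.val hx)
        by_cases h1 : x = 1
        · exact Or.inl h1
        · exact Or.inr (by rw [← Subgroup.orderOf_coe]; exact orderOf_three h3 fun e => h1 (Subtype.ext e))
      · rintro (rfl | e)
        · exact one_pow _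
        · refine orderOf_dvd_iff_pow_eq_one.1 ?_
          rw [e]
          exact dvd_pow_self 3 (by omega),
    Finset.card_insert_of_notMem (by simp)]

/-- A subgroup of order 27 normalized by a subgroup of small index is impossible. -/
theorem sylow_count_le {T C : Subgroup G} (hT : Nat.card T = 27) (hn : ∀ c ∈ C, ∀ t ∈ T, c * t * c⁻¹ ∈ T) :
    Nat.card (Sylow 3 G) ∣ C.index ∧ 170 ≤ Nat.card (Sylow 3 G) := by
  classical
  haveI : Fact (Nat.Prime 3) := ⟨Nat.prime_three⟩
  obtain ⟨P, hP⟩ := (IsPGroup.of_card (p := 3) (n := 3) (by rw [hT]; norm_num) : IsPGroup 3 T).exists_le_sylow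
  have hPT : T = (P : Subgroup G) := eq_of_le_of_card_ge hP (by rw [H.card_sylow_three P, hT])
  have hCN : C ≤ normalizer ((P : Subgroup G) : Set G) := fun c hc => mem_normalizer_iff.2 fun g => by
    rw [← hPT]
    refine ⟨hn c hc g, fun h => ?_⟩
    simpa [mul_assoc] using hn c⁻¹ (inv_mem hc) _ h
  refine ⟨P.card_eq_index_normalizer ▸ index_dvd_of_le hCN, ?_⟩
  haveI := Fintype.ofFinite (Sylow 3 G)
  have hex : ∀ g : {g : G // orderOf g = 3}, ∃ Q : Sylow 3 G, g.1 ∈ (Q : Subgroup G) := fun g => by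
    obtain ⟨Q, hQ⟩ := (IsPGroup.of_card (p := 3) (n := 1) (by rw [Nat.card_zpowers, g.2, pow_one]) :
      IsPGroup 3 (zpowers g.1)).exists_le_sylow
    exact ⟨Q, hQ (mem_zpowers _)⟩
  choose F hF using hex
  have hle := Nat.card_le_card_of_injective
    (fun g => (⟨F g, ⟨⟨g.1, hF g⟩, fun e => by
      have h1 : g.1 = 1 := congrArg Subtype.val e
      have := g.2
      rw [h1, orderOf_one] at this; norm_num at this⟩⟩ : Σ Q : Sylow 3 G, {x : (Q : Subgroup G) // x ≠ 1}))
    fun g g' h => Subtype.ext (congrArg (fun s : Σ Q : Sylow 3 G, {x : (Q : Subgroup G) // x ≠ 1} => (s.2.1 : G)) h)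
  rw [Nat.card_sigma, Finset.sum_const_nat (m := 26) (fun Q _ => by
    haveI := Fintype.ofFinite (Q : Subgroup G)
    rw [Nat.card_eq_fintype_card, Fintype.card_subtype_compl, Fintype.card_subtype_eq, ← Nat.card_eq_fintype_card,
      H.card_sylow_three Q]), Finset.card_univ, ← Nat.card_eq_fintype_card] at hle
  have h4 : Nat.card {g : G // orderOf g = 3} = 4400 := H.three_count
  omega

theorem card_diff_one (T : Subgroup G) : Nat.card {x : T // x ≠ 1} = Nat.card T - 1 := by
  classical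
  haveI := Fintype.ofFinite T
  rw [Nat.card_eq_fintype_card, Fintype.card_subtype_compl, Fintype.card_subtype_eq, ← Nat.card_eq_fintype_card]

/-- The map of a 3-subgroup of `cz w` into the elements counted by `f3 w`. -/
theorem f3_ge {w : G} {T : Subgroup G} (hT : T ≤ cz w) (hT3 : IsPGroup 3 T) : Nat.card T - 1 ≤ f3 w := by
  rw [← H.card_diff_one T]
  refine Nat.card_le_card_of_injective (fun x => (⟨(x.1 : G), ?_, (mem_cz.1 (hT x.1.2)).symm⟩ :
    {g : G // orderOf g = 3 ∧ Commute w g})) fun a b h => Subtype.ext (Subtype.ext (congrArg Subtype.val h :))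
  obtain ⟨k, hk⟩ := hT3 x.1
  exact orderOf_three (H.three_pow (k := k) (congrArg Subtype.val hk)) fun e => x.2 (Subtype.ext e)

/-- When there are no further elements of order 3 the subgroup is normal. -/
theorem f3_eq_mem {w : G} {T : Subgroup G} (hT : T ≤ cz w) (hT3 : IsPGroup 3 T) (hf : f3 w ≤ Nat.card T - 1)
    {x : G} (hx : orderOf x = 3) (hxw : Commute w x) : x ∈ T := by
  have hb := Nat.bijective_iff_injective_and_card
    (fun x : {x : T // x ≠ 1} => (⟨(x.1 : G), by
      obtain ⟨k, hk⟩ := hT3 x.1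
      exact ⟨orderOf_three (H.three_pow (k := k) (congrArg Subtype.val hk)) fun e => x.2 (Subtype.ext e),
        (mem_cz.1 (hT x.1.2)).symm⟩⟩ : {g : G // orderOf g = 3 ∧ Commute w g}))
  obtain ⟨t, ht⟩ := (hb.2 ⟨fun a b h => Subtype.ext (Subtype.ext (congrArg Subtype.val h :)),
    le_antisymm (by rw [H.card_diff_one T]; exact H.f3_ge hT hT3) (by rw [H.card_diff_one T]; exact hf)⟩).2
    ⟨x, hx, hxw⟩
  have e : (t.1 : G) = x := congrArg Subtype.val ht
  exact e ▸ t.1.2

theorem f3_576 {w : G} (hw : orderOf w = 2) (h : Nat.card (cz w) = 576) : f3 w = 8 := by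
  haveI : Fact (Nat.Prime 3) := ⟨Nat.prime_three⟩
  obtain ⟨A, hAC, hA, hAn⟩ := H.exists_A hw (self_mem_cz w) (fun g hg => mem_cz.1 hg)
    (by rw [h]; norm_num) (by rw [h]; norm_num) (by rw [h]; norm_num)
  have hA3 : IsPGroup 3 A := IsPGroup.of_card (n := 2) (by rw [hA]; norm_num)
  refine le_antisymm ?_ (by simpa [hA] using H.f3_ge hAC hA3)
  have hle := Nat.card_le_card_of_injective
    (fun x : {g : G // orderOf g = 3 ∧ Commute w g} => (⟨⟨x.1, by
      obtain ⟨hp, hle⟩ := sup_three_le hA3 hAC hAn (mem_cz.2 x.2.2.eq.symm) x.2.1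
      obtain ⟨i, hi⟩ := IsPGroup.iff_card.1 hp
      have hd : 3 ^ i ∣ 576 := hi ▸ h ▸ card_dvd_of_le hle
      have hi2 : i ≤ 2 := by
        by_contra hcon
        have := (pow_dvd_pow 3 (show 3 ≤ i by omega)).trans hd
        norm_num at this
      have heq : A = A ⊔ zpowers x.1 := eq_of_le_of_card_ge le_sup_left (by
        rw [hi, hA]; exact Nat.pow_le_pow_right (by norm_num) hi2)
      exact heq ▸ mem_sup_right (mem_zpowers x.1)⟩, fun e => by
      have h1 : x.1 = 1 := congrArg Subtype.val e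
      have := x.2.1
      rw [h1, orderOf_one] at this; norm_num at this⟩ : {a : A // a ≠ 1}))
    fun a b hab => Subtype.ext (congrArg (fun t : {a : A // a ≠ 1} => (t.1 : G)) hab :)
  rw [H.card_diff_one A, hA] at hle
  exact hle

/-- An involution with centralizer of order 288 has not 44 elements of order 3 in it. -/
theorem f3_288 {w : G} (hw : orderOf w = 2) (h : Nat.card (cz w) = 288) : f3 w ≠ 44 := by
  classical
  intro hf
  haveI : Fact (Nat.Prime 3) := ⟨Nat.prime_three⟩
  haveI : Fact (Nat.Prime 2) := ⟨Nat.prime_two⟩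
  haveI := Fintype.ofFinite (Sylow 3 (cz w))
  have hPc : ∀ P : Sylow 3 (cz w), Nat.card (P : Subgroup (cz w)) = 9 := fun P => by
    rw [card_sylow_eq P (k := 2) (m := 32) (by rw [h]; norm_num) (by norm_num)]; norm_num
  have hn : 5 < Nat.card (Sylow 3 (cz w)) := by
    have hex : ∀ g : {g : cz w // orderOf g = 3}, ∃ Q : Sylow 3 (cz w), g.1 ∈ (Q : Subgroup (cz w)) := fun g => by
      obtain ⟨Q, hQ⟩ := (IsPGroup.of_card (p := 3) (n := 1) (by rw [Nat.card_zpowers, g.2, pow_one]) :
        IsPGroup 3 (zpowers g.1)).exists_le_sylow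
      exact ⟨Q, hQ (mem_zpowers _)⟩
    choose F hF using hex
    have hle := Nat.card_le_card_of_injective
      (fun g => (⟨F g, ⟨⟨g.1, hF g⟩, fun e => by
        have h1 : g.1 = 1 := congrArg Subtype.val e
        have := g.2
        rw [h1, orderOf_one] at this; norm_num at this⟩⟩ :
        Σ Q : Sylow 3 (cz w), {x : (Q : Subgroup (cz w)) // x ≠ 1}))
      fun g g' h => Subtype.ext (congrArg (fun s : Σ Q : Sylow 3 (cz w), {x : (Q : Subgroup (cz w)) // x ≠ 1} =>
        (s.2.1 : cz w)) h)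
    rw [Nat.card_sigma, Finset.sum_const_nat (m := 8) (fun Q _ => by
      haveI := Fintype.ofFinite (Q : Subgroup (cz w))
      rw [Nat.card_eq_fintype_card, Fintype.card_subtype_compl, Fintype.card_subtype_eq, ← Nat.card_eq_fintype_card,
        hPc Q]), Finset.card_univ, ← Nat.card_eq_fintype_card] at hle
    have : Nat.card {g : cz w // orderOf g = 3} = 44 := (f3_eq w).symm.trans hf
    omega
  obtain ⟨P⟩ : Nonempty (Sylow 3 (cz w)) := inferInstance
  have hidx : (P : Subgroup (cz w)).index = 2 ^ 5 := by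
    have := (P : Subgroup (cz w)).card_mul_index
    rw [hPc, h] at this
    omega
  obtain ⟨i, hi5, hi⟩ := (Nat.dvd_prime_pow Nat.prime_two).1 (hidx ▸ P.card_dvd_index)
  have hmod : Nat.card (Sylow 3 (cz w)) % 3 = 1 := card_sylow_modEq_one 3 _
  have hn16 : Nat.card (Sylow 3 (cz w)) = 16 := by
    rw [hi] at hn hmod ⊢
    interval_cases i <;> omega
  set N := normalizer ((P : Subgroup (cz w)) : Set (cz w)) with hNdef
  have hN18 : Nat.card N = 18 := by
    have hmul : 16 * Nat.card N = 288 := by rw [← hn16, ← h]; exact CfsgLib.SmallSimple.card_sylow_mul P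
    omega
  set wC : cz w := ⟨w, self_mem_cz w⟩ with hwC
  have hwc : ∀ g : cz w, g * wC = wC * g := fun g => Subtype.ext (mem_cz.1 g.2)
  have hwo : orderOf wC = 2 := by rw [← Subgroup.orderOf_coe]; exact hw
  haveI := IsPGroup.isMulCommutative_of_card_eq_prime_sq (p := 3) (G := (P : Subgroup (cz w))) (by rw [hPc]; norm_num)
  set D := centralizer ((P : Subgroup (cz w)) : Set (cz w)) with hD
  have hDN : D ≤ N := centralizer_le_normalizer _
  have hNC : N ≤ D := by
    have h9 : 9 ∣ Nat.card D := hPc P ▸ card_dvd_of_le (le_centralizer (P : Subgroup (cz w)))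
    have h2 : 2 ∣ Nat.card D := hwo ▸ Subgroup.orderOf_dvd_natCard D (mem_centralizer_iff.2 fun g _ => hwc g)
    have h18 : 18 ∣ Nat.card D := Nat.Coprime.mul_dvd_of_dvd_of_dvd (by norm_num : Nat.Coprime 9 2) h9 h2
    exact (eq_of_le_of_card_ge hDN (hN18 ▸ Nat.le_of_dvd Nat.card_pos h18)).ge
  have hK := MonoidHom.ker_transferSylow_isComplement' P hNC
  set K := (MonoidHom.transferSylow P hNC).ker with hKdef
  have hKn : K.Normal := MonoidHom.normal_ker _
  have hKc : Nat.card K = 32 := by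
    have h' := hK.card_mul_card
    rw [hPc, h] at h'
    omega
  have hwK : wC ∈ K := by
    rw [hKdef, MonoidHom.mem_ker, ← orderOf_eq_one_iff]
    have h1 : orderOf (MonoidHom.transferSylow P hNC wC) ∣ 2 := hwo ▸ orderOf_map_dvd _ _
    have h2 : orderOf (MonoidHom.transferSylow P hNC wC) ∣ 9 := hPc P ▸ orderOf_dvd_natCard _
    have := Nat.dvd_gcd h1 h2
    norm_num at this
    exact orderOf_eq_one_iff.2 (by simpa using this)
  have hK2 : IsPGroup 2 (K.map (cz w).subtype) :=
    (IsPGroup.of_card (p := 2) (n := 5) (by rw [hKc]; norm_num) : IsPGroup 2 K).map _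
  refine H.not_faithful ((P : Subgroup (cz w)).map (cz w).subtype) (K.map (cz w).subtype)
    (by rw [card_map_of_injective (cz w).subtype_injective, hPc]) hK2 hw
    ⟨_, hwK, rfl⟩ (fun b hb => by obtain ⟨c, -, rfl⟩ := hb; exact mem_cz.1 c.2) ?_ ?_
  · rintro _ ⟨c, -, rfl⟩ _ ⟨q, hq, rfl⟩
    exact ⟨c * q * c⁻¹, hKn.conj_mem q hq c, rfl⟩
  · rintro _ ⟨c, hc, rfl⟩ hcK
    by_contra hc1
    have hc3 : orderOf (c : G) = 3 := by
      refine orderOf_three (H.three_pow (k := 2) (orderOf_dvd_iff_pow_eq_one.1 ?_)) hc1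
      rw [Subgroup.orderOf_coe]
      simpa [hPc] using Subgroup.orderOf_dvd_natCard _ hc
    have hle := H.elementary_le (E := K.map (cz w).subtype) fun e he => by
      obtain ⟨k, hk⟩ := hK2 ⟨e, he⟩
      exact H.sq_one_of_three hc3 (hcK e he).symm (k := k) (congrArg Subtype.val hk)
    rw [card_map_of_injective (cz w).subtype_injective, hKc] at hle
    omega

/-- The centralizers of orders 864 and 432. -/
theorem f3_27 {w : G} (h : Nat.card (cz w) = 864 ∨ Nat.card (cz w) = 432) :
    ∃ T : Subgroup G, T ≤ cz w ∧ Nat.card T = 27 ∧ 27 ∣ f3 w + 1 ∧ 26 ≤ f3 w ∧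
      (Nat.card (cz w) = 864 → 53 ≤ f3 w) := by
  haveI : Fact (Nat.Prime 3) := ⟨Nat.prime_three⟩
  obtain ⟨R, hR⟩ := Sylow.exists_subgroup_card_pow_prime 3 (G := cz w) (n := 3) (by rcases h with h | h <;> rw [h] <;> norm_num)
  set T := R.map (cz w).subtype with hT
  have hTc : Nat.card T = 27 := by rw [hT, card_map_of_injective (cz w).subtype_injective, hR]; norm_num
  have hT3 : IsPGroup 3 T := IsPGroup.of_card (n := 3) (by rw [hTc]; norm_num)
  have hTle : T ≤ cz w := map_subtype_le R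
  have hd := H.f3_dvd (w := w) (j := 3) (by rcases h with h | h <;> rw [h] <;> norm_num)
  have hge : 26 ≤ f3 w := by simpa [hTc] using H.f3_ge hTle hT3
  refine ⟨T, hTle, hTc, by simpa using hd, hge, fun h8 => ?_⟩
  by_contra hlt
  norm_num at hd
  have hn : ∀ c ∈ cz w, ∀ t ∈ T, c * t * c⁻¹ ∈ T := by
    intro c hc t ht
    by_cases ht1 : t = 1
    · rw [ht1, mul_one, mul_inv_cancel]; exact one_mem T
    obtain ⟨k, hk⟩ := hT3 ⟨t, ht⟩
    have hto := orderOf_three (H.three_pow (k := k) (congrArg Subtype.val hk)) ht1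
    refine H.f3_eq_mem hTle hT3 (by rw [hTc]; omega) ((orderOf_eq_of_isConj (isConj_iff.2 ⟨c, rfl⟩)).trans hto)
      (mem_cz.1 (mul_mem (mul_mem hc (hTle ht)) (inv_mem hc))).symm
  obtain ⟨hdv, hge'⟩ := H.sylow_count_le hTc hn
  have hm := (cz w).card_mul_index
  rw [h8, H.card] at hm
  have := Nat.le_of_dvd (by omega) hdv
  omega

/-- The classes of involutions beside one with centralizer of order 576. -/
theorem split_576 {u z : G} (hu : orderOf u = 2) (hu240 : Nat.card (cz u) = 240) (hz : orderOf z = 2)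
    (hC : Nat.card (cz z) = 576) : ∃ v w : G, orderOf v = 2 ∧ Nat.card (cz v) = 864 ∧ Nat.card (cz w) = 432 ∧
      f3 v = 80 ∧ f3 w = 26 ∧ ∀ t : G, orderOf t = 2 → IsConj u t ∨ IsConj z t ∨ IsConj v t ∨ IsConj w t := by
  have hzu : ¬ IsConj u z := fun h => by
    have := card_cz_conj h
    rw [hC, hu240] at this
    norm_num at this
  have hidxu : (cz u).index = 396 := by
    have := (cz u).card_mul_index
    rw [hu240, H.card] at this
    omega
  have hidxz : (cz z).index = 165 := by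
    have := (cz z).card_mul_index
    rw [hC, H.card] at this
    omega
  set P0 : G → Prop := fun w => orderOf w = 2 ∧ ¬ IsConj u w with hP0
  have hP0i : ∀ g h, IsConj g h → P0 g → P0 h := fun g h hgh hg =>
    ⟨(orderOf_eq_of_isConj hgh).trans hg.1, fun h' => hg.2 (h'.trans hgh.symm)⟩
  have hW0 : Nat.card {w // P0 w} = 495 := by
    have h' : 891 = (cz u).index + Nat.card {w // P0 w} := H.invol_split hu
    omega
  have hS0 : Nat.card {p : G × G // P0 p.1 ∧ orderOf p.2 = 3 ∧ Commute p.1 p.2} = 15840 := by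
    have this : 23760 = (cz u).index * f3 u +
        Nat.card {p : G × G // P0 p.1 ∧ orderOf p.2 = 3 ∧ Commute p.1 p.2} := H.six_split hu
    rw [hidxu, H.f3_u hu hu240] at this
    omega
  have hz0 : P0 z := ⟨hz, hzu⟩
  rw [peel hP0i hz0, hidxz] at hW0
  rw [peel_pairs hP0i hz0, hidxz, H.f3_576 hz hC] at hS0
  set P1 : G → Prop := fun w => P0 w ∧ ¬ IsConj z w with hP1
  have hP1i : ∀ g h, IsConj g h → P1 g → P1 h := fun g h hgh hg =>
    ⟨hP0i g h hgh hg.1, fun h' => hg.2 (h'.trans hgh.symm)⟩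
  change 165 + Nat.card {w // P1 w} = 495 at hW0
  change 165 * 8 + Nat.card {p : G × G // P1 p.1 ∧ orderOf p.2 = 3 ∧ Commute p.1 p.2} = 15840 at hS0
  obtain ⟨⟨a, ha⟩⟩ : Nonempty {w // P1 w} :=
    (Nat.card_pos_iff.1 (show 0 < Nat.card {w // P1 w} by omega)).1
  obtain ⟨ka, hka, hia, hka1, hka5⟩ := H.other hu hu240 ha.1.1 ha.1.2
  rw [peel hP1i ha, hia] at hW0
  rw [peel_pairs hP1i ha, hia] at hS0
  set P2 : G → Prop := fun w => P1 w ∧ ¬ IsConj a w with hP2
  have hP2i : ∀ g h, IsConj g h → P2 g → P2 h := fun g h hgh hg =>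
    ⟨hP1i g h hgh hg.1, fun h' => hg.2 (h'.trans hgh.symm)⟩
  change 165 + (55 * ka + Nat.card {w // P2 w}) = 495 at hW0
  change 165 * 8 + (55 * ka * f3 a + Nat.card {p : G × G // P2 p.1 ∧ orderOf p.2 = 3 ∧ Commute p.1 p.2}) = 15840 at hS0
  have hka0 : ka ≠ 0 := fun h => by rw [h, mul_zero] at hka; norm_num at hka
  by_cases he2 : Nat.card {w // P2 w} = 0
  · exfalso
    rw [pairs_empty he2] at hS0
    have hk6 : ka = 6 := by omega
    subst hk6
    exact H.f3_288 ha.1.1 (by omega) (by omega)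
  obtain ⟨⟨b, hb⟩⟩ : Nonempty {w // P2 w} := (Nat.card_pos_iff.1 (Nat.pos_of_ne_zero he2)).1
  obtain ⟨kb, hkb, hib, hkb1, hkb5⟩ := H.other hu hu240 hb.1.1.1 hb.1.1.2
  rw [peel hP2i hb, hib] at hW0
  rw [peel_pairs hP2i hb, hib] at hS0
  have hkb0 : kb ≠ 0 := fun h => by rw [h, mul_zero] at hkb; norm_num at hkb
  set P3 : G → Prop := fun w => P2 w ∧ ¬ IsConj b w with hP3
  have hP3i : ∀ g h, IsConj g h → P3 g → P3 h := fun g h hgh hg =>
    ⟨hP2i g h hgh hg.1, fun h' => hg.2 (h'.trans hgh.symm)⟩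
  change 165 + (55 * ka + (55 * kb + Nat.card {w // P3 w})) = 495 at hW0
  change 165 * 8 + (55 * ka * f3 a + (55 * kb * f3 b +
    Nat.card {p : G × G // P3 p.1 ∧ orderOf p.2 = 3 ∧ Commute p.1 p.2})) = 15840 at hS0
  by_cases he3 : Nat.card {w // P3 w} = 0
  swap
  · exfalso
    obtain ⟨⟨c, hc⟩⟩ : Nonempty {w // P3 w} := (Nat.card_pos_iff.1 (Nat.pos_of_ne_zero he3)).1
    obtain ⟨kc, hkc, hic, hkc1, hkc5⟩ := H.other hu hu240 hc.1.1.1.1 hc.1.1.1.2
    have hkc0 : kc ≠ 0 := fun h => by rw [h, mul_zero] at hkc; norm_num at hkc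
    rw [peel hP3i hc, hic] at hW0
    rw [peel_pairs hP3i hc, hic] at hS0
    have hk : ka = 2 ∧ kb = 2 ∧ kc = 2 := by omega
    obtain ⟨rfl, rfl, rfl⟩ := hk
    obtain ⟨-, -, -, -, -, fa⟩ := H.f3_27 (w := a) (Or.inl (by omega))
    obtain ⟨-, -, -, -, -, fb⟩ := H.f3_27 (w := b) (Or.inl (by omega))
    obtain ⟨-, -, -, -, -, fc⟩ := H.f3_27 (w := c) (Or.inl (by omega))
    have := fa (by omega)
    have := fb (by omega)
    have := fc (by omega)
    omega
  have hcover : ∀ t : G, orderOf t = 2 → IsConj u t ∨ IsConj z t ∨ IsConj a t ∨ IsConj b t := by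
    intro t ht
    by_contra hcon
    push Not at hcon
    obtain ⟨h1, h2, h3, h4⟩ := hcon
    have : 0 < Nat.card {w // P3 w} := Nat.card_pos_iff.2 ⟨⟨⟨t, ⟨⟨⟨ht, h1⟩, h2⟩, h3⟩, h4⟩⟩, inferInstance⟩
    omega
  rw [pairs_empty he3] at hS0
  have hk : (ka = 3 ∧ kb = 3) ∨ (ka = 2 ∧ kb = 4) ∨ (ka = 4 ∧ kb = 2) := by omega
  rcases hk with ⟨rfl, rfl⟩ | ⟨rfl, rfl⟩ | ⟨rfl, rfl⟩
  · rw [H.f3_576 ha.1.1 (by omega), H.f3_576 hb.1.1.1 (by omega)] at hS0
    omega
  · obtain ⟨-, -, -, ha27, -, hage⟩ := H.f3_27 (w := a) (Or.inl (by omega))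
    obtain ⟨-, -, -, hb27, hbge, -⟩ := H.f3_27 (w := b) (Or.inr (by omega))
    have := hage (by omega)
    exact ⟨a, b, ha.1.1, by omega, by omega, by omega, by omega, hcover⟩
  · obtain ⟨-, -, -, ha27, hage, -⟩ := H.f3_27 (w := a) (Or.inr (by omega))
    obtain ⟨-, -, -, hb27, -, hbge⟩ := H.f3_27 (w := b) (Or.inl (by omega))
    have := hbge (by omega)
    refine ⟨b, a, hb.1.1.1, by omega, by omega, by omega, by omega, fun t ht => ?_⟩
    rcases hcover t ht with h | h | h | h
    exacts [Or.inl h, Or.inr (Or.inl h), Or.inr (Or.inr (Or.inr h)), Or.inr (Or.inr (Or.inl h))]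

/-- No involution has a centralizer of order 576. -/
theorem no_576 {z : G} (hz : orderOf z = 2) (hC : Nat.card (cz z) = 576) : False := by
  classical
  haveI : Fact (Nat.Prime 3) := ⟨Nat.prime_three⟩
  haveI := Fintype.ofFinite G
  haveI := Fintype.ofFinite (Sylow 3 G)
  obtain ⟨u, hu, hu240, -⟩ := H.exists_u_240
  obtain ⟨v, w, hv, hv8, hw4, hfv, hfw, hcover⟩ := H.split_576 hu hu240 hz hC
  have hvidx : (cz v).index = 110 := by
    have := (cz v).card_mul_index
    rw [hv8, H.card] at this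
    omega
  have hn220 : Nat.card (Sylow 3 G) ≤ 220 := by
    obtain ⟨T, hT, hTc, -, -, -⟩ := H.f3_27 (w := w) (Or.inr hw4)
    have hT3 : IsPGroup 3 T := IsPGroup.of_card (n := 3) (by rw [hTc]; norm_num)
    have hn : ∀ c ∈ cz w, ∀ t ∈ T, c * t * c⁻¹ ∈ T := by
      intro c hc t ht
      by_cases ht1 : t = 1
      · rw [ht1, mul_one, mul_inv_cancel]; exact one_mem T
      obtain ⟨k, hk⟩ := hT3 ⟨t, ht⟩
      exact H.f3_eq_mem hT hT3 (by rw [hTc, hfw])
        ((orderOf_eq_of_isConj (isConj_iff.2 ⟨c, rfl⟩)).trans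
          (orderOf_three (H.three_pow (k := k) (congrArg Subtype.val hk)) ht1))
        (mem_cz.1 (mul_mem (mul_mem hc (hT ht)) (inv_mem hc))).symm
    have hm := (cz w).card_mul_index
    rw [hw4, H.card] at hm
    have := Nat.le_of_dvd (by omega) (H.sylow_count_le hTc hn).1
    omega
  -- the Sylow 3-subgroups of the centralizers of the conjugates of `v`
  let R : G → Sylow 3 G → Prop := fun x P => IsConj v x ∧ (P : Subgroup G) ≤ cz x
  have hsmul : ∀ (c x : G) (P : Sylow 3 G), R (c * x * c⁻¹) (c • P) ↔ R x P := by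
    intro c x P
    refine and_congr ⟨fun h => h.trans (isConj_iff.2 ⟨c, rfl⟩).symm, fun h => h.trans (isConj_iff.2 ⟨c, rfl⟩)⟩ ?_
    constructor
    · intro h g hg
      have h1 := mem_cz.1 (h (show c * g * c⁻¹ ∈ ((c • P : Sylow 3 G) : Subgroup G) from ⟨g, hg, rfl⟩))
      exact mem_cz.2 ((Commute.conj_iff c).1 h1).eq
    · rintro h _ ⟨g, hg, rfl⟩
      exact mem_cz.2 ((Commute.conj_iff c).2 (show Commute g x from mem_cz.1 (h hg))).eq
  set n := Nat.card {P : Sylow 3 G // R v P} with hn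
  have hrow : ∀ x, IsConj v x → Nat.card {P : Sylow 3 G // R x P} = n := by
    intro x hx
    obtain ⟨c, rfl⟩ := isConj_iff.1 hx
    exact (Nat.card_congr (Equiv.subtypeEquiv (MulAction.toPerm c) fun P => (hsmul c v P).symm)).symm
  obtain ⟨P₀⟩ : Nonempty (Sylow 3 G) := inferInstance
  set col := Nat.card {x : G // R x P₀} with hcol
  have hcolP : ∀ P : Sylow 3 G, Nat.card {x : G // R x P} = col := by
    intro P
    obtain ⟨c, rfl⟩ := MulAction.exists_smul_eq G P₀ P
    exact (Nat.card_congr (conjEquiv c (fun x => R x P₀) (fun x => R x (c • P₀)) fun x => (hsmul c x P₀).symm)).symm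
  have hdouble : 110 * n = Nat.card (Sylow 3 G) * col := by
    have h1 := card_pairs (IsConj v) (fun x (P : Sylow 3 G) => R x P) hrow
    have h2 := card_pairs (fun _ : Sylow 3 G => True) (fun P x => R x P) fun P _ => hcolP P
    rw [card_conj, hvidx] at h1
    rw [Nat.card_congr (Equiv.subtypeUnivEquiv fun _ => trivial)] at h2
    rw [← h1, ← h2]
    exact Nat.card_congr
      { toFun := fun p => ⟨(p.1.2, p.1.1), trivial, p.2.2⟩
        invFun := fun p => ⟨(p.1.2, p.1.1), p.2.2.1, p.2.2⟩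
        left_inv := fun _ => rfl
        right_inv := fun _ => rfl }
  -- the elements of order 3 of `cz v` lie in them
  have hcov : ∀ g : {g : G // orderOf g = 3 ∧ Commute v g}, ∃ P : {P : Sylow 3 G // R v P}, g.1 ∈ (P.1 : Subgroup G) := by
    rintro ⟨g, hg, hgv⟩
    obtain ⟨Q, hQ⟩ := (IsPGroup.of_card (n := 1) (by rw [Nat.card_zpowers, ← Subgroup.orderOf_coe]; simpa using hg) :
      IsPGroup 3 (zpowers (⟨g, mem_cz.2 hgv.eq.symm⟩ : cz v))).exists_le_sylow
    obtain ⟨P, hP⟩ := (Q.2.map (cz v).subtype).exists_le_sylow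
    have hPQ : (Q : Subgroup (cz v)).map (cz v).subtype = (P : Subgroup G) := eq_of_le_of_card_ge hP (by
      rw [H.card_sylow_three, card_map_of_injective (cz v).subtype_injective,
        card_sylow_eq Q (k := 3) (m := 32) (by rw [hv8]; norm_num) (by norm_num)]
      norm_num)
    exact ⟨⟨P, IsConj.refl v, hPQ ▸ map_subtype_le _⟩, hP ⟨_, hQ (mem_zpowers _), rfl⟩⟩
  choose F hF using hcov
  haveI := Fintype.ofFinite {P : Sylow 3 G // R v P}
  have hSig : Nat.card (Σ P : {P : Sylow 3 G // R v P}, {x : (P.1 : Subgroup G) // x ≠ 1}) = n * 26 := by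
    rw [Nat.card_sigma, Finset.sum_const_nat (m := 26) (fun P _ => by
      rw [H.card_diff_one, H.card_sylow_three P.1]), Finset.card_univ, ← Nat.card_eq_fintype_card, hn]
  have hn4 : 4 ≤ n := by
    have hle := Nat.card_le_card_of_injective (fun g => (⟨F g, ⟨⟨g.1, hF g⟩, fun e => by
        have h1 : g.1 = 1 := congrArg Subtype.val e
        have := g.2.1
        rw [h1, orderOf_one] at this; norm_num at this⟩⟩ :
        Σ P : {P : Sylow 3 G // R v P}, {x : (P.1 : Subgroup G) // x ≠ 1}))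
      fun a b h => Subtype.ext (congrArg
        (fun t : Σ P : {P : Sylow 3 G // R v P}, {x : (P.1 : Subgroup G) // x ≠ 1} => (t.2.1 : G)) h)
    rw [hSig, show Nat.card {g : G // orderOf g = 3 ∧ Commute v g} = 80 from hfv] at hle
    omega
  have hcol2 : 2 ≤ col := by
    by_contra h
    have := Nat.mul_le_mul hn220 (show col ≤ 1 by omega)
    omega
  -- each element of order 3 commutes with exactly two conjugates of `v`
  have hge : ∀ x : G, orderOf x = 3 → col ≤ nIn v x := by
    intro x hx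
    obtain ⟨P, hP⟩ := (IsPGroup.of_card (p := 3) (n := 1) (by rw [Nat.card_zpowers, hx, pow_one]) :
      IsPGroup 3 (zpowers x)).exists_le_sylow
    rw [← hcolP P]
    exact Nat.card_le_card_of_injective
      (fun y => (⟨y.1, y.2.1, (mem_cz.1 (y.2.2 (hP (mem_zpowers x)))).symm⟩ : {y : G // IsConj v y ∧ y * x = x * y}))
      fun a b h => Subtype.ext (congrArg Subtype.val h :)
  have htwo : ∀ x : G, orderOf x = 3 → nIn v x = 2 ∧ col = 2 := by
    have htot : ∑ x : {x : G // orderOf x = 3}, nIn v x.1 = 110 * 80 := by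
      rw [← hvidx, ← hfv, ← card_conj,
        ← card_pairs (IsConj v) (fun y g => orderOf g = 3 ∧ Commute y g) fun y hy => f3_conj hy]
      rw [show (∑ x : {x : G // orderOf x = 3}, nIn v x.1) =
        Nat.card (Σ x : {x : G // orderOf x = 3}, {y : G // IsConj v y ∧ y * x.1 = x.1 * y}) from
        (Nat.card_sigma).symm]
      exact Nat.card_congr
        { toFun := fun s => ⟨(s.2.1, s.1.1), s.2.2.1, s.1.2, s.2.2.2⟩
          invFun := fun p => ⟨⟨p.1.2, p.2.2.1⟩, ⟨p.1.1, p.2.1, p.2.2.2⟩⟩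
          left_inv := fun _ => rfl
          right_inv := fun _ => rfl }
    have hcnt : ∑ _x : {x : G // orderOf x = 3}, 2 = 110 * 80 := by
      rw [Finset.sum_const, Finset.card_univ, ← Nat.card_eq_fintype_card, smul_eq_mul,
        show Nat.card {x : G // orderOf x = 3} = 4400 from H.three_count]
    have heq := (Finset.sum_eq_sum_iff_of_le (s := Finset.univ) (f := fun _ : {x : G // orderOf x = 3} => 2)
      (g := fun x => nIn v x.1) fun x _ => hcol2.trans (hge x.1 x.2)).1 (hcnt.trans htot.symm)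
    intro x hx
    have h2 : 2 = nIn v x := heq ⟨x, hx⟩ (Finset.mem_univ _)
    exact ⟨h2.symm, le_antisymm (h2 ▸ hge x hx) hcol2⟩
  -- two of them share an element
  obtain ⟨P₁, P₂, hne, g, hg1, hgP1, hgP2⟩ : ∃ P₁ P₂ : {P : Sylow 3 G // R v P}, P₁ ≠ P₂ ∧
      ∃ g : G, g ≠ 1 ∧ g ∈ (P₁.1 : Subgroup G) ∧ g ∈ (P₂.1 : Subgroup G) := by
    by_contra hcon
    push Not at hcon
    have hle := Nat.card_le_card_of_injective
      (fun s : Σ P : {P : Sylow 3 G // R v P}, {x : (P.1 : Subgroup G) // x ≠ 1} => (⟨(s.2.1 : G), by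
        obtain ⟨k, hk⟩ := s.1.1.2 s.2.1
        exact ⟨orderOf_three (H.three_pow (k := k) (congrArg Subtype.val hk)) fun e => s.2.2 (Subtype.ext e),
          (mem_cz.1 (s.1.2.2 s.2.1.2)).symm⟩⟩ : {g : G // orderOf g = 3 ∧ Commute v g})) (by
      rintro ⟨P, x, hx⟩ ⟨Q, y, hy⟩ h
      have hxy : (x : G) = y := congrArg Subtype.val h
      obtain rfl : P = Q := by
        by_contra hPQ
        exact hcon P Q hPQ x (fun e => hx (Subtype.ext e)) x.2 (hxy ▸ y.2)
      simp only [Sigma.mk.injEq, heq_eq_eq, true_and]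
      exact Subtype.ext (Subtype.ext hxy))
    rw [hSig, show Nat.card {g : G // orderOf g = 3 ∧ Commute v g} = 80 from hfv] at hle
    omega
  have hg3 : orderOf g = 3 := by
    obtain ⟨k, hk⟩ := P₁.1.2 ⟨g, hgP1⟩
    exact orderOf_three (H.three_pow (k := k) (congrArg Subtype.val hk)) hg1
  obtain ⟨hnin, hc2⟩ := htwo g hg3
  have hc1 : Nat.card {x : G // R x P₁.1} = 2 := (hcolP _).trans hc2
  have hc2' : Nat.card {x : G // R x P₂.1} = 2 := (hcolP _).trans hc2
  obtain ⟨⟨v', hv'⟩, hv'ne⟩ : ∃ x : {x : G // R x P₁.1}, x.1 ≠ v := by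
    by_contra hcon
    push Not at hcon
    haveI : Subsingleton {x : G // R x P₁.1} := ⟨fun a b => Subtype.ext ((hcon a).trans (hcon b).symm)⟩
    have := Finite.card_le_one_iff_subsingleton.2 ‹Subsingleton {x : G // R x P₁.1}›
    omega
  obtain ⟨⟨v'', hv''⟩, hv''ne⟩ : ∃ x : {x : G // R x P₂.1}, x.1 ≠ v := by
    by_contra hcon
    push Not at hcon
    haveI : Subsingleton {x : G // R x P₂.1} := ⟨fun a b => Subtype.ext ((hcon a).trans (hcon b).symm)⟩
    have := Finite.card_le_one_iff_subsingleton.2 ‹Subsingleton {x : G // R x P₂.1}›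
    omega
  have hin : ∀ x : G, IsConj v x → x * g = g * x → x = v ∨ x = v' := by
    intro x hx hxg
    by_contra hcon
    push Not at hcon
    have h3 : Nat.card (Fin 3) ≤ nIn v g := Nat.card_le_card_of_injective
      (fun i : Fin 3 => (![⟨v, IsConj.refl v, (mem_cz.1 (P₁.2.2 hgP1)).symm⟩,
        ⟨v', hv'.1, (mem_cz.1 (hv'.2 hgP1)).symm⟩, ⟨x, hx, hxg⟩] i : {y : G // IsConj v y ∧ y * g = g * y})) (by
      intro i j hij
      have h' := congrArg Subtype.val hij
      fin_cases i <;> fin_cases j <;> simp at h' ⊢ <;>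
        first
          | exact hv'ne h'.symm
          | exact hv'ne h'
          | exact hcon.1 h'.symm
          | exact hcon.1 h'
          | exact hcon.2 h'.symm
          | exact hcon.2 h')
    rw [Nat.card_fin, hnin] at h3
    omega
  have hv'P2 : (P₂.1 : Subgroup G) ≤ cz v' := by
    rcases hin v'' hv''.1 (mem_cz.1 (hv''.2 hgP2)).symm with e | e
    · exact absurd e hv''ne
    · exact e ▸ hv''.2
  -- the product of the two conjugates
  set r := v * v' with hr
  have hvi : v * v = 1 := by rw [← sq, ← hv, pow_orderOf_eq_one]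
  have hv'i : v' * v' = 1 := by rw [← sq, ← hv, ← orderOf_eq_of_isConj hv'.1, pow_orderOf_eq_one]
  have hrc : ∀ P : {P : Sylow 3 G // R v P}, (P.1 : Subgroup G) ≤ cz v' → (P.1 : Subgroup G) ≤ cz r :=
    fun P hP y hy => mem_cz.2 (Commute.mul_right (mem_cz.1 (P.2.2 hy)) (mem_cz.1 (hP hy))).eq
  have hr1 := hrc P₁ hv'.2
  have hr2 := hrc P₂ hv'P2
  have hrne : r ≠ 1 := fun e => hv'ne (by
    have := congrArg (v * ·) e
    simp only [hr, ← mul_assoc, hvi, one_mul, mul_one] at this
    exact this)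
  have hgr : r * g = g * r := (mem_cz.1 (hr1 hgP1)).symm
  have hnd : ¬ 3 ∣ orderOf r := by
    intro hd
    obtain ⟨e, he⟩ := hd
    set y := r ^ e with hy
    have hy3 : orderOf y = 3 := by
      have he0 : e ≠ 0 := fun h => (orderOf_pos r).ne' (by rw [he, h, mul_zero])
      rw [hy, orderOf_pow' r he0, he, Nat.gcd_mul_left_left, Nat.mul_div_cancel _ (Nat.pos_of_ne_zero he0)]
    have hyP : y ∈ (P₁.1 : Subgroup G) := by
      have hp : IsPGroup 3 ((P₁.1 : Subgroup G) ⊔ zpowers y : Subgroup G) :=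
        P₁.1.2.to_sup_of_normal_left' (IsPGroup.of_card (n := 1) (by rw [Nat.card_zpowers, hy3, pow_one]))
          (zpowers_le.2 (centralizer_le_normalizer _ (mem_centralizer_iff.2 fun x hx =>
            ((show Commute x r from mem_cz.1 (hr1 hx)).pow_right e).eq)))
      exact (P₁.1.3 hp le_sup_left) ▸ mem_sup_right (mem_zpowers y)
    have h1 : Commute v y := (mem_cz.1 (P₁.2.2 hyP)).symm
    have hinv : v * r * v⁻¹ = r⁻¹ := by
      rw [hr, mul_inv_rev, inv_eq_of_mul_eq_one_right hvi, inv_eq_of_mul_eq_one_right hv'i,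
        ← mul_assoc v v v', hvi, one_mul]
    have h2 : v * y * v⁻¹ = y⁻¹ := by rw [hy, ← conj_pow, hinv, inv_pow]
    rw [h1.eq, mul_inv_cancel_right] at h2
    have h3 : y ^ 2 = 1 := by rw [sq]; nth_rw 2 [h2]; exact mul_inv_cancel y
    have := orderOf_dvd_of_pow_eq_one h3
    rw [hy3] at this; norm_num at this
  have hrr : r * r = 1 := by
    rcases H.order_mem r with e | e | e | e | e | e | e | e | e
    · exact absurd (orderOf_eq_one_iff.1 e) hrne
    · rw [← sq, ← e, pow_orderOf_eq_one]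
    · exact absurd (by rw [e]) hnd
    · exact H.sq_one_of_three hg3 hgr (k := 2) (by rw [show (2 : ℕ) ^ 2 = 4 from rfl, ← e, pow_orderOf_eq_one])
    · have := H.orderOf_commute_five e hgr.symm; rw [hg3] at this; norm_num at this
    · exact absurd (by rw [e]; norm_num) hnd
    · exact H.sq_one_of_three hg3 hgr (k := 3) (by rw [show (2 : ℕ) ^ 3 = 8 from rfl, ← e, pow_orderOf_eq_one])
    · have h5 : orderOf (r ^ 2) = 5 := by rw [orderOf_pow' r two_ne_zero, e]; norm_num
      have := H.orderOf_commute_five h5 ((show Commute g r from hgr.symm).pow_right 2).eq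
      rw [hg3] at this; norm_num at this
    · haveI : Fact (Nat.Prime 11) := ⟨by norm_num⟩
      have := H.orderOf_of_commute e hgr.symm; rw [hg3] at this; norm_num at this
  have hro : orderOf r = 2 := orderOf_eq_prime (by rw [sq]; exact hrr) hrne
  have h27 : 27 ∣ Nat.card (cz r) := H.card_sylow_three P₁.1 ▸ card_dvd_of_le hr1
  rcases hcover r hro with h | h | h | h
  · rw [card_cz_conj h, hu240] at h27; norm_num at h27
  · rw [card_cz_conj h, hC] at h27; norm_num at h27
  · rcases hin r h hgr with e | e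
    · have hv'1 : v' = 1 := by rwa [hr, mul_eq_left] at e
      have := (orderOf_eq_of_isConj hv'.1).trans hv
      rw [hv'1, orderOf_one] at this; norm_num at this
    · have hv1 : v = 1 := by rwa [hr, mul_eq_right] at e
      rw [hv1, orderOf_one] at hv; norm_num at hv
  · refine hne (Subtype.ext (Sylow.ext (eq_of_le_of_card_ge (fun x hx => ?_) (by
      rw [H.card_sylow_three, H.card_sylow_three])).symm))
    by_cases hx1 : x = 1
    · rw [hx1]; exact one_mem _
    obtain ⟨k, hk⟩ := P₂.1.2 ⟨x, hx⟩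
    exact H.f3_eq_mem hr1 P₁.1.2 (by rw [f3_conj h, hfw, H.card_sylow_three])
      (orderOf_three (H.three_pow (k := k) (congrArg Subtype.val hk)) hx1) (mem_cz.1 (hr2 hx)).symm

end Counts

end CfsgLib.M12Nse
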